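import Mathlib
import Cfsg.Agent.Lib.CoprimeHyperplane

/-!
# A lower bound for coprime modules of elementary abelian groups (helper725)

`card_ge` : an elementary abelian group of order `p ^ k` acting faithfully on the finite abelian `q`-group `R`,
`q ≠ p` : `(p + 1) ^ k ≤ |R|`.
-/

set_option autoImplicit false

namespace Cfsg.Agent.H725.AbBound

open Subgroup Cfsg.Agent.Lib.CoprimeHyperplane

universe u v

/-- the orbit of a non-fixed point has at least `p` elements -/
theorem card_fix_ge {A : Type u} {R : Type v} [CommGroup A] [Finite A] [CommGroup R] [Finite R] {p : ℕ}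
    (hp : p.Prime) (φ : A →* MulAut R) {B : Subgroup A} (hB : B.index = p) {x : R} (hx : x ∈ fix φ B)
    {a : A} (ha : φ a x ≠ x) : p + 1 ≤ Nat.card (fix φ B) := by
  let act : MulAction A R := MulAction.compHom R φ
  have hact : ∀ (a : A) (y : R), a • y = φ a y := fun a y => rfl
  have h1 : B ≤ MulAction.stabilizer A x := by
    intro b hb
    rw [MulAction.mem_stabilizer_iff, hact]
    exact hx b hb
  have h2 : (MulAction.stabilizer A x).index = p := by
    rcases (Nat.dvd_prime hp).1 (hB ▸ Subgroup.index_dvd_of_le h1) with h | h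
    · exfalso
      rw [Subgroup.index_eq_one] at h
      have : a ∈ MulAction.stabilizer A x := by rw [h]; trivial
      rw [MulAction.mem_stabilizer_iff, hact] at this
      exact ha this
    · exact h
  have h3 : (MulAction.orbit A x).ncard = p := by
    rw [← h2, MulAction.index_stabilizer]
  have h4 : insert 1 (MulAction.orbit A x) ⊆ (fix φ B : Set R) := by
    rintro y (rfl | ⟨b, rfl⟩)
    · exact one_mem _
    · exact fix_invariant φ B b hx
  have h5 : (1 : R) ∉ MulAction.orbit A x := by
    rintro ⟨b, hb⟩
    have hb' : φ b x = 1 := hb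
    have h6 : x = 1 := by
      rwa [map_eq_one_iff _ (φ b).injective] at hb'
    rw [h6, map_one] at ha
    exact ha rfl
  have h6 := Set.ncard_le_ncard h4 (Set.toFinite _)
  rw [Set.ncard_insert_of_notMem h5 (Set.toFinite _), h3] at h6
  rwa [← Nat.card_coe_set_eq] at h6

theorem card_ge {p q : ℕ} [hp : Fact p.Prime] [hq : Fact q.Prime] (hpq : p ≠ q) :
    ∀ (k : ℕ) (A : Type u) (R : Type v) [CommGroup A] [Finite A] [CommGroup R] [Finite R]
      (φ : A →* MulAut R), Function.Injective φ → (∀ a : A, a ^ p = 1) → IsPGroup q R →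
      Nat.card A = p ^ k → (p + 1) ^ k ≤ Nat.card R := by
  intro k
  induction k with
  | zero =>
    intro A R _ _ _ _ φ _ _ _ _
    rw [pow_zero]
    exact Nat.card_pos
  | succ k ih =>
    intro A R _ _ _ _ φ hφ hA hR hcard
    have hnt : Nontrivial A := by
      rw [← Finite.one_lt_card_iff_nontrivial, hcard]
      exact Nat.one_lt_pow (Nat.succ_ne_zero k) hp.out.one_lt
    have htop := iSup_fix_eq_top_of_isPGroup φ hpq hA hR
    obtain ⟨a₀, ha₀⟩ := exists_ne (1 : A)
    obtain ⟨x₀, hx₀⟩ : ∃ x, φ a₀ x ≠ x := by
      by_contra hcon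
      push Not at hcon
      apply ha₀
      apply hφ
      rw [map_one]
      exact MulEquiv.ext hcon
    have h1 : ∃ B : Subgroup A, B.index = p ∧ ∃ x ∈ fix φ B, ∃ a : A, φ a x ≠ x := by
      by_contra hcon
      push Not at hcon
      have h2 : (⊤ : Subgroup R) ≤ fix φ ⊤ := by
        rw [← htop]
        exact iSup_le fun B x hx a _ => hcon B.1 B.2 x hx a
      exact hx₀ (h2 (mem_top x₀) a₀ (mem_top a₀))
    obtain ⟨B, hB, x, hx, a, ha⟩ := h1
    have h2 := card_fix_ge hp.out φ hB hx ha
    set N := fix φ B with hN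
    have hinv : ∀ b : A, N.map ((φ b : R ≃* R) : R →* R) = N := by
      intro b
      apply le_antisymm
      · rintro _ ⟨y, hy, rfl⟩
        exact fix_invariant φ B b hy
      · intro y hy
        refine ⟨φ b⁻¹ y, fix_invariant φ B b⁻¹ hy, ?_⟩
        change φ b (φ b⁻¹ y) = y
        rw [← MulAut.mul_apply, ← map_mul, mul_inv_cancel, map_one, MulAut.one_apply]
    let ψ : B →* MulAut (R ⧸ N) :=
      { toFun := fun b => QuotientGroup.congr N N (φ (b : A)) (hinv b)
        map_one' := by
          ext y
          obtain ⟨y, rfl⟩ := QuotientGroup.mk_surjective y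
          change ((φ ((1 : B) : A) y : R) : R ⧸ N) = (y : R ⧸ N)
          rw [Subgroup.coe_one, map_one, MulAut.one_apply]
        map_mul' := fun b c => by
          ext y
          obtain ⟨y, rfl⟩ := QuotientGroup.mk_surjective y
          change ((φ ((b * c : B) : A) y : R) : R ⧸ N) = ((φ (b : A) (φ (c : A) y) : R) : R ⧸ N)
          rw [Subgroup.coe_mul, map_mul, MulAut.mul_apply] }
    have hψ : ∀ (b : B) (y : R), ψ b (y : R ⧸ N) = ((φ (b : A) y : R) : R ⧸ N) := fun b y => rfl
    have hcop : Nat.Coprime p (Nat.card R) := by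
      obtain ⟨n, hn⟩ := IsPGroup.iff_card.1 hR
      rw [hn]
      exact Nat.Coprime.pow_right n ((Nat.coprime_primes hp.out hq.out).2 hpq)
    have hψi : Function.Injective ψ := by
      rw [injective_iff_map_eq_one]
      intro b hb
      apply Subtype.ext
      apply hφ
      rw [Subgroup.coe_one, map_one]
      ext y
      rw [MulAut.one_apply]
      have h3 : ψ b (y : R ⧸ N) = (y : R ⧸ N) := by rw [hb]; rfl
      rw [hψ] at h3
      have h4 : y⁻¹ * φ (b : A) y ∈ N := QuotientGroup.eq.1 h3.symm
      set c := y⁻¹ * φ (b : A) y with hc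
      have h5 : φ (b : A) c = c := h4 b b.2
      have h6 : ∀ n : ℕ, φ ((b : A) ^ n) y = y * c ^ n := by
        intro n
        induction n with
        | zero => rw [pow_zero, pow_zero, map_one, MulAut.one_apply, mul_one]
        | succ n ihn =>
          rw [pow_succ', map_mul, MulAut.mul_apply, ihn, map_mul, map_pow, h5]
          have : φ (b : A) y = y * c := by rw [hc]; group
          rw [this, pow_succ', mul_assoc]
      have h7 := h6 p
      rw [hA, map_one, MulAut.one_apply] at h7
      have h8 : c ^ p = 1 := by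
        have : y * c ^ p = y * 1 := by rw [← h7, mul_one]
        exact mul_left_cancel this
      have h9 : orderOf c ∣ p := orderOf_dvd_of_pow_eq_one h8
      have h10 := Nat.eq_one_of_dvd_coprimes hcop h9 (orderOf_dvd_natCard c)
      rw [orderOf_eq_one_iff] at h10
      have : φ (b : A) y = y * c := by rw [hc]; group
      rw [this, h10, mul_one]
    have hcB : Nat.card B = p ^ k := by
      have h3 := B.card_mul_index
      rw [hB, hcard, pow_succ] at h3
      exact Nat.eq_of_mul_eq_mul_right hp.out.pos h3
    have h3 := ih B (R ⧸ N) ψ hψi (fun b => Subtype.ext (hA b)) (hR.to_quotient N) hcB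
    have h4 := N.card_mul_index
    rw [Subgroup.index_eq_card] at h4
    rw [← h4, pow_succ']
    exact Nat.mul_le_mul h2 h3

end Cfsg.Agent.H725.AbBound
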