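import Cfsg.Agent.H725.CodRed
import Cfsg.Agent.H67.PCov

/-!
# Codegrees inside those of a quasisimple group: central minimal normal subgroups (helper725)

`good_of_noPCov` : if `H` has no perfect central extension of order `|V|` then `G` is good.
-/

set_option autoImplicit false

namespace Cfsg.Agent.H725.Cod

open Cfsg Cfsg.Agent.H67
open scoped commutatorElement

universe u v w

/-- the commutator subgroup of a central extension of a perfect group is perfect -/
theorem perfect_commutator {X : Type u} {H : Type v} [Group X] [Group H] {b : X →* H}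
    (hb : Function.Surjective b) (hk : b.ker ≤ Subgroup.center X) (hH : commutator H = ⊤) :
    commutator (commutator X) = ⊤ := by
  have h1 : ∀ x : X, ∃ d ∈ commutator X, ∃ k ∈ Subgroup.center X, x = d * k := by
    intro x
    have h2 : b x ∈ (commutator X).map b := by
      rw [commutator_def, Subgroup.map_commutator, Subgroup.map_top_of_surjective b hb, ← commutator_def, hH]
      trivial
    obtain ⟨d, hd, hdx⟩ := h2
    refine ⟨d, hd, d⁻¹ * x, hk ?_, by group⟩
    rw [MonoidHom.mem_ker, map_mul, map_inv, hdx, inv_mul_cancel]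
  have h2 : commutator X ≤ ⁅commutator X, commutator X⁆ := by
    conv_lhs => rw [commutator_def]
    rw [Subgroup.commutator_le]
    rintro x - y -
    obtain ⟨d, hd, k, hk, rfl⟩ := h1 x
    obtain ⟨d', hd', k', hk', rfl⟩ := h1 y
    rw [Subgroup.mem_center_iff] at hk hk'
    have h3 : ⁅d * k, d' * k'⁆ = ⁅d, d'⁆ := by
      rw [commutatorElement_def, commutatorElement_def, mul_inv_rev, mul_inv_rev]
      have e1 : d * k * (d' * k') = d * d' * (k * k') := by
        rw [mul_assoc d k, ← mul_assoc k d', ← hk d']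
        group
      have e2 : k⁻¹ * d⁻¹ * (k'⁻¹ * d'⁻¹) = (k * k')⁻¹ * (d⁻¹ * d'⁻¹) := by
        have h4 : d⁻¹ * k'⁻¹ = k'⁻¹ * d⁻¹ := by
          rw [← mul_inv_rev, ← mul_inv_rev, hk' d]
        have h5 : k⁻¹ * k'⁻¹ = (k * k')⁻¹ := by rw [mul_inv_rev, ← mul_inv_rev, ← mul_inv_rev, hk' k]
        calc k⁻¹ * d⁻¹ * (k'⁻¹ * d'⁻¹) = k⁻¹ * (d⁻¹ * k'⁻¹) * d'⁻¹ := by group
          _ = k⁻¹ * (k'⁻¹ * d⁻¹) * d'⁻¹ := by rw [h4]
          _ = (k⁻¹ * k'⁻¹) * (d⁻¹ * d'⁻¹) := by group
          _ = _ := by rw [h5]
      calc d * k * (d' * k') * (k⁻¹ * d⁻¹) * (k'⁻¹ * d'⁻¹)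
          = d * k * (d' * k') * (k⁻¹ * d⁻¹ * (k'⁻¹ * d'⁻¹)) := by group
        _ = d * d' * (k * k') * ((k * k')⁻¹ * (d⁻¹ * d'⁻¹)) := by rw [e1, e2]
        _ = d * d' * d⁻¹ * d'⁻¹ := by group
    rw [h3]
    exact Subgroup.commutator_mem_commutator hd hd'
  rw [eq_top_iff]
  intro x _
  have h3 := h2 x.2
  rw [← Subgroup.map_subtype_commutator] at h3
  obtain ⟨y, hy, hyx⟩ := h3
  rwa [← Subtype.ext hyx]

/-- a perfect central extension of prime order `r` of `H` or `H / Z(H)` is good if `H` has no perfect central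
extension of order `r` -/
theorem good_of_noPCov {H : Type v} [Group H] [Finite H] (hH : QS H) {G : Type u} [Group G] [Finite G]
    (hperf : commutator G = ⊤) {V : Subgroup G} [V.Normal] (hV : V ≤ Subgroup.center G)
    (hVp : (Nat.card V).Prime) (hg : Good (G ⧸ V) H) (hno : NoPCov (Nat.card V) H) : Good G H := by
  have hmk := QuotientGroup.mk'_surjective V
  rcases hg with ⟨⟨e⟩⟩ | ⟨⟨e⟩⟩
  · exfalso
    have h1 : (e.toMonoidHom.comp (QuotientGroup.mk' V)).ker = V := by
      ext x
      rw [MonoidHom.mem_ker, MonoidHom.comp_apply]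
      change e (QuotientGroup.mk' V x) = 1 ↔ _
      rw [map_eq_one_iff e e.injective]
      exact QuotientGroup.eq_one_iff x
    have h2 := hno.not_dvd_card_ker hVp hperf (f := e.toMonoidHom.comp (QuotientGroup.mk' V))
      (e.surjective.comp hmk) (by rw [h1]; exact hV)
    rw [h1] at h2
    exact h2 dvd_rfl
  · let π : G →* H ⧸ Subgroup.center H := e.toMonoidHom.comp (QuotientGroup.mk' V)
    have hπ : Function.Surjective π := e.surjective.comp hmk
    have hπ1 : ∀ x, π x = 1 ↔ x ∈ V := by
      intro x
      change e (QuotientGroup.mk' V x) = 1 ↔ _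
      rw [map_eq_one_iff e e.injective]
      exact QuotientGroup.eq_one_iff x
    let ρ : H →* H ⧸ Subgroup.center H := QuotientGroup.mk' (Subgroup.center H)
    have hρ : Function.Surjective ρ := QuotientGroup.mk'_surjective _
    let X : Subgroup (G × H) := (π.comp (MonoidHom.fst G H)).eqLocus (ρ.comp (MonoidHom.snd G H))
    have hX : ∀ x : G × H, x ∈ X ↔ π x.1 = ρ x.2 := fun x => Iff.rfl
    let a : X →* G := (MonoidHom.fst G H).comp X.subtype
    let b : X →* H := (MonoidHom.snd G H).comp X.subtype
    have ha : Function.Surjective a := by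
      intro g
      obtain ⟨h, hh⟩ := hρ (π g)
      exact ⟨⟨(g, h), (hX _).2 hh.symm⟩, rfl⟩
    have hb : Function.Surjective b := by
      intro h
      obtain ⟨g, hg⟩ := hπ (ρ h)
      exact ⟨⟨(g, h), (hX _).2 hg⟩, rfl⟩
    have hbk : ∀ x : X, b x = 1 → (x : G × H).1 ∈ V ∧ (x : G × H).2 = 1 := by
      intro x hx
      have h1 : (x : G × H).2 = 1 := hx
      refine ⟨?_, h1⟩
      rw [← hπ1, (hX _).1 x.2, h1, map_one]
    have hbc : b.ker ≤ Subgroup.center X := by
      intro x hx
      obtain ⟨h1, h2⟩ := hbk x hx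
      rw [Subgroup.mem_center_iff]
      intro y
      apply Subtype.ext
      apply Prod.ext
      · exact Subgroup.mem_center_iff.1 (hV h1) _
      · change (y : G × H).2 * (x : G × H).2 = (x : G × H).2 * (y : G × H).2
        rw [h2, one_mul, mul_one]
    have hDp := perfect_commutator hb hbc hH.perf
    let D : Subgroup X := commutator X
    let b' : D →* H := b.comp D.subtype
    have hb' : Function.Surjective b' := by
      intro h
      have h2 : h ∈ (commutator X).map b := by
        rw [commutator_def, Subgroup.map_commutator, Subgroup.map_top_of_surjective b hb, ← commutator_def,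
          hH.perf]
        trivial
      obtain ⟨d, hd, hdx⟩ := h2
      exact ⟨⟨d, hd⟩, hdx⟩
    have hb'c : b'.ker ≤ Subgroup.center D := by
      intro x hx
      have h1 : (x : X) ∈ Subgroup.center X := hbc hx
      rw [Subgroup.mem_center_iff] at h1 ⊢
      intro y
      exact Subtype.ext (h1 y)
    have h3 := hno.not_dvd_card_ker hVp hDp hb' hb'c
    have h4 : Nat.card b'.ker ∣ Nat.card V := by
      let f : b'.ker →* V :=
        { toFun := fun x => ⟨(((x : D) : X) : G × H).1, (hbk _ x.2).1⟩
          map_one' := rfl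
          map_mul' := fun _ _ => rfl }
      refine Subgroup.card_dvd_of_injective f ?_
      intro x y hxy
      have h5 : (((x : D) : X) : G × H).1 = (((y : D) : X) : G × H).1 := congrArg Subtype.val hxy
      have h6 : (((x : D) : X) : G × H).2 = (((y : D) : X) : G × H).2 :=
        (hbk _ x.2).2.trans (hbk _ y.2).2.symm
      exact Subtype.ext (Subtype.ext (Subtype.ext (Prod.ext h5 h6)))
    have h5 : Nat.card b'.ker = 1 := by
      rcases (Nat.dvd_prime hVp).1 h4 with h | h
      · exact h
      · exact absurd (by rw [h]) h3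
    have h6 : b'.ker = ⊥ := Subgroup.card_eq_one.1 h5
    have h7 : Function.Injective b' := (MonoidHom.ker_eq_bot_iff b').1 h6
    let E : D ≃* H := MulEquiv.ofBijective b' ⟨h7, hb'⟩
    let a' : D →* G := a.comp D.subtype
    have ha' : Function.Surjective a' := by
      intro g
      have h2 : g ∈ (commutator X).map a := by
        rw [commutator_def, Subgroup.map_commutator, Subgroup.map_top_of_surjective a ha, ← commutator_def,
          hperf]
        trivial
      obtain ⟨d, hd, hdx⟩ := h2
      exact ⟨⟨d, hd⟩, hdx⟩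
    let c : H →* G := a'.comp E.symm.toMonoidHom
    have hc : Function.Surjective c := ha'.comp E.symm.surjective
    have hG1 : Nontrivial G := by
      by_contra hcon
      rw [not_nontrivial_iff_subsingleton] at hcon
      have : Nat.card V = 1 := Nat.card_unique
      rw [this] at hVp
      exact Nat.not_prime_one hVp
    rcases hH.nor c.ker inferInstance with h8 | h8 | h8
    · exfalso
      obtain ⟨x, hx⟩ := exists_ne (1 : G)
      obtain ⟨h, rfl⟩ := hc x
      have : h ∈ c.ker := by rw [h8]; trivial
      exact hx this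
    · exact Or.inl ⟨(MulEquiv.ofBijective c ⟨(MonoidHom.ker_eq_bot_iff c).1 h8, hc⟩).symm⟩
    · exact Or.inr ⟨(QuotientGroup.quotientKerEquivOfSurjective c hc).symm.trans
        (QuotientGroup.quotientMulEquivOfEq h8)⟩

end Cfsg.Agent.H725.Cod
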