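import Cfsg.Agent.H725.LamOrth
import Cfsg.Agent.H725.CodCen

/-!
# The central case: characters over a faithful central character (helper725)
-/

set_option autoImplicit false

namespace Cfsg.Agent.H725.CenGen

open Cfsg Cfsg.Agent.H725.Cod Cfsg.Agent.H725.Lam
open Cfsg.Agent.H686.CharKit Cfsg.Agent.H677.CodPrime Cfsg.Agent.H677.CodMultiset
open Finset ComplexConjugate
open scoped commutatorElement

universe u v

/-- a character nontrivial on a central subgroup of prime order of a perfect group with simple quotient is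
faithful -/
theorem chKer_bot {G : Type u} [Group G] [Finite G] (hperf : commutator G = ⊤) {V : Subgroup G} [V.Normal]
    (hV : V ≤ Subgroup.center G) (hVp : (Nat.card V).Prime) [IsSimpleGroup (G ⧸ V)] {z : G} (hz : z ∈ V)
    {χ : IrrCharacter G} (h : (χ : G → ℂ) z ≠ (χ : G → ℂ) 1) : chKer χ = ⊥ := by
  have hK : (chKer χ).Normal := inferInstance
  have hzK : z ∉ chKer χ := fun h' => h h'
  have h1 : ((chKer χ).map (QuotientGroup.mk' V)).Normal := hK.map _ (QuotientGroup.mk'_surjective V)
  rcases h1.eq_bot_or_eq_top with h2 | h2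
  · have h3 : chKer χ ≤ V := by
      rw [Subgroup.map_eq_bot_iff, QuotientGroup.ker_mk'] at h2
      exact h2
    have h4 := Subgroup.card_dvd_of_le h3
    rcases (Nat.dvd_prime hVp).1 h4 with h5 | h5
    · exact Subgroup.card_eq_one.1 h5
    · exact absurd (by rw [Subgroup.eq_of_le_of_card_ge h3 h5.ge]; exact hz) hzK
  · exfalso
    have h3 : chKer χ ⊔ V = ⊤ := by
      have h4 := Subgroup.comap_map_eq (QuotientGroup.mk' V) (chKer χ)
      rw [h2, QuotientGroup.ker_mk', Subgroup.comap_top] at h4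
      exact h4.symm
    have h5 : commutator G ≤ chKer χ := by
      rw [commutator_def, Subgroup.commutator_le]
      intro a _ b _
      have ha : a ∈ chKer χ ⊔ V := by rw [h3]; trivial
      have hb : b ∈ chKer χ ⊔ V := by rw [h3]; trivial
      obtain ⟨k, hk, v, hv, rfl⟩ := Subgroup.mem_sup_of_normal_right.1 ha
      obtain ⟨k', hk', v', hv', rfl⟩ := Subgroup.mem_sup_of_normal_right.1 hb
      have e1 : (QuotientGroup.mk' (chKer χ)) ⁅k * v, k' * v'⁆ = 1 := by
        have hkk : QuotientGroup.mk' (chKer χ) k = 1 := (QuotientGroup.eq_one_iff k).2 hk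
        have hkk' : QuotientGroup.mk' (chKer χ) k' = 1 := (QuotientGroup.eq_one_iff k').2 hk'
        rw [map_commutatorElement, map_mul, map_mul, hkk, hkk', one_mul, one_mul, ← map_commutatorElement,
          commutatorElement_eq_one_iff_mul_comm.2 (Subgroup.mem_center_iff.1 (hV hv') v), map_one]
      exact (QuotientGroup.eq_one_iff _).1 e1
    rw [hperf] at h5
    exact hzK (h5 trivial)

/-- the sum of the squares over a central character -/
theorem sum_sq_Lam {G : Type u} [Group G] [Finite G] [Fintype (IrrCharacter G)] {z : G}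
    (hz : z ∈ Subgroup.center G) {n : ℕ} (hzn : orderOf z = n) {c : ℂ} (hc : c ^ n = 1) :
    n * ∑ χ ∈ Lam z c, charDegree (χ : G → ℂ) ^ 2 = Nat.card G := by
  have hn0 : n ≠ 0 := by rw [← hzn]; exact (orderOf_pos z).ne'
  have hn : z ^ n = 1 := by rw [← hzn, pow_orderOf_eq_one]
  have h1 := orth hz hn hn0 hc 1 1 (by
    intro k hk hk0 h
    rw [one_mul, isConj_one_left] at h
    have := orderOf_dvd_of_pow_eq_one h
    rw [hzn] at this
    exact absurd (Nat.le_of_dvd (Nat.pos_of_ne_zero hk0) this) (by omega)) (IsConj.refl _)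
  have h2 : Nat.card (Subgroup.centralizer ({1} : Set G)) = Nat.card G := by
    have : Subgroup.centralizer ({1} : Set G) = ⊤ := by
      rw [eq_top_iff]
      intro g _
      rw [Subgroup.mem_centralizer_singleton_iff, mul_one, one_mul]
    rw [this]
    exact Nat.card_congr Subgroup.topEquiv.toEquiv
  rw [h2] at h1
  have h3 : ∑ χ ∈ Lam z c, (χ : G → ℂ) 1 * conj ((χ : G → ℂ) 1) =
      ((∑ χ ∈ Lam z c, charDegree (χ : G → ℂ) ^ 2 : ℕ) : ℂ) := by
    rw [Nat.cast_sum]
    refine sum_congr rfl fun χ _ => ?_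
    rw [← charDegree_irr, Complex.conj_natCast]
    push_cast
    ring
  rw [h3, eq_inv_mul_iff_mul_eq₀ (Nat.cast_ne_zero.2 hn0)] at h1
  exact_mod_cast h1

theorem finrank_invariants {Q : Type*} [Group Q] [Fintype Q] {V : Type*} [AddCommGroup V] [Module ℂ V]
    [FiniteDimensional ℂ V] (τ : Representation ℂ Q V) :
    (Fintype.card Q : ℂ)⁻¹ * ∑ g : Q, LinearMap.trace ℂ V (τ g) = (Module.finrank ℂ τ.invariants : ℂ) := by
  classical
  have hc : (Fintype.card Q : ℂ) ≠ 0 := by
    have : 0 < Fintype.card Q := Fintype.card_pos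
    exact_mod_cast this.ne'
  have hinv : Invertible (Fintype.card Q : ℂ) := invertibleOfNonzero hc
  rw [← (Representation.isProj_averageMap τ).trace]
  simp [Representation.averageMap, GroupAlgebra.average, map_sum]

/-- the multiplicity of the principal character in the restriction to a subgroup -/
theorem exists_mult {G : Type u} [Group G] [Finite G] (χ : IrrCharacter G) (Q : Subgroup G) [Fintype Q] :
    ∃ m : ℕ, ∑ g : Q, (χ : G → ℂ) g = (Nat.card Q : ℂ) * m := by
  obtain ⟨χ, n, ρ, hρ, rfl⟩ := χ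
  refine ⟨Module.finrank ℂ (Representation.invariants (ρ.comp Q.subtype)), ?_⟩
  have h1 := finrank_invariants (ρ.comp Q.subtype)
  have hc : (Fintype.card Q : ℂ) ≠ 0 := by
    have : 0 < Fintype.card Q := Fintype.card_pos
    exact_mod_cast this.ne'
  rw [inv_mul_eq_iff_eq_mul₀ hc] at h1
  rw [Nat.card_eq_fintype_card, ← h1]
  rfl

/-- restriction of the sum of all characters over `c` to a subgroup of order prime to `n` -/
theorem sum_mult {G : Type u} [Group G] [Finite G] [Fintype (IrrCharacter G)] {z : G}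
    (hz : z ∈ Subgroup.center G) {n : ℕ} (hzn : orderOf z = n) {c : ℂ} (hc : c ^ n = 1) (Q : Subgroup G)
    (hQ : Nat.Coprime (Nat.card Q) n) (m : IrrCharacter G → ℕ)
    (hm : ∀ χ : IrrCharacter G, haveI := Fintype.ofFinite Q; ∑ g : Q, (χ : G → ℂ) g = (Nat.card Q : ℂ) * m χ) :
    n * (Nat.card Q * ∑ χ ∈ Lam z c, charDegree (χ : G → ℂ) * m χ) = Nat.card G := by
  classical
  let _ := Fintype.ofFinite Q
  have hn0 : n ≠ 0 := by rw [← hzn]; exact (orderOf_pos z).ne'
  have hn : z ^ n = 1 := by rw [← hzn, pow_orderOf_eq_one]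
  -- orthogonality with `1`
  have h1 : ∀ g : Q, g ≠ 1 → ∑ χ ∈ Lam z c, (χ : G → ℂ) g * conj ((χ : G → ℂ) 1) = 0 := by
    intro g hg
    refine orth_zero hz hn hn0 hc (g : G) 1 fun k hk h => ?_
    rw [isConj_one_left] at h
    apply hg
    have h2 : (g : G) = (z ^ k)⁻¹ := eq_inv_of_mul_eq_one_left h
    have h3 : orderOf (g : G) ∣ n := by
      rw [h2, orderOf_inv]
      exact orderOf_dvd_of_pow_eq_one (by rw [← pow_mul, mul_comm, pow_mul, hn, one_pow])
    have h4 : orderOf (g : G) ∣ Nat.card Q := by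
      rw [Subgroup.orderOf_coe]
      exact orderOf_dvd_natCard g
    have h5 : orderOf (g : G) ∣ 1 := by
      rw [← hQ.gcd_eq_one]
      exact Nat.dvd_gcd h4 h3
    exact Subtype.ext (orderOf_eq_one_iff.1 (Nat.dvd_one.1 h5))
  have h2 : ∑ g : Q, ∑ χ ∈ Lam z c, (χ : G → ℂ) g * conj ((χ : G → ℂ) 1) =
      ∑ χ ∈ Lam z c, (χ : G → ℂ) 1 * conj ((χ : G → ℂ) 1) := by
    rw [Finset.sum_eq_single 1]
    · rfl
    · intro g _ hg
      exact h1 g hg
    · intro h
      exact absurd (Finset.mem_univ _) h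
  rw [Finset.sum_comm] at h2
  have h3 : ∀ χ ∈ Lam z c, ∑ g : Q, (χ : G → ℂ) g * conj ((χ : G → ℂ) 1) =
      (Nat.card Q : ℂ) * ((charDegree (χ : G → ℂ) * m χ : ℕ) : ℂ) := by
    intro χ _
    rw [← Finset.sum_mul, hm χ, ← charDegree_irr, Complex.conj_natCast]
    push_cast
    ring
  rw [Finset.sum_congr rfl h3, ← Finset.mul_sum] at h2
  have h4 := sum_sq_Lam hz hzn hc
  have h5 : ∑ χ ∈ Lam z c, (χ : G → ℂ) 1 * conj ((χ : G → ℂ) 1) =
      ((∑ χ ∈ Lam z c, charDegree (χ : G → ℂ) ^ 2 : ℕ) : ℂ) := by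
    rw [Nat.cast_sum]
    refine sum_congr rfl fun χ _ => ?_
    rw [← charDegree_irr, Complex.conj_natCast]
    push_cast
    ring
  rw [h5] at h2
  have h6 : Nat.card Q * ∑ χ ∈ Lam z c, charDegree (χ : G → ℂ) * m χ =
      ∑ χ ∈ Lam z c, charDegree (χ : G → ℂ) ^ 2 := by exact_mod_cast h2
  rw [h6, h4]

/-- a generator of a group of prime order -/
theorem exists_gen {G : Type u} [Group G] [Finite G] {V : Subgroup G} (hVp : (Nat.card V).Prime) :
    ∃ z ∈ V, orderOf z = Nat.card V ∧ V = Subgroup.zpowers z := by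
  have := Fact.mk hVp
  obtain ⟨z, hz⟩ := exists_prime_orderOf_dvd_card' (G := V) (Nat.card V) dvd_rfl
  have h1 : orderOf (z : G) = Nat.card V := by rw [Subgroup.orderOf_coe, hz]
  refine ⟨z, z.2, h1, (Subgroup.eq_of_le_of_card_ge ?_ ?_).symm⟩
  · rw [Subgroup.zpowers_le]; exact z.2
  · rw [Nat.card_zpowers, h1]

/-- the quotient is not the full cover unless the prime is the order of the centre -/
theorem no_full {H : Type v} [Group H] [Finite H] (hH : QS H) (hZ : (Nat.card (Subgroup.center H)).Prime)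
    {G : Type u} [Group G] [Finite G] {V : Subgroup G} [V.Normal] (hV : V ≤ Subgroup.center G)
    (hVp : (Nat.card V).Prime) (hne : Nat.card V ≠ Nat.card (Subgroup.center H))
    (hq : ∀ (M : Subgroup G) [M.Normal], M ≠ ⊥ → M ≠ ⊤ → Good (G ⧸ M) H) (e : G ⧸ V ≃* H) : False := by
  obtain ⟨z₀, hz₀, hz₀o, -⟩ := exists_gen hZ
  set d := Nat.card (Subgroup.center H) with hd
  set r := Nat.card V with hr
  obtain ⟨x, hx⟩ := (e.surjective.comp (QuotientGroup.mk'_surjective V)) z₀
  change e (QuotientGroup.mk' V x) = z₀ at hx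
  have hcop : Nat.Coprime r d := (Nat.coprime_primes hVp hZ).2 hne
  -- the element `y = x ^ r`
  have hker : ∀ g : G, QuotientGroup.mk' V g = 1 ↔ g ∈ V := fun g => QuotientGroup.eq_one_iff g
  have hVr : ∀ g ∈ V, g ^ r = 1 := by
    intro g hg
    have := pow_card_eq_one' (x := (⟨g, hg⟩ : V))
    exact congrArg Subtype.val this
  have hyc : x ^ r ∈ Subgroup.center G := by
    rw [Subgroup.mem_center_iff]
    intro g
    -- `[g, x] ∈ V`
    have h1 : g * x * g⁻¹ * x⁻¹ ∈ V := by
      rw [← hker]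
      apply e.injective
      rw [map_mul, map_mul, map_mul, map_inv, map_inv, map_mul, map_mul, map_mul, map_inv, map_inv, hx, map_one,
        Subgroup.mem_center_iff.1 hz₀, mul_inv_cancel_right, mul_inv_cancel]
    set v := g * x * g⁻¹ * x⁻¹ with hv
    have h2 : g * x * g⁻¹ = v * x := by rw [hv]; group
    have h3 : Commute v x := (Subgroup.mem_center_iff.1 (hV h1) x).symm
    have h4 : g * x ^ r * g⁻¹ = x ^ r := by
      rw [← conj_pow, h2, h3.mul_pow, hVr v h1, one_mul]
    exact mul_inv_eq_iff_eq_mul.1 h4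
  have hyd : (x ^ r) ^ d = 1 := by
    have h1 : x ^ d ∈ V := by
      rw [← hker]
      apply e.injective
      rw [map_pow, map_pow, hx, ← hz₀o, pow_orderOf_eq_one, map_one]
    rw [← pow_mul, mul_comm, pow_mul, hVr _ h1]
  have hy1 : x ^ r ≠ 1 := by
    intro h
    have h1 : z₀ ^ r = 1 := by rw [← hx, ← map_pow, ← map_pow, h, map_one, map_one]
    have h2 := orderOf_dvd_of_pow_eq_one h1
    rw [hz₀o] at h2
    exact hne ((Nat.prime_dvd_prime_iff_eq hZ hVp).1 h2).symm
  have hyo : orderOf (x ^ r) = d := by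
    rcases (Nat.dvd_prime hZ).1 (orderOf_dvd_of_pow_eq_one hyd) with h | h
    · exact absurd (orderOf_eq_one_iff.1 h) hy1
    · exact h
  let W := Subgroup.zpowers (x ^ r)
  have hWc : W ≤ Subgroup.center G := by
    rw [Subgroup.zpowers_le]; exact hyc
  have hWn : W.Normal := ⟨fun n hn g => by
    rw [Subgroup.mem_center_iff.1 (hWc hn) g, mul_inv_cancel_right]
    exact hn⟩
  have hWcard : Nat.card W = d := by rw [Nat.card_zpowers, hyo]
  have hWb : W ≠ ⊥ := by
    intro h
    rw [h, Subgroup.card_bot] at hWcard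
    exact hZ.one_lt.ne hWcard
  have hG : Nat.card G = r * (d * (Subgroup.center H).index) := by
    rw [← Subgroup.card_mul_index V, Subgroup.index_eq_card, Nat.card_congr e.toEquiv, hd,
      Subgroup.card_mul_index]
  have hi : 0 < (Subgroup.center H).index := hH.index_pos
  have hi1 : (Subgroup.center H).index ≠ 1 := by
    intro h
    exact hH.center_ne_top (Subgroup.index_eq_one.1 h)
  have hWt : W ≠ ⊤ := by
    intro h
    have h1 : Nat.card W = Nat.card G := by
      rw [h]; exact Nat.card_congr Subgroup.topEquiv.toEquiv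
    rw [hWcard, hG] at h1
    have h2 : d * 1 < d * (r * (Subgroup.center H).index) := by
      refine Nat.mul_lt_mul_of_pos_left ?_ hZ.pos
      have := hVp.two_le
      nlinarith
    rw [mul_one] at h2
    have h3 : r * (d * (Subgroup.center H).index) = d * (r * (Subgroup.center H).index) := by ring
    omega
  have hGW : Nat.card (G ⧸ W) * d = Nat.card G := by
    have := Subgroup.card_mul_index W
    rw [hWcard, Subgroup.index_eq_card, mul_comm] at this
    exact this
  have hGW' : Nat.card (G ⧸ W) = r * (Subgroup.center H).index := by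
    rw [hG] at hGW
    have : Nat.card (G ⧸ W) * d = (r * (Subgroup.center H).index) * d := by rw [hGW]; ring
    exact Nat.eq_of_mul_eq_mul_right hZ.pos this
  rcases hq W hWb hWt with ⟨⟨f⟩⟩ | ⟨⟨f⟩⟩
  · have h1 : Nat.card (G ⧸ W) = Nat.card H := Nat.card_congr f.toEquiv
    rw [hGW', ← Subgroup.card_mul_index (Subgroup.center H)] at h1
    exact hne (Nat.eq_of_mul_eq_mul_right hi h1)
  · have h1 : Nat.card (G ⧸ W) = (Subgroup.center H).index := by
      rw [Subgroup.index_eq_card]; exact Nat.card_congr f.toEquiv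
    rw [hGW'] at h1
    have h2 : r * (Subgroup.center H).index = 1 * (Subgroup.center H).index := by rw [h1, one_mul]
    exact hVp.one_lt.ne' (Nat.eq_of_mul_eq_mul_right hi h2)

end Cfsg.Agent.H725.CenGen
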