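import Cfsg.Agent.H725.SimThree
import Cfsg.Agent.H725.CenGen
import Cfsg.Agent.H168.GLFour
import Cfsg.Agent.Characters.Galois
import Cfsg.Agent.S2421
import Cfsg.Agent.S2424

/-!
# `A₈` and `SL₃(4)` (helper725)
-/

set_option autoImplicit false

namespace Cfsg.Agent.H725.AltEight

open Cfsg Cfsg.Agent.H725.Cod Cfsg.Agent.H725.Lam Cfsg.Agent.H725.SLFacts Cfsg.Agent.H725.CenGen
open Cfsg.Agent.H686.CharKit Cfsg.Agent.H677.CodPrime Cfsg.Agent.H677.CodMultiset Matrix Finset
open Cfsg.Agent.H677.PslThree ComplexConjugate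

universe u

/-- the centraliser of a transvection -/
theorem card_centralizer_tv {F : Type} [Field F] [Fintype F] :
    Nat.card (Subgroup.centralizer ({tv ((1 : F), (0 : F))} : Set (SpecialLinearGroup (Fin 3) F))) ≤
      (Fintype.card F - 1) * Fintype.card F ^ 3 := by
  classical
  have key : ∀ g : SpecialLinearGroup (Fin 3) F, g ∈ Subgroup.centralizer ({tv ((1 : F), (0 : F))} : Set _) →
      g.1 1 0 = 0 ∧ g.1 2 0 = 0 ∧ g.1 2 1 = 0 ∧ g.1 2 2 = g.1 0 0 ∧ g.1 0 0 * g.1 0 0 * g.1 1 1 = 1 := by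
    intro g hg
    rw [Subgroup.mem_centralizer_singleton_iff] at hg
    have h1 : g.1 * !![1, 0, (1 : F); 0, 1, 0; 0, 0, 1] = !![1, 0, (1 : F); 0, 1, 0; 0, 0, 1] * g.1 :=
      congrArg Subtype.val hg
    have e02 := congrFun (congrFun h1 0) 2
    have e12 := congrFun (congrFun h1 1) 2
    have e22 := congrFun (congrFun h1 2) 2
    have e01 := congrFun (congrFun h1 0) 1
    simp [Matrix.mul_apply, Fin.sum_univ_three] at e02 e12 e22 e01
    have h2 := g.2
    rw [Matrix.det_fin_three, e12, e22, e01] at h2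
    have e3 : g.1 2 2 = g.1 0 0 := by linear_combination -e02
    refine ⟨e12, e22, e01, e3, ?_⟩
    rw [e3] at h2
    linear_combination h2
  let f : Subgroup.centralizer ({tv ((1 : F), (0 : F))} : Set (SpecialLinearGroup (Fin 3) F)) → Fˣ × F × F × F :=
    fun g => (⟨g.1.1 0 0, g.1.1 0 0 * g.1.1 1 1, by rw [← mul_assoc]; exact (key g.1 g.2).2.2.2.2, by
      rw [mul_comm, ← mul_assoc]; exact (key g.1 g.2).2.2.2.2⟩, g.1.1 0 1, g.1.1 0 2, g.1.1 1 2)
  have hf : Function.Injective f := by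
    rintro g h hgh
    obtain ⟨h1, h2⟩ := Prod.ext_iff.1 hgh
    obtain ⟨h3, h4⟩ := Prod.ext_iff.1 h2
    obtain ⟨h5, h6⟩ := Prod.ext_iff.1 h4
    have h1' : g.1.1 0 0 = h.1.1 0 0 := congrArg Units.val h1
    change g.1.1 0 1 = h.1.1 0 1 at h3
    change g.1.1 0 2 = h.1.1 0 2 at h5
    change g.1.1 1 2 = h.1.1 1 2 at h6
    obtain ⟨a1, a2, a3, a4, a5⟩ := key g.1 g.2
    obtain ⟨b1, b2, b3, b4, b5⟩ := key h.1 h.2
    have h7 : g.1.1 1 1 = h.1.1 1 1 := by
      rw [h1'] at a5
      have h8 : h.1.1 0 0 * h.1.1 0 0 ≠ 0 := left_ne_zero_of_mul_eq_one b5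
      exact mul_left_cancel₀ h8 (a5.trans b5.symm)
    apply Subtype.ext
    apply Subtype.ext
    ext i j
    fin_cases i <;> fin_cases j
    · exact h1'
    · exact h3
    · exact h5
    · exact a1.trans b1.symm
    · exact h7
    · exact h6
    · exact a2.trans b2.symm
    · exact a3.trans b3.symm
    · exact a4.trans (h1'.trans b4.symm)
  refine (Nat.card_le_card_of_injective f hf).trans ?_
  rw [Nat.card_prod, Nat.card_prod, Nat.card_prod, Nat.card_units, Nat.card_eq_fintype_card, pow_succ,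
    pow_two, mul_assoc]

/-- no character of degree `56` -/
theorem no_56 {F : Type} [Field F] [Fintype F] (hF : Fintype.card F = 4)
    (ψ : IrrCharacter (SpecialLinearGroup (Fin 3) F)) (hk : chKer ψ = Subgroup.center _) (hψ : ψ ≠ one _) :
    charDegree (ψ : SpecialLinearGroup (Fin 3) F → ℂ) ≠ 56 := by
  classical
  intro hdeg
  have := Characters.Core.finite_irr (G := SpecialLinearGroup (Fin 3) F)
  let _ := Fintype.ofFinite (IrrCharacter (SpecialLinearGroup (Fin 3) F))
  have hcp := charP_of (F := F) (p := 2) (f := 2) Nat.prime_two (by norm_num) (by rw [hF]; norm_num)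
  have hZ3 : Nat.card (Subgroup.center (SpecialLinearGroup (Fin 3) F)) = 3 := by
    rw [card_center (by norm_num), hF]; norm_num
  obtain ⟨z, hz, hzo, hzz⟩ := exists_gen (V := Subgroup.center (SpecialLinearGroup (Fin 3) F))
    (by rw [hZ3]; exact Nat.prime_three)
  rw [hZ3] at hzo
  have hz3 : z ^ 3 = 1 := orderOf_dvd_iff_pow_eq_one.1 hzo.dvd
  set t := tv ((1 : F), (0 : F)) with ht
  have ht2 : t ^ 2 = 1 := by
    rw [pow_two, ht, tv_mul]
    have h1 : ((1 : F), (0 : F)) + ((1 : F), (0 : F)) = (0 : F × F) := by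
      refine Prod.ext ?_ ?_
      · change (1 : F) + 1 = 0
        exact CharTwo.add_self_eq_zero 1
      · change (0 : F) + 0 = 0
        exact add_zero 0
    rw [h1, tv_zero]
  -- the value at `t` is an integer
  obtain ⟨n, hn⟩ : ∃ n : ℤ, (ψ : SpecialLinearGroup (Fin 3) F → ℂ) t = n := by
    obtain ⟨d, hd⟩ : ∃ d : ℕ → ℕ, ∀ m : ℕ, (ψ : SpecialLinearGroup (Fin 3) F → ℂ) (t ^ m) =
        ∑ j ∈ range 2, (d j : ℂ) * (-1) ^ (j * m) := by
      obtain ⟨χ, m, ρ, hρ, rfl⟩ := ψ
      exact Characters.Galois.exists_nat_coeffs ρ t (by norm_num) ht2 (IsPrimitiveRoot.neg_one 0 (by norm_num))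
    have h1 := hd 1
    rw [pow_one, sum_range_succ, sum_range_one] at h1
    refine ⟨(d 0 : ℤ) - d 1, ?_⟩
    rw [h1]
    push_cast
    ring
  -- restriction to the transvection group
  have hcf := Characters.Core.isIrr_isClassFunction ψ.2
  have hinj : Function.Injective (tvHom (F := F)) := by
    rw [injective_iff_map_eq_one]
    intro v hv
    have h1 : tv v.toAdd ∈ Subgroup.center (SpecialLinearGroup (Fin 3) F) := by
      change tvHom v ∈ _
      rw [hv]
      exact Subgroup.one_mem _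
    exact tv_center h1
  let _ := Fintype.ofFinite (tvHom (F := F)).range
  have hcard : Nat.card (tvHom (F := F)).range = 16 := by
    rw [← Nat.card_congr (MonoidHom.ofInjective hinj).toEquiv]
    change Nat.card (F × F) = _
    rw [Nat.card_prod, Nat.card_eq_fintype_card, hF]
  obtain ⟨m, hm⟩ := exists_mult ψ (tvHom (F := F)).range
  have hsum : ∑ g : (tvHom (F := F)).range, (ψ : SpecialLinearGroup (Fin 3) F → ℂ) g =
      ∑ v : F × F, (ψ : SpecialLinearGroup (Fin 3) F → ℂ) (tv v) := by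
    let E : F × F ≃ (tvHom (F := F)).range := Multiplicative.ofAdd.trans (MonoidHom.ofInjective hinj).toEquiv
    exact (Equiv.sum_comp E (fun g => (ψ : SpecialLinearGroup (Fin 3) F → ℂ) g)).symm
  have hval : ∀ v : F × F, v ≠ 0 → (ψ : SpecialLinearGroup (Fin 3) F → ℂ) (tv v) = n := by
    intro v hv
    obtain ⟨g, hg⟩ := isConj_iff.1 (isConj_tv hv)
    rw [← hg, (Characters.Core.isClassFunction_def.1 hcf) _ g, ← ht, hn]
  rw [hsum, ← add_sum_erase univ _ (mem_univ (0 : F × F)), sum_congr rfl fun v hv => hval v (ne_of_mem_erase hv),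
    sum_const, card_erase_of_mem (mem_univ _), card_univ, Fintype.card_prod, hF, tv_zero, ← charDegree_irr, hdeg,
    hcard, nsmul_eq_mul] at hm
  have hm' : (56 : ℤ) + 15 * n = 16 * m := by
    have : ((56 + 15 * n : ℤ) : ℂ) = ((16 * m : ℤ) : ℂ) := by
      push_cast at hm ⊢
      exact hm
    exact_mod_cast this
  have hn64 : 64 ≤ n ^ 2 := by
    have h1 : n ≤ -8 ∨ 8 ≤ n := by omega
    rcases h1 with h1 | h1 <;> nlinarith
  -- column orthogonality
  have ho := orth hz hz3 three_ne_zero (c := 1) (by norm_num) t t (by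
    intro k hk3 hk0 hcj
    obtain ⟨g, hg⟩ := isConj_iff.1 hcj
    have h1 : (t * z ^ k) ^ 2 = 1 := by
      have h2 : (g * (t * z ^ k) * g⁻¹) ^ 2 = 1 := by rw [hg, ht2]
      rw [conj_pow, mul_inv_eq_one] at h2
      exact mul_left_cancel (h2.trans (mul_one g).symm)
    have hc : Commute t (z ^ k) := (Commute.pow_right (Subgroup.mem_center_iff.1 hz t) k)
    rw [hc.mul_pow, ht2, one_mul, ← pow_mul] at h1
    have h3 := orderOf_dvd_of_pow_eq_one h1
    rw [hzo] at h3
    omega) (IsConj.refl _)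
  have hC := card_centralizer_tv (F := F)
  rw [← ht, hF] at hC
  have h1 : ∑ χ ∈ Lam z 1, Complex.normSq ((χ : SpecialLinearGroup (Fin 3) F → ℂ) t) ≤ 64 := by
    have h2 : ((∑ χ ∈ Lam z 1, Complex.normSq ((χ : SpecialLinearGroup (Fin 3) F → ℂ) t) : ℝ) : ℂ) =
        (((3 : ℝ)⁻¹ * (Nat.card (Subgroup.centralizer ({t} : Set (SpecialLinearGroup (Fin 3) F))) : ℝ) : ℝ) : ℂ) := by
      push_cast
      rw [Nat.cast_ofNat] at ho
      rw [← ho]
      exact sum_congr rfl fun χ _ => (Complex.mul_conj _).symm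
    have h3 := Complex.ofReal_injective h2
    rw [h3]
    have h4 : (Nat.card (Subgroup.centralizer ({t} : Set (SpecialLinearGroup (Fin 3) F))) : ℝ) ≤ 192 := by
      exact_mod_cast hC.trans (by norm_num)
    linarith
  have hone : one (SpecialLinearGroup (Fin 3) F) ∈ Lam z 1 := by
    rw [mem_Lam, one_mul]; rfl
  have hψm : ψ ∈ Lam z 1 := by
    rw [mem_Lam, one_mul]
    have : z ∈ chKer ψ := by rw [hk]; exact hz
    exact this
  have h2 : ∑ χ ∈ ({one _, ψ} : Finset (IrrCharacter (SpecialLinearGroup (Fin 3) F))),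
      Complex.normSq ((χ : SpecialLinearGroup (Fin 3) F → ℂ) t) ≤ 64 := by
    refine le_trans (sum_le_sum_of_subset_of_nonneg ?_ fun _ _ _ => Complex.normSq_nonneg _) h1
    intro χ hχ
    rw [mem_insert, mem_singleton] at hχ
    rcases hχ with rfl | rfl
    · exact hone
    · exact hψm
  rw [sum_pair hψ.symm, hn] at h2
  have h3 : (one (SpecialLinearGroup (Fin 3) F) : SpecialLinearGroup (Fin 3) F → ℂ) t = 1 := rfl
  rw [h3, map_one, Complex.normSq_intCast] at h2
  have h4 : (64 : ℝ) ≤ (n : ℝ) * n := by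
    have : (64 : ℤ) ≤ n * n := by nlinarith
    exact_mod_cast this
  linarith

/-- the unipotent character of degree `56` of `GL₄(2)` -/
theorem exists_56 {F : Type} [Field F] [Fintype F] (hF : Fintype.card F = 2) :
    ∃ χ : IrrCharacter (GL (Fin 4) F), charDegree (χ : GL (Fin 4) F → ℂ) = 56 := by
  let ν : Fin 4 → ℕ := ![0, 1, 1, 2]
  have hmono : Monotone ν := by
    intro i j hij
    fin_cases i <;> fin_cases j <;> simp [ν] at hij ⊢
  have hsum : ∑ i, ν i = 4 := by simp [ν, Fin.sum_univ_four]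
  have h1 := S2421.result (F := F) ν hmono hsum
  have h2 := S2424.result (F := F) hF ν hmono hsum
  refine ⟨⟨_, h1⟩, ?_⟩
  have e1 : ∏ i : Fin 4, ∏ j ∈ Finset.range (ν i + i.val), ((∑ l ∈ Finset.range (j + 1), 2 ^ l : ℕ) : ℂ) = 615195 := by
    rw [Fin.prod_univ_four]
    simp [ν, Finset.prod_range_succ, Finset.sum_range_succ]
    norm_num
  have e2 : (∏ j ∈ Finset.range 4, ((∑ l ∈ Finset.range (j + 1), 2 ^ l : ℕ) : ℂ)) = 315 := by
    simp [Finset.prod_range_succ, Finset.sum_range_succ]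
    norm_num
  have e3 : ∏ i : Fin 4, ∏ j ∈ Finset.univ.filter (fun j : Fin 4 => i < j),
      (((∑ l ∈ Finset.range (ν j + j.val), 2 ^ l : ℕ) : ℂ) - ((∑ l ∈ Finset.range (ν i + i.val), 2 ^ l : ℕ) : ℂ)) =
      1749888 := by
    have f0 : Finset.univ.filter (fun j : Fin 4 => (0 : Fin 4) < j) = {1, 2, 3} := by decide
    have f1 : Finset.univ.filter (fun j : Fin 4 => (1 : Fin 4) < j) = {2, 3} := by decide
    have f2 : Finset.univ.filter (fun j : Fin 4 => (2 : Fin 4) < j) = {3} := by decide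
    have f3 : Finset.univ.filter (fun j : Fin 4 => (3 : Fin 4) < j) = ∅ := by decide
    rw [Fin.prod_univ_four, f0, f1, f2, f3]
    simp [ν, Finset.sum_range_succ]
    norm_num
  rw [e1, e2, e3] at h2
  have h3 : unipotentCharacterGL 4 F ν 1 = 56 := by
    have h4 : (4 * (4 - 1) * (4 - 2) / 6) = 4 := by norm_num
    rw [h4] at h2
    push_cast at h2
    have h5 : unipotentCharacterGL 4 F ν 1 * 9843120 = 56 * 9843120 := by
      rw [show (56 : ℂ) * 9843120 = 315 * 1749888 by norm_num, ← h2]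
      ring
    exact mul_right_cancel₀ (by norm_num) h5
  change charDegree (unipotentCharacterGL 4 F ν) = 56
  unfold charDegree
  rw [h3]
  norm_num

/-- the codegrees of `A₈` are not among those of `SL₃(4)` -/
theorem no_alt {F : Type} [Field F] [Fintype F] (hF : Fintype.card F = 4) {S : Type u} [Group S] [Finite S]
    [IsSimpleGroup S] (hS : Sub S (SpecialLinearGroup (Fin 3) F)) (e : S ≃* alternatingGroup (Fin 8)) : False := by
  classical
  have hQ := qs_three (F := F)
  have hidx : (Subgroup.center (SpecialLinearGroup (Fin 3) F)).index = 20160 := by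
    have := index_three (F := F)
    rw [hF] at this
    norm_num at this
    omega
  have hSc : Nat.card S = 20160 := by
    rw [Nat.card_congr e.toEquiv]
    have h1 := two_mul_nat_card_alternatingGroup (α := Fin 8)
    rw [Nat.card_perm, Nat.card_fin] at h1
    have h2 : Nat.factorial 8 = 40320 := by decide
    omega
  obtain ⟨t, ht, -, -, -, hdata⟩ := SimThree.data_three (p := 2) (f := 2) Nat.prime_two (by norm_num)
    (by rw [hF]; norm_num) hS
  rw [hSc, hidx] at ht
  have ht1 : t = 1 := by omega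
  subst ht1
  obtain ⟨e'⟩ := H168.gl_equiv (F := ZMod 2) (ZMod.card 2)
  obtain ⟨χ, hχ⟩ := exists_56 (F := ZMod 2) (ZMod.card 2)
  let E : S ≃* GL (Fin 4) (ZMod 2) := e.trans e'.symm
  have hχ' : charDegree (pull E χ : S → ℂ) = 56 := by
    rw [← hχ]
    unfold charDegree
    rw [pull_apply, map_one]
  have hne : pull E χ ≠ one S := by
    intro h
    rw [h, charDegree_one] at hχ'
    omega
  obtain ⟨ψ, hψ, h1⟩ := hdata _ hne
  rw [hχ', one_mul] at h1
  rcases h1 with ⟨h1, h2⟩ | ⟨h1, h2, h3⟩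
  · exact no_56 hF ψ h2 hψ h1.symm
  · have := Characters.Core.finite_irr (G := SpecialLinearGroup (Fin 3) F)
    let _ := Fintype.ofFinite (IrrCharacter (SpecialLinearGroup (Fin 3) F))
    obtain ⟨z, hz, hzo, hzz⟩ := exists_gen (V := Subgroup.center (SpecialLinearGroup (Fin 3) F))
      (by rw [h3]; exact Nat.prime_three)
    rw [h3] at hzo
    have hz3 : z ^ 3 = 1 := orderOf_dvd_iff_pow_eq_one.1 hzo.dvd
    obtain ⟨c, hc, hcψ⟩ := Lam.exists_scalar ψ hz hz3
    have hmem : ψ ∈ Lam z c := by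
      rw [mem_Lam]
      have := hcψ 1
      rwa [one_mul] at this
    have h4 := sum_sq_Lam hz hzo hc
    have h5 : charDegree (ψ : SpecialLinearGroup (Fin 3) F → ℂ) ^ 2 ≤
        ∑ χ ∈ Lam z c, charDegree (χ : SpecialLinearGroup (Fin 3) F → ℂ) ^ 2 :=
      single_le_sum (f := fun χ : IrrCharacter (SpecialLinearGroup (Fin 3) F) =>
        charDegree (χ : SpecialLinearGroup (Fin 3) F → ℂ) ^ 2) (fun _ _ => Nat.zero_le _) hmem
    rw [← Subgroup.card_mul_index (Subgroup.center (SpecialLinearGroup (Fin 3) F)), h3, hidx] at h4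
    rw [← h1] at h5
    omega

end Cfsg.Agent.H725.AltEight
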