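import Cfsg.Agent.H725.CenFour
import Cfsg.Agent.H60.MultA
import Cfsg.Agent.H60.CrossA

/-!
# The central case for `SL₂(q)` and `SL₃(q)` (helper725)
-/

set_option autoImplicit false

namespace Cfsg.Agent.H725.CenAll

open Cfsg Cfsg.Agent.H725.Cod Cfsg.Agent.H725.SLFacts Cfsg.Agent.H725.CenGen Cfsg.Agent.H67

universe u v

theorem cen_of {H : Type v} [Group H] [Finite H] (hH : QS H)
    (h : ∀ r : ℕ, r.Prime → NoPCov r H ∨ ((Nat.card (Subgroup.center H) = 1 ∨ r ≠ Nat.card (Subgroup.center H)) ∧
      ∀ (G : Type u) [Group G] [Finite G] (V : Subgroup G) [V.Normal], commutator G = ⊤ → Sub G H →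
        V ≤ Subgroup.center G → Nat.card V = r → (G ⧸ V ≃* H ⧸ Subgroup.center H) → False)) : CenOK.{u, v} H := by
  intro G _ _ V hperf hG hV hVp hq
  have hVn : V.Normal := ⟨fun n hn g => by
    rw [Subgroup.mem_center_iff.1 (hV hn) g, mul_inv_cancel_right]
    exact hn⟩
  have hVb : V ≠ ⊥ := by
    intro h1
    rw [h1, Subgroup.card_bot] at hVp
    exact Nat.not_prime_one hVp
  have hVt : V ≠ ⊤ := by
    intro h1
    have h2 : commutator G = ⊥ := by
      rw [commutator_def, Subgroup.commutator_eq_bot_iff_le_centralizer]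
      intro x _
      rw [Subgroup.mem_centralizer_iff]
      intro y _
      have : x ∈ Subgroup.center G := hV (by rw [h1]; trivial)
      exact Subgroup.mem_center_iff.1 this y
    rw [hperf] at h2
    rw [h1, h2, Subgroup.card_bot] at hVp
    exact Nat.not_prime_one hVp
  have hgood := hq V hVb hVt
  rcases h _ hVp with h1 | ⟨h1, h2⟩
  · exact good_of_noPCov hH hperf hV hVp hgood h1
  · exfalso
    rcases hgood with ⟨⟨e⟩⟩ | ⟨⟨e⟩⟩
    · by_cases h3 : Nat.card (Subgroup.center H) = 1
      · have h4 : Subgroup.center H = ⊥ := Subgroup.card_eq_one.1 h3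
        have e' : H ≃* H ⧸ Subgroup.center H :=
          (QuotientGroup.quotientBot (G := H)).symm.trans (QuotientGroup.quotientMulEquivOfEq h4.symm)
        exact h2 G V hperf hG hV rfl (e.trans e')
      · have h4 := hH.zp.resolve_left h3
        exact no_full hH h4 hV hVp (h1.resolve_left h3) hq e
    · exact h2 G V hperf hG hV rfl e

theorem cenOK_two {F : Type} [Field F] [Fintype F] (h5 : 5 ≤ Fintype.card F) :
    CenOK.{u, 0} (Matrix.SpecialLinearGroup (Fin 2) F) := by
  refine cen_of (qs_two (by omega)) fun r hr => ?_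
  by_cases h9 : Fintype.card F = 9
  · obtain ⟨p, f, hp, hf, hF⟩ := exists_pp F
    have := charP_of hp hf hF
    have hp3 : p = 3 := by
      have h1 : p ∣ 3 ^ 2 := by
        rw [show (3 : ℕ) ^ 2 = 9 by norm_num, ← h9, hF]
        exact dvd_pow_self p (by omega)
      exact (Nat.prime_dvd_prime_iff_eq hp Nat.prime_three).1 (hp.dvd_of_dvd_pow h1)
    by_cases hr3 : r = 3
    · right
      refine ⟨Or.inr ?_, fun G _ _ V _ hperf hG hV hVr e => two_nine h9 hperf hG hV (hVr.trans hr3) e⟩
      rw [card_center (by norm_num), h9, hr3]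
      norm_num
    · left
      exact H60.CrossA.noPCov_SL_cross 1 p hr (by rw [hp3]; exact hr3)
  · left
    refine H60.MultA.noPCov_SL ⟨le_rfl, fun _ => by rw [Nat.card_eq_fintype_card]; omega, ?_⟩ hr
    rw [Nat.card_eq_fintype_card]
    simp only [Set.mem_insert_iff, Set.mem_singleton_iff, Prod.mk.injEq, not_or, not_and]
    omega

theorem cenOK_three {F : Type} [Field F] [Fintype F] :
    CenOK.{u, 0} (Matrix.SpecialLinearGroup (Fin 3) F) := by
  refine cen_of qs_three fun r hr => ?_
  by_cases h24 : Fintype.card F = 2 ∨ Fintype.card F = 4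
  · obtain ⟨p, f, hp, hf, hF⟩ := exists_pp F
    have := charP_of hp hf hF
    have hp2 : p = 2 := by
      have h1 : p ∣ 2 ^ 2 := by
        have h2 : p ∣ Fintype.card F := by rw [hF]; exact dvd_pow_self p (by omega)
        rcases h24 with h | h
        · rw [h] at h2; exact h2.trans (by norm_num)
        · rw [h] at h2; exact h2
      exact (Nat.prime_dvd_prime_iff_eq hp Nat.prime_two).1 (hp.dvd_of_dvd_pow h1)
    by_cases hr2 : r = 2
    · right
      rcases h24 with h | h
      · refine ⟨Or.inl ?_, fun G _ _ V _ hperf hG hV hVr e => three_two h hperf hG hV (hVr.trans hr2) e⟩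
        rw [card_center (by norm_num), h]
        norm_num
      · refine ⟨Or.inr ?_, fun G _ _ V _ hperf hG hV hVr e => CenFour.three_four h hperf hG hV (hVr.trans hr2) e⟩
        rw [card_center (by norm_num), h, hr2]
        norm_num
    · left
      exact H60.CrossA.noPCov_SL_cross 2 p hr (by rw [hp2]; exact hr2)
  · left
    refine H60.MultA.noPCov_SL ⟨by norm_num, fun h => absurd h (by norm_num), ?_⟩ hr
    rw [Nat.card_eq_fintype_card]
    simp only [Set.mem_insert_iff, Set.mem_singleton_iff, Prod.mk.injEq, not_or, not_and]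
    omega

end Cfsg.Agent.H725.CenAll
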