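import Mathlib

/-!
# A combinatorial lemma for self-centralising elements of order seven (helper725)
-/

set_option autoImplicit false

namespace Cfsg.Agent.H725.Seven

open Finset

theorem comb {ι : Type*} [DecidableEq ι] (Λ : Finset ι) (s r deg : ι → ℤ) (hdeg : ∀ i ∈ Λ, 0 < deg i)
    (hs : ∑ i ∈ Λ, s i ^ 2 = 14) (hr : ∑ i ∈ Λ, r i ^ 2 = 2) (hpar : ∀ i ∈ Λ, (2 : ℤ) ∣ s i - r i)
    (hsd : ∑ i ∈ Λ, s i * deg i = 0) (hrd : ∑ i ∈ Λ, r i * deg i = 0) (h7 : ∀ i ∈ Λ, (7 : ℤ) ∣ deg i + 3 * s i) :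
    ∃ (c σ : ℤ) (E N : Finset ι), E ⊆ Λ ∧ N ⊆ Λ ∧ Disjoint E N ∧ E.card = 2 ∧ N.card = 3 ∧ (σ = 1 ∨ σ = -1) ∧
      (∀ i ∈ E, s i = σ ∧ deg i = c) ∧ (∀ i ∈ N, s i = 2 ∨ s i = -2) ∧
      (∀ i ∈ Λ, i ∉ E → i ∉ N → s i = 0) ∧ ∑ i ∈ N, s i * deg i + 2 * σ * c = 0 := by
  set E := Λ.filter (fun i => r i ≠ 0) with hE
  have hEr : ∑ i ∈ E, r i ^ 2 = 2 := by
    rw [← hr, hE, sum_filter]
    refine sum_congr rfl fun i _ => ?_
    split_ifs with h
    · rfl
    · rw [not_not.1 h]; norm_num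
  have hge : ∀ i ∈ E, 1 ≤ r i ^ 2 := by
    intro i hi
    have h1 := (mem_filter.1 hi).2
    have : 0 < r i ^ 2 := by positivity
    omega
  have hEc : E.card = 2 := by
    have h1 : (E.card : ℤ) ≤ 2 := by
      rw [← hEr]
      have := card_nsmul_le_sum E (fun i => r i ^ 2) 1 hge
      simpa using this
    have h2 : E.card ≤ 2 := by exact_mod_cast h1
    interval_cases h : E.card
    · rw [card_eq_zero] at h
      rw [h, sum_empty] at hEr
      omega
    · exfalso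
      obtain ⟨e, he⟩ := card_eq_one.1 h
      rw [he, sum_singleton] at hEr
      have h3 : r e < 2 := by nlinarith
      have h4 : -2 < r e := by nlinarith
      interval_cases r e <;> omega
    · rfl
  obtain ⟨e₁, e₂, hne, hE2⟩ := card_eq_two.1 hEc
  have he₁ : e₁ ∈ E := by rw [hE2]; simp
  have he₂ : e₂ ∈ E := by rw [hE2]; simp
  have he₁Λ := (mem_filter.1 he₁).1
  have he₂Λ := (mem_filter.1 he₂).1
  rw [hE2, sum_pair hne] at hEr
  have h1 := hge e₁ he₁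
  have h2 := hge e₂ he₂
  have hr1 : r e₁ = 1 ∨ r e₁ = -1 := by
    have h3 : r e₁ < 2 := by nlinarith
    have h4 : -2 < r e₁ := by nlinarith
    interval_cases r e₁ <;> omega
  have hr2 : r e₂ = 1 ∨ r e₂ = -1 := by
    have h3 : r e₂ < 2 := by nlinarith
    have h4 : -2 < r e₂ := by nlinarith
    interval_cases r e₂ <;> omega
  have hrdE : r e₁ * deg e₁ + r e₂ * deg e₂ = 0 := by
    have h3 : ∑ i ∈ E, r i * deg i = 0 := by
      rw [← hrd, hE, sum_filter]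
      refine sum_congr rfl fun i _ => ?_
      split_ifs with h
      · rfl
      · rw [not_not.1 h, zero_mul]
    rwa [hE2, sum_pair hne] at h3
  have hd1 := hdeg e₁ he₁Λ
  have hd2 := hdeg e₂ he₂Λ
  have hdd : deg e₁ = deg e₂ := by
    rcases hr1 with h | h <;> rcases hr2 with h' | h' <;> rw [h, h'] at hrdE <;> omega
  have hsub : ({e₁, e₂} : Finset ι) ⊆ Λ := by
    intro i hi
    rw [mem_insert, mem_singleton] at hi
    rcases hi with rfl | rfl <;> assumption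
  have hs2 : s e₁ ^ 2 + s e₂ ^ 2 ≤ 14 := by
    rw [← hs, ← sum_pair (f := fun i => s i ^ 2) hne]
    exact sum_le_sum_of_subset_of_nonneg hsub fun i _ _ => sq_nonneg _
  have hs1b : s e₁ ≤ 3 ∧ -3 ≤ s e₁ := by constructor <;> nlinarith [sq_nonneg (s e₂)]
  have hs2b : s e₂ ≤ 3 ∧ -3 ≤ s e₂ := by constructor <;> nlinarith [sq_nonneg (s e₁)]
  have h71 := h7 e₁ he₁Λ
  have h72 := h7 e₂ he₂Λ
  have hss : s e₁ = s e₂ := by
    rw [hdd] at h71
    have h3 := dvd_sub h71 h72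
    have h4 : deg e₂ + 3 * s e₁ - (deg e₂ + 3 * s e₂) = 3 * (s e₁ - s e₂) := by ring
    rw [h4] at h3
    omega
  have hp1 := hpar e₁ he₁Λ
  have hσ : s e₁ = 1 ∨ s e₁ = -1 := by
    rw [← hss] at hs2
    obtain ⟨h3, h4⟩ := hs1b
    have h5 : s e₁ < 3 := by nlinarith
    have h6 : -3 < s e₁ := by nlinarith
    rcases hr1 with h | h <;> rw [h] at hp1 <;> omega
  have hs11 : s e₁ ^ 2 = 1 := by rcases hσ with h | h <;> rw [h] <;> norm_num
  set N := Λ.filter (fun i => i ∉ E ∧ s i ≠ 0) with hN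
  have hdisj : Disjoint E N := by
    rw [Finset.disjoint_left]
    intro i hi hi'
    exact (mem_filter.1 hi').2.1 hi
  have hEΛ : E ⊆ Λ := filter_subset _ _
  have hNΛ : N ⊆ Λ := filter_subset _ _
  have hzero : ∀ i ∈ Λ, i ∉ E → i ∉ N → s i = 0 := by
    intro i hi hiE hiN
    by_contra h
    exact hiN (mem_filter.2 ⟨hi, hiE, h⟩)
  have hsplit : ∀ f : ι → ℤ, (∀ i, s i = 0 → f i = 0) → ∑ i ∈ Λ, f i = ∑ i ∈ E, f i + ∑ i ∈ N, f i := by
    intro f hf
    rw [← sum_union hdisj]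
    refine (sum_subset (union_subset hEΛ hNΛ) fun i hi hi' => ?_).symm
    rw [mem_union, not_or] at hi'
    exact hf i (hzero i hi hi'.1 hi'.2)
  have hsN : ∑ i ∈ N, s i ^ 2 = 12 := by
    have h3 := hsplit (fun i => s i ^ 2) (fun i h => by rw [h]; norm_num)
    rw [hs, hE2, sum_pair hne, ← hss, hs11] at h3
    omega
  have heven : ∀ i ∈ N, (2 : ℤ) ∣ s i := by
    intro i hi
    obtain ⟨h3, h4, -⟩ := mem_filter.1 hi
    have h5 : r i = 0 := by
      by_contra h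
      exact h4 (mem_filter.2 ⟨h3, h⟩)
    have h6 := hpar i h3
    rwa [h5, sub_zero] at h6
  have hN2 : ∀ i ∈ N, s i = 2 ∨ s i = -2 := by
    intro i hi
    obtain ⟨h3, h4, h5⟩ := mem_filter.1 hi
    obtain ⟨k, hk⟩ := heven i hi
    have h6 : s i ^ 2 ≤ 12 := by
      rw [← hsN]
      exact single_le_sum (f := fun i => s i ^ 2) (fun j _ => sq_nonneg _) hi
    have h7 : s i ≤ 3 := by nlinarith
    have h8 : -3 ≤ s i := by nlinarith
    omega
  refine ⟨deg e₁, s e₁, E, N, hEΛ, hNΛ, hdisj, hEc, ?_, hσ, ?_, hN2, hzero, ?_⟩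
  · have h3 : ∑ i ∈ N, s i ^ 2 = ∑ _i ∈ N, (4 : ℤ) := by
      refine sum_congr rfl fun i hi => ?_
      rcases hN2 i hi with h | h <;> rw [h] <;> norm_num
    rw [h3, sum_const, nsmul_eq_mul] at hsN
    omega
  · intro i hi
    rw [hE2, mem_insert, mem_singleton] at hi
    rcases hi with rfl | rfl
    · exact ⟨rfl, rfl⟩
    · exact ⟨hss.symm, hdd.symm⟩
  · have h3 := hsplit (fun i => s i * deg i) (fun i h => by rw [h, zero_mul])
    rw [hsd, hE2, sum_pair hne, ← hss, ← hdd] at h3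
    linarith

end Cfsg.Agent.H725.Seven
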