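import Cfsg.Agent.H725.CodRed
import Cfsg.Agent.S0242
import Cfsg.Agent.SignalizersComponents.SLQuasisimple
import Cfsg.Agent.Lib.ComponentSolvable

/-!
# `SL₂(q)` and `SL₃(q)`: orders and normal subgroups (helper725)
-/

set_option autoImplicit false

namespace Cfsg.Agent.H725.SLFacts

open Cfsg Cfsg.Agent.H725.Cod

variable {F : Type*} [Field F] [Fintype F]

theorem card_center {n : ℕ} (hn : 1 ≤ n) :
    Nat.card (Subgroup.center (Matrix.SpecialLinearGroup (Fin n) F)) = Nat.gcd n (Fintype.card F - 1) := by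
  have : Nonempty (Fin n) := ⟨⟨0, by omega⟩⟩
  rw [Nat.card_congr (Matrix.SpecialLinearGroup.center_equiv_rootsOfUnity'
      (n := Fin n) (R := F) ⟨0, by omega⟩).toEquiv, rootsOfUnity_eq_ker,
      IsCyclic.card_powMonoidHom_ker, Nat.card_units, Nat.card_eq_fintype_card, Fintype.card_fin,
      Nat.gcd_comm]

theorem card_two : Nat.card (Matrix.SpecialLinearGroup (Fin 2) F) =
    Fintype.card F * (Fintype.card F ^ 2 - 1) := by
  have h := S0242.result (F := F) rfl 2 (by norm_num)
  rw [Fin.prod_univ_two] at h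
  have hq : 1 < Fintype.card F := Fintype.one_lt_card
  set q := Fintype.card F
  have h1 : (q - 1) * Nat.card (Matrix.SpecialLinearGroup (Fin 2) F) = (q - 1) * (q * (q ^ 2 - 1)) := by
    rw [h]
    change (q ^ 2 - q ^ 0) * (q ^ 2 - q ^ 1) = _
    rw [pow_zero, pow_one]
    have : q ^ 2 - q = q * (q - 1) := by rw [Nat.mul_sub, mul_one, pow_two]
    rw [this]
    ring
  exact Nat.eq_of_mul_eq_mul_left (by omega) h1

theorem card_three : Nat.card (Matrix.SpecialLinearGroup (Fin 3) F) =
    Fintype.card F ^ 3 * (Fintype.card F ^ 2 - 1) * (Fintype.card F ^ 3 - 1) := by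
  have h := S0242.result (F := F) rfl 3 (by norm_num)
  rw [Fin.prod_univ_three] at h
  have hq : 1 < Fintype.card F := Fintype.one_lt_card
  set q := Fintype.card F
  have h1 : (q - 1) * Nat.card (Matrix.SpecialLinearGroup (Fin 3) F) =
      (q - 1) * (q ^ 3 * (q ^ 2 - 1) * (q ^ 3 - 1)) := by
    rw [h]
    change (q ^ 3 - q ^ 0) * (q ^ 3 - q ^ 1) * (q ^ 3 - q ^ 2) = _
    rw [pow_zero, pow_one]
    have e1 : q ^ 3 - q = q * (q ^ 2 - 1) := by rw [Nat.mul_sub, mul_one]; ring_nf
    have e2 : q ^ 3 - q ^ 2 = q ^ 2 * (q - 1) := by rw [Nat.mul_sub, mul_one]; ring_nf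
    rw [e1, e2]
    ring
  exact Nat.eq_of_mul_eq_mul_left (by omega) h1

theorem index_two : Nat.gcd 2 (Fintype.card F - 1) *
    (Subgroup.center (Matrix.SpecialLinearGroup (Fin 2) F)).index = Fintype.card F * (Fintype.card F ^ 2 - 1) := by
  rw [← card_two, ← Subgroup.card_mul_index (Subgroup.center (Matrix.SpecialLinearGroup (Fin 2) F)),
    card_center (by norm_num)]

theorem index_three : Nat.gcd 3 (Fintype.card F - 1) *
    (Subgroup.center (Matrix.SpecialLinearGroup (Fin 3) F)).index =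
    Fintype.card F ^ 3 * (Fintype.card F ^ 2 - 1) * (Fintype.card F ^ 3 - 1) := by
  rw [← card_three, ← Subgroup.card_mul_index (Subgroup.center (Matrix.SpecialLinearGroup (Fin 3) F)),
    card_center (by norm_num)]

theorem qs_of_quasisimple {H : Type*} [Group H] [Finite H] (hH : IsQuasisimple H)
    (hz : Nat.card (Subgroup.center H) = 1 ∨ (Nat.card (Subgroup.center H)).Prime) : QS H where
  nt := by
    have := hH.2
    have : Nontrivial (H ⧸ Subgroup.center H) := inferInstance
    exact (QuotientGroup.mk'_surjective (Subgroup.center H)).nontrivial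
  perf := hH.1.commutator_eq_top
  nor := fun N hN => by
    rcases Lib.ComponentSolvable.quasisimple_normal_cases hH hN with h | h
    · exact Or.inl h
    right
    have h1 := Subgroup.card_dvd_of_le h
    rcases hz with hz | hz
    · rw [hz, Nat.dvd_one] at h1
      exact Or.inl (Subgroup.card_eq_one.1 h1)
    · rcases (Nat.dvd_prime hz).1 h1 with h2 | h2
      · exact Or.inl (Subgroup.card_eq_one.1 h2)
      · exact Or.inr (Subgroup.eq_of_le_of_card_ge h (by rw [h2]))
  zp := hz

theorem gcd_prime {n : ℕ} (hn : n.Prime) (m : ℕ) : Nat.gcd n m = 1 ∨ (Nat.gcd n m).Prime := by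
  rcases (Nat.dvd_prime hn).1 (Nat.gcd_dvd_left n m) with h | h
  · exact Or.inl h
  · right; rw [h]; exact hn

theorem qs_two (h4 : 4 ≤ Fintype.card F) : QS (Matrix.SpecialLinearGroup (Fin 2) F) := by
  refine qs_of_quasisimple (SignalizersComponents.SLQuasisimple.isQuasisimple_two
    (by rwa [Nat.card_eq_fintype_card])) ?_
  rw [card_center (by norm_num)]
  exact gcd_prime Nat.prime_two _

theorem qs_three : QS (Matrix.SpecialLinearGroup (Fin 3) F) := by
  refine qs_of_quasisimple (SignalizersComponents.SLQuasisimple.isQuasisimple_of_three_le (by simp)) ?_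
  rw [card_center (by norm_num)]
  exact gcd_prime Nat.prime_three _

/-- the field order as a prime power -/
theorem exists_pp (F : Type*) [Field F] [Fintype F] : ∃ p f : ℕ, p.Prime ∧ 1 ≤ f ∧ Fintype.card F = p ^ f := by
  obtain ⟨p, f, hp, hf, h⟩ := (isPrimePow_nat_iff _).1 (Fintype.isPrimePow_card_of_field (α := F))
  exact ⟨p, f, hp, hf, h.symm⟩

theorem charP_of {p f : ℕ} (hp : p.Prime) (hf : 1 ≤ f) (hF : Fintype.card F = p ^ f) : CharP F p := by
  obtain ⟨r, hr⟩ := CharP.exists F
  obtain ⟨k, hrp, hk⟩ := FiniteField.card F r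
  have h1 : r ∣ p ^ f := by rw [← hF, hk]; exact dvd_pow_self r k.ne_zero
  have h2 := (Nat.prime_dvd_prime_iff_eq hrp hp).1 (hrp.dvd_of_dvd_pow h1)
  rwa [h2] at hr

end Cfsg.Agent.H725.SLFacts
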