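import Mathlib

/-!
# Elements of order seven of `SL₃(4)` (helper725)
-/

set_option autoImplicit false

namespace Cfsg.Agent.H725.Seven

open Module

section
variable {F : Type*} [Field F] [Fintype F] {V : Type*} [AddCommGroup V] [Module F V] [Module.Finite F V]

theorem card_inv {T : V →ₗ[F] V} (hT : T ^ 7 = 1) (U : Submodule F V) (hU : ∀ u ∈ U, T u ∈ U) :
    Nat.card U ≡ Nat.card {u : U // T u = u} [MOD 7] := by
  classical
  have : Finite V := Module.finite_of_finite F
  let _ := Fintype.ofFinite V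
  let _ := Fintype.ofFinite U
  have := Fact.mk (show (7 : ℕ).Prime by norm_num)
  let f : Function.End U := fun u => ⟨T u, hU u u.2⟩
  have hf : ∀ (k : ℕ) (u : U), (((f ^ k : Function.End U) u : U) : V) = (T ^ k) u := by
    intro k
    induction k with
    | zero => intro u; rfl
    | succ k ih =>
      intro u
      rw [pow_succ', pow_succ']
      change T ((((f ^ k : Function.End U) u : U)) : V) = T ((T ^ k) u)
      rw [ih]
  have hf7 : f ^ 7 ^ 1 = 1 := by
    funext u
    apply Subtype.ext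
    rw [hf, pow_one, hT]
    rfl
  have h := Equiv.Perm.card_fixedPoints_modEq hf7
  rw [← Nat.card_eq_fintype_card, ← Nat.card_eq_fintype_card] at h
  refine h.trans ?_
  have h2 : Nat.card f.fixedPoints = Nat.card {u : U // T u = u} := by
    refine Nat.card_congr (Equiv.subtypeEquivRight fun u => ?_)
    change f u = u ↔ _
    rw [← Subtype.coe_inj]
  rw [h2]

theorem card_pow (h4 : Fintype.card F = 4) (U : Submodule F V) : Nat.card U = 4 ^ finrank F U := by
  rw [Module.natCard_eq_pow_finrank (K := F), Nat.card_eq_fintype_card, h4]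

/-- an element of order seven of `GL₃(4)` has no nonzero fixed vector -/
theorem fix_zero (h4 : Fintype.card F = 4) (hV : finrank F V = 3) {T : V →ₗ[F] V} (hT : T ^ 7 = 1) (hT1 : T ≠ 1)
    {v : V} (hv : T v = v) : v = 0 := by
  have h := card_inv hT ⊤ (fun u _ => trivial)
  have h1 : Nat.card (⊤ : Submodule F V) = 64 := by
    rw [card_pow h4, finrank_top, hV]; norm_num
  have h2 : Nat.card {u : (⊤ : Submodule F V) // T u = u} = Nat.card (LinearMap.ker (T - 1)) := by
    refine Nat.card_congr ⟨fun u => ⟨u.1, ?_⟩, fun w => ⟨⟨w, trivial⟩, ?_⟩, fun _ => rfl, fun _ => rfl⟩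
    · rw [LinearMap.mem_ker, LinearMap.sub_apply, u.2]
      simp
    · have := w.2
      rw [LinearMap.mem_ker, LinearMap.sub_apply, sub_eq_zero] at this
      exact this
  rw [h1, h2, card_pow h4] at h
  have h3 : finrank F (LinearMap.ker (T - 1)) ≤ 3 := by rw [← hV]; exact Submodule.finrank_le _
  have h5 : finrank F (LinearMap.ker (T - 1)) = 0 ∨ finrank F (LinearMap.ker (T - 1)) = 3 := by
    have h6 : finrank F (LinearMap.ker (T - 1)) = 0 ∨ finrank F (LinearMap.ker (T - 1)) = 1 ∨
      finrank F (LinearMap.ker (T - 1)) = 2 ∨ finrank F (LinearMap.ker (T - 1)) = 3 := by omega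
    rcases h6 with h6 | h6 | h6 | h6
    · exact Or.inl h6
    · rw [h6] at h; exact absurd h (by decide)
    · rw [h6] at h; exact absurd h (by decide)
    · exact Or.inr h6
  rcases h5 with h5 | h5
  · have h6 : LinearMap.ker (T - 1) = ⊥ := Submodule.finrank_eq_zero.1 h5
    have h7 : v ∈ LinearMap.ker (T - 1) := by
      rw [LinearMap.mem_ker, LinearMap.sub_apply, hv]
      simp
    rw [h6] at h7
    exact (Submodule.mem_bot F).1 h7
  · exfalso
    apply hT1
    have h6 : LinearMap.ker (T - 1) = ⊤ := Submodule.eq_top_of_finrank_eq (by rw [h5, hV])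
    have h7 : T - 1 = 0 := LinearMap.ker_eq_top.1 h6
    exact sub_eq_zero.1 h7

/-- an invertible map commuting with `T`, different from one, has no nonzero fixed vector -/
theorem fix_comm (h4 : Fintype.card F = 4) (hV : finrank F V = 3) {T g : V →ₗ[F] V} (hT : T ^ 7 = 1) (hT1 : T ≠ 1)
    (hg : g * T = T * g) (hg1 : g ≠ 1) {v : V} (hv : g v = v) : v = 0 := by
  have hU : ∀ u ∈ LinearMap.ker (g - 1), T u ∈ LinearMap.ker (g - 1) := by
    intro u hu
    rw [LinearMap.mem_ker, LinearMap.sub_apply, sub_eq_zero] at hu ⊢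
    have h1 : g u = u := hu
    have h2 : g (T u) = T (g u) := congrArg (fun A : V →ₗ[F] V => A u) hg
    change g (T u) = T u
    rw [h2, h1]
  have h := card_inv hT _ hU
  have h2 : Nat.card {u : LinearMap.ker (g - 1) // T u = u} = 1 := by
    rw [Nat.card_eq_one_iff_unique]
    refine ⟨⟨fun a b => ?_⟩, ⟨⟨0, by simp⟩⟩⟩
    apply Subtype.ext
    apply Subtype.ext
    rw [fix_zero h4 hV hT hT1 a.2, fix_zero h4 hV hT hT1 b.2]
  rw [h2, card_pow h4] at h
  have h3 : finrank F (LinearMap.ker (g - 1)) ≤ 3 := by rw [← hV]; exact Submodule.finrank_le _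
  have h5 : finrank F (LinearMap.ker (g - 1)) = 0 ∨ finrank F (LinearMap.ker (g - 1)) = 3 := by
    have h6 : finrank F (LinearMap.ker (g - 1)) = 0 ∨ finrank F (LinearMap.ker (g - 1)) = 1 ∨
      finrank F (LinearMap.ker (g - 1)) = 2 ∨ finrank F (LinearMap.ker (g - 1)) = 3 := by omega
    rcases h6 with h6 | h6 | h6 | h6
    · exact Or.inl h6
    · rw [h6] at h; exact absurd h (by decide)
    · rw [h6] at h; exact absurd h (by decide)
    · exact Or.inr h6
  rcases h5 with h5 | h5
  · have h6 : LinearMap.ker (g - 1) = ⊥ := Submodule.finrank_eq_zero.1 h5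
    have h7 : v ∈ LinearMap.ker (g - 1) := by
      rw [LinearMap.mem_ker, LinearMap.sub_apply, hv]
      simp
    rw [h6] at h7
    exact (Submodule.mem_bot F).1 h7
  · exfalso
    apply hg1
    have h6 : LinearMap.ker (g - 1) = ⊤ := Submodule.eq_top_of_finrank_eq (by rw [h5, hV])
    have h7 : g - 1 = 0 := LinearMap.ker_eq_top.1 h6
    exact sub_eq_zero.1 h7

end

/-- the centraliser of an element of order seven of `SL₃(4)` -/
theorem card_centralizer_le {F : Type*} [Field F] [Fintype F] (h4 : Fintype.card F = 4)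
    {x : Matrix.SpecialLinearGroup (Fin 3) F} (hx : x ^ 7 = 1) (hx1 : x ≠ 1) :
    Nat.card (Subgroup.centralizer ({x} : Set (Matrix.SpecialLinearGroup (Fin 3) F))) ≤ 63 := by
  classical
  let ρ : Matrix.SpecialLinearGroup (Fin 3) F →* ((Fin 3 → F) →ₗ[F] (Fin 3 → F)) :=
    { toFun := fun g => Matrix.toLin' (g : Matrix (Fin 3) (Fin 3) F)
      map_one' := by
        rw [Matrix.SpecialLinearGroup.coe_one, Matrix.toLin'_one]
        rfl
      map_mul' := fun a b => by
        rw [Matrix.SpecialLinearGroup.coe_mul, Matrix.toLin'_mul]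
        rfl }
  have hρ : Function.Injective ρ := by
    intro a b h
    exact Subtype.ext (Matrix.toLin'.injective h)
  have hV : finrank F (Fin 3 → F) = 3 := by simp
  have hT : ρ x ^ 7 = 1 := by rw [← map_pow, hx, map_one]
  have hT1 : ρ x ≠ 1 := fun h => hx1 (hρ (by rw [h, map_one]))
  let v₀ : Fin 3 → F := fun _ => 1
  have hv₀ : v₀ ≠ 0 := fun h => one_ne_zero (congrFun h 0)
  let f : Subgroup.centralizer ({x} : Set (Matrix.SpecialLinearGroup (Fin 3) F)) → {v : Fin 3 → F // v ≠ 0} :=
    fun g => ⟨ρ g v₀, fun h => hv₀ (by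
      have h1 : ρ ((g : Matrix.SpecialLinearGroup (Fin 3) F)⁻¹) (ρ g v₀) = v₀ := by
        have : ρ ((g : Matrix.SpecialLinearGroup (Fin 3) F)⁻¹) * ρ g = 1 := by
          rw [← map_mul, inv_mul_cancel, map_one]
        exact congrArg (fun A : (Fin 3 → F) →ₗ[F] (Fin 3 → F) => A v₀) this
      rw [h, map_zero] at h1
      exact h1.symm)⟩
  have hf : Function.Injective f := by
    intro a b hab
    have h1 : ρ a v₀ = ρ b v₀ := congrArg Subtype.val hab
    by_contra hne
    have h2 : ρ ((b : Matrix.SpecialLinearGroup (Fin 3) F)⁻¹ * a) v₀ = v₀ := by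
      have h3 : ρ ((b : Matrix.SpecialLinearGroup (Fin 3) F)⁻¹ * a) v₀ =
          ρ ((b : Matrix.SpecialLinearGroup (Fin 3) F)⁻¹) (ρ a v₀) := by
        rw [map_mul]; rfl
      rw [h3, h1]
      have : ρ ((b : Matrix.SpecialLinearGroup (Fin 3) F)⁻¹) * ρ b = 1 := by
        rw [← map_mul, inv_mul_cancel, map_one]
      exact congrArg (fun A : (Fin 3 → F) →ₗ[F] (Fin 3 → F) => A v₀) this
    have hmem : (b : Matrix.SpecialLinearGroup (Fin 3) F)⁻¹ * a ∈
        Subgroup.centralizer ({x} : Set (Matrix.SpecialLinearGroup (Fin 3) F)) :=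
      Subgroup.mul_mem _ (Subgroup.inv_mem _ b.2) a.2
    have hcomm := (Subgroup.mem_centralizer_singleton_iff.1 hmem)
    refine hv₀ (fix_comm h4 hV hT hT1 (g := ρ ((b : Matrix.SpecialLinearGroup (Fin 3) F)⁻¹ * a)) ?_ ?_ h2)
    · rw [← map_mul, ← map_mul, hcomm]
    · intro h3
      have h5 : (b : Matrix.SpecialLinearGroup (Fin 3) F)⁻¹ * a = 1 := hρ (by rw [h3, map_one])
      exact hne (Subtype.ext (inv_mul_eq_one.1 h5).symm)
  have h1 := Nat.card_le_card_of_injective f hf
  have h2 : Nat.card {v : Fin 3 → F // v ≠ 0} = 63 := by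
    rw [Nat.card_eq_fintype_card, Fintype.card_subtype_compl, Fintype.card_subtype_eq, Fintype.card_fun,
      Fintype.card_fin, h4]
    norm_num
  omega

end Cfsg.Agent.H725.Seven
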