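import Cfsg.Agent.H725.SevenLoc
import Cfsg.Agent.H725.SevenLin
import Cfsg.Agent.H725.SLFacts
import Cfsg.Agent.SmallSimple.BurnsideNC
import Cfsg.Agent.H902.Shape

/-!
# Elements of order seven of `PSL₃(4)` and of its central extensions (helper725)
-/

set_option autoImplicit false

namespace Cfsg.Agent.H725.Seven

open Cfsg Subgroup

universe u v

theorem card_comap_surj {G : Type u} {L : Type v} [Group G] [Group L] [Finite G] (f : G →* L)
    (hf : Function.Surjective f) (K : Subgroup L) : Nat.card (K.comap f) = Nat.card f.ker * Nat.card K := by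
  have : Finite L := Finite.of_surjective f hf
  have h1 := Subgroup.card_mul_index (K.comap f)
  have h2 := Subgroup.card_mul_index K
  have h3 := Subgroup.card_mul_index f.ker
  have h4 : f.ker.index = Nat.card L := by
    rw [Subgroup.index_ker, MonoidHom.range_eq_top.2 hf]
    exact Nat.card_congr Subgroup.topEquiv.toEquiv
  rw [Subgroup.index_comap_of_surjective _ hf] at h1
  rw [h4] at h3
  have h5 : 0 < K.index := Nat.pos_of_ne_zero Subgroup.index_ne_zero_of_finite
  apply Nat.eq_of_mul_eq_mul_right h5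
  rw [h1, mul_assoc, h2, h3]

theorem centralizer_zpowers {G : Type u} [Group G] (x : G) :
    Subgroup.centralizer ((Subgroup.zpowers x : Subgroup G) : Set G) = Subgroup.centralizer ({x} : Set G) := by
  ext g
  rw [Subgroup.mem_centralizer_singleton_iff, Subgroup.mem_centralizer_iff]
  constructor
  · intro h
    exact (h x (Subgroup.mem_zpowers x)).symm
  · rintro h y ⟨k, rfl⟩
    have h1 : Commute g x := h
    exact (h1.zpow_right k).symm

/-- a conjugation with order constraint -/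
theorem z_pow_of_conj {G : Type u} [Group G] {z y w : G} (hz : z ∈ Subgroup.center G) (hy : y ^ 7 = 1) (hw : w ^ 7 = 1)
    {n : ℕ} (hzn : z ^ n = 1) (hn7 : Nat.Coprime n 7) {k : ℕ} (h : IsConj (y * z ^ k) w) : z ^ k = 1 := by
  obtain ⟨g, hg⟩ := isConj_iff.1 h
  have hc : Commute y (z ^ k) := (Commute.pow_right (Subgroup.mem_center_iff.1 hz y) k)
  have h1 : (y * z ^ k) ^ 7 = 1 := by
    have h2 : (g * (y * z ^ k) * g⁻¹) ^ 7 = 1 := by rw [hg, hw]
    rw [conj_pow, mul_inv_eq_one] at h2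
    exact mul_left_cancel (h2.trans (mul_one g).symm)
  rw [hc.mul_pow, hy, one_mul] at h1
  have h3 : orderOf (z ^ k) ∣ 7 := orderOf_dvd_of_pow_eq_one h1
  have h4 : orderOf (z ^ k) ∣ n := orderOf_dvd_of_pow_eq_one (by rw [← pow_mul, mul_comm, pow_mul, hzn, one_pow])
  have h5 : orderOf (z ^ k) ∣ 1 := by
    rw [← hn7.gcd_eq_one]
    exact Nat.dvd_gcd h4 h3
  rw [← orderOf_eq_one_iff]
  exact Nat.dvd_one.1 h5

/-- lifting -/
theorem Loc.lift {G : Type u} {L : Type v} [Group G] [Group L] [Finite G] (π : G →* L) (hπ : Function.Surjective π)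
    {z : G} (hz : z ∈ Subgroup.center G) {n : ℕ} (hn0 : n ≠ 0) (hzn : orderOf z = n) (hn7 : Nat.Coprime n 7)
    (hk : π.ker = Subgroup.zpowers z) {x : L} (hx : x ^ 7 = 1) (hx1 : x ≠ 1)
    (hC : Nat.card (Subgroup.centralizer ({x} : Set L)) = 7) (h2 : IsConj x (x ^ 2)) (hinv : ¬ IsConj x x⁻¹) :
    ∃ y : G, Loc z y n ∧ π y = x := by
  obtain ⟨y₀, hy₀⟩ := hπ x
  obtain ⟨m, hm7, hmn⟩ : ∃ m, m ≡ 1 [MOD 7] ∧ n ∣ m := by
    obtain ⟨m, h1, h2⟩ := Nat.chineseRemainder hn7 0 1
    exact ⟨m, h2, (Nat.modEq_zero_iff_dvd).1 h1⟩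
  have hzn1 : z ^ n = 1 := by rw [← hzn, pow_orderOf_eq_one]
  have hmem : ∀ g : G, π g = 1 → ∃ k < n, g = z ^ k := by
    intro g hg
    have h1 : g ∈ Subgroup.zpowers z := by rw [← hk]; exact hg
    obtain ⟨k, hk1⟩ := mem_powers_iff_mem_zpowers.2 h1
    refine ⟨k % n, Nat.mod_lt _ (Nat.pos_of_ne_zero hn0), ?_⟩
    rw [← hzn, pow_mod_orderOf]
    exact hk1.symm
  have hpz : ∀ k, π (z ^ k) = 1 := by
    intro k
    have : z ^ k ∈ π.ker := by rw [hk]; exact Subgroup.pow_mem _ (Subgroup.mem_zpowers z) k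
    exact this
  set y := y₀ ^ m with hy
  have hπy : π y = x := by
    rw [hy, map_pow, hy₀]
    have : x ^ m = x ^ 1 := by
      rw [pow_eq_pow_iff_modEq]
      have h3 : orderOf x ∣ 7 := orderOf_dvd_of_pow_eq_one hx
      exact hm7.of_dvd h3
    rw [this, pow_one]
  have hy7 : y ^ 7 = 1 := by
    obtain ⟨k, -, h1⟩ := hmem (y₀ ^ 7) (by rw [map_pow, hy₀, hx])
    obtain ⟨j, hj⟩ := hmn
    rw [hy, ← pow_mul, mul_comm m 7, pow_mul, h1, hj, ← pow_mul, mul_comm, mul_assoc, pow_mul, hzn1, one_pow]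
  have hzk : ∀ k < n, z ^ k = 1 → k = 0 := by
    intro k hk1 h1
    rw [← hzn] at hk1
    by_contra h3
    exact absurd (Nat.le_of_dvd (Nat.pos_of_ne_zero h3) (orderOf_dvd_of_pow_eq_one h1)) (by omega)
  refine ⟨y, ⟨hn0, hz, hzn1, hy7, ?_, ?_, ?_, ?_, ?_⟩, hπy⟩
  · -- centraliser
    have h3 : Subgroup.centralizer ({y} : Set G) = (Subgroup.centralizer ({x} : Set L)).comap π := by
      ext g
      rw [Subgroup.mem_comap, Subgroup.mem_centralizer_singleton_iff, Subgroup.mem_centralizer_singleton_iff]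
      constructor
      · intro h
        rw [← hπy, ← map_mul, ← map_mul, h]
      · intro h
        have h4 : π (y⁻¹ * (g * y * g⁻¹)) = 1 := by
          rw [map_mul, map_mul, map_mul, map_inv, map_inv, hπy, h]
          group
        obtain ⟨k, -, h5⟩ := hmem _ h4
        have h6 : y * z ^ k = g * y * g⁻¹ := by rw [← h5]; group
        have h7 : IsConj (y * z ^ k) y := by
          rw [h6]
          exact isConj_iff.2 ⟨g⁻¹, by group⟩
        have h8 := z_pow_of_conj hz hy7 hy7 hzn1 hn7 h7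
        rw [h8, mul_one] at h6
        exact (eq_mul_inv_iff_mul_eq.1 h6).symm
    rw [h3, card_comap_surj π hπ, hC, hk, Nat.card_zpowers, hzn, mul_comm]
  · obtain ⟨g', hg'⟩ := isConj_iff.1 h2
    obtain ⟨g, rfl⟩ := hπ g'
    have h4 : π (y ^ 2 * (g * y * g⁻¹)⁻¹) = 1 := by
      rw [map_mul, map_inv, map_mul, map_mul, map_inv, map_pow, hπy, hg', mul_inv_cancel]
    obtain ⟨k, -, h5⟩ := hmem _ h4
    have hcz : ∀ w : G, w * z ^ k = z ^ k * w := fun w => Subgroup.mem_center_iff.1 (Subgroup.pow_mem _ hz k) w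
    have h6 : y ^ 2 = z ^ k * (g * y * g⁻¹) := mul_inv_eq_iff_eq_mul.1 h5
    have h7 : IsConj (y * z ^ k) (y ^ 2) := by
      rw [h6]
      refine isConj_iff.2 ⟨g, ?_⟩
      rw [← hcz, mul_assoc g, mul_assoc g, mul_assoc y, ← hcz g⁻¹]
      group
    have h8 := z_pow_of_conj hz hy7 (by rw [← pow_mul, mul_comm, pow_mul, hy7, one_pow]) hzn1 hn7 h7
    rw [h8, mul_one] at h7
    exact h7
  · intro k _ h1
    apply hx1
    have := congrArg π h1
    rwa [map_mul, hpz, mul_one, hπy, map_one] at this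
  · intro k _ h1
    apply hinv
    have := MonoidHom.map_isConj π h1
    rwa [map_mul, hpz, mul_one, map_inv, hπy] at this
  · intro k hk1 hk0 h1
    exact hk0 (hzk k hk1 (z_pow_of_conj hz hy7 hy7 hzn1 hn7 h1))

/-- numbers -/
theorem nums {c e n₇ : ℕ} (h7 : 7 ∣ c) (hc : c ≤ 21) (hc0 : 0 < c) (he : e ∣ 6) (he1 : e ≠ 1)
    (h : n₇ * (c * e) = 20160) (hn : n₇ ≡ 1 [MOD 7]) : c = 7 ∧ e = 3 := by
  have h1 : c = 7 ∨ c = 14 ∨ c = 21 := by omega
  have he6 := Nat.le_of_dvd (by norm_num) he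
  have h2 : e = 2 ∨ e = 3 ∨ e = 6 := by
    interval_cases e
    · omega
    · exact absurd rfl he1
    · exact Or.inl rfl
    · exact Or.inr (Or.inl rfl)
    · exact absurd he (by norm_num)
    · exact absurd he (by norm_num)
    · exact Or.inr (Or.inr rfl)
  unfold Nat.ModEq at hn
  rcases h1 with rfl | rfl | rfl <;> rcases h2 with rfl | rfl | rfl <;> omega

/-- **The base case**: `PSL₃(4)`. -/
theorem base {H : Type v} [Group H] [Finite H] [IsSimpleGroup (H ⧸ Subgroup.center H)]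
    (hZ : Nat.card (Subgroup.center H) = 3) (hL : Nat.card (H ⧸ Subgroup.center H) = 20160)
    (h63 : ∀ y : H, y ^ 7 = 1 → y ≠ 1 → Nat.card (Subgroup.centralizer ({y} : Set H)) ≤ 63) :
    ∃ x : H ⧸ Subgroup.center H, x ^ 7 = 1 ∧ x ≠ 1 ∧
      Nat.card (Subgroup.centralizer ({x} : Set (H ⧸ Subgroup.center H))) = 7 ∧
      IsConj x (x ^ 2) ∧ ¬ IsConj x x⁻¹ := by
  classical
  have := Fact.mk (show (7 : ℕ).Prime by norm_num)
  obtain ⟨P⟩ : Nonempty (Sylow 7 (H ⧸ Subgroup.center H)) := inferInstance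
  have hP : Nat.card P = 7 := by
    rw [P.card_eq_multiplicity, hL]
    have h1 : (20160 : ℕ) = 7 ^ 1 * 2880 := by norm_num
    have h2 := Cfsg.Agent.H902.Art.P_pow_self (r := 7) (k := 1) (a := 2880) (by norm_num) (by norm_num)
    rw [← h1] at h2
    exact h2
  obtain ⟨e, he6, he1, -, hN, hn7, h7C⟩ :=
    SmallSimple.BurnsideNC.exists_automizer_of_card_eq_prime (p := 7) (by rw [hL]; norm_num) P hP
  -- the generator
  obtain ⟨⟨x, hxP⟩, hxo⟩ := exists_prime_orderOf_dvd_card' (G := P) 7 (by rw [hP])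
  rw [Subgroup.orderOf_mk] at hxo
  have hx7 : x ^ 7 = 1 := by rw [← hxo, pow_orderOf_eq_one]
  have hx1 : x ≠ 1 := by
    rintro rfl
    rw [orderOf_one] at hxo
    omega
  have hPx : (P : Subgroup (H ⧸ Subgroup.center H)) = Subgroup.zpowers x := by
    refine (Subgroup.eq_of_le_of_card_ge ?_ ?_).symm
    · rw [Subgroup.zpowers_le]; exact hxP
    · rw [Nat.card_zpowers, hxo]
      exact hP.le
  have hCP : Subgroup.centralizer (P : Set (H ⧸ Subgroup.center H)) = Subgroup.centralizer {x} := by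
    rw [← centralizer_zpowers, ← hPx]
    rfl
  -- the centraliser
  let π := QuotientGroup.mk' (Subgroup.center H)
  have hπ : Function.Surjective π := QuotientGroup.mk'_surjective _
  have hker : π.ker = Subgroup.center H := QuotientGroup.ker_mk' _
  have hc21 : Nat.card (Subgroup.centralizer ({x} : Set (H ⧸ Subgroup.center H))) ≤ 21 := by
    obtain ⟨y₀, hy₀⟩ := hπ x
    have hz3 : ∀ w ∈ Subgroup.center H, w ^ 3 = 1 := by
      intro w hw
      have := pow_card_eq_one' (x := (⟨w, hw⟩ : Subgroup.center H))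
      rw [hZ] at this
      exact congrArg Subtype.val this
    have hy21 : y₀ ^ 21 = 1 := by
      have h1 : y₀ ^ 7 ∈ Subgroup.center H := by
        rw [← hker, MonoidHom.mem_ker, map_pow, hy₀, hx7]
      rw [show 21 = 7 * 3 by norm_num, pow_mul, hz3 _ h1]
    set y := y₀ ^ 15 with hy
    have hy7 : y ^ 7 = 1 := by
      rw [hy, ← pow_mul, show 15 * 7 = 21 * 5 by norm_num, pow_mul, hy21, one_pow]
    have hπy : π y = x := by
      rw [hy, map_pow, hy₀, show 15 = 7 * 2 + 1 by norm_num, pow_succ, pow_mul, hx7, one_pow, one_mul]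
    have hy1 : y ≠ 1 := by
      intro h
      rw [h, map_one] at hπy
      exact hx1 hπy.symm
    have hle : (Subgroup.centralizer ({x} : Set (H ⧸ Subgroup.center H))).comap π ≤
        Subgroup.centralizer {y} := by
      intro g hg
      rw [Subgroup.mem_comap, Subgroup.mem_centralizer_singleton_iff] at hg
      rw [Subgroup.mem_centralizer_singleton_iff]
      have h4 : y⁻¹ * (g * y * g⁻¹) ∈ Subgroup.center H := by
        rw [← hker, MonoidHom.mem_ker, map_mul, map_mul, map_mul, map_inv, map_inv, hπy, hg]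
        group
      set z := y⁻¹ * (g * y * g⁻¹) with hz
      have h6 : y * z ^ 1 = g * y * g⁻¹ := by rw [pow_one, hz]; group
      have h7 : IsConj (y * z ^ 1) y := by
        rw [h6]
        exact isConj_iff.2 ⟨g⁻¹, by group⟩
      have h8 := z_pow_of_conj h4 hy7 hy7 (hz3 z h4) (by norm_num) h7
      rw [h8, mul_one] at h6
      exact (eq_mul_inv_iff_mul_eq.1 h6).symm
    have h1 := Subgroup.card_le_of_le hle
    rw [card_comap_surj π hπ, hker, hZ] at h1
    have h2 := h63 y hy7 hy1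
    omega
  rw [hCP] at hN h7C
  have hnum := nums h7C hc21 Nat.card_pos he6 he1 (by rw [← hN, hn7, hL]) (card_sylow_modEq_one 7 _)
  obtain ⟨hc7, he3⟩ := hnum
  rw [hc7, he3] at hN
  have hmemN : ∀ g : H ⧸ Subgroup.center H, ∀ k : ℕ, g * x * g⁻¹ = x ^ k → k.Coprime 7 →
      g ∈ Subgroup.normalizer (P : Set (H ⧸ Subgroup.center H)) := by
    intro g k hg hk
    have h1 : (P : Subgroup (H ⧸ Subgroup.center H)).map (MulAut.conj g).toMonoidHom = P := by
      rw [hPx, MonoidHom.map_zpowers]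
      refine Subgroup.eq_of_le_of_card_ge ?_ ?_
      · rw [Subgroup.zpowers_le]
        change g * x * g⁻¹ ∈ _
        rw [hg]
        exact Subgroup.pow_mem _ (Subgroup.mem_zpowers x) k
      · rw [Nat.card_zpowers, Nat.card_zpowers]
        exact (orderOf_injective (MulAut.conj g).toMonoidHom (MulAut.conj g).injective x).ge
    refine (Subgroup.mem_normalizer_iff (H := (P : Subgroup (H ⧸ Subgroup.center H)))).2 ?_
    intro w
    constructor
    · intro hw
      have h2 : g * w * g⁻¹ ∈ (P : Subgroup (H ⧸ Subgroup.center H)).map (MulAut.conj g).toMonoidHom := ⟨w, hw, rfl⟩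
      rw [h1] at h2
      exact h2
    · intro hw
      have h2 : g * w * g⁻¹ ∈ (P : Subgroup (H ⧸ Subgroup.center H)).map (MulAut.conj g).toMonoidHom := by
        rw [h1]; exact hw
      obtain ⟨w', hw', h3⟩ := h2
      have h4 : g * w' * g⁻¹ = g * w * g⁻¹ := h3
      have h5 : w' = w := mul_left_cancel (mul_right_cancel h4)
      rw [← h5]
      exact hw'
  have hN21 : ∀ g ∈ Subgroup.normalizer (P : Set (H ⧸ Subgroup.center H)), g ^ 21 = 1 := by
    intro g hg
    have := pow_card_eq_one' (x := (⟨g, hg⟩ : Subgroup.normalizer (P : Set (H ⧸ Subgroup.center H))))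
    rw [hN] at this
    exact congrArg Subtype.val this
  refine ⟨x, hx7, hx1, hc7, ?_, ?_⟩
  · -- fusion
    obtain ⟨g, hgN, hgC⟩ : ∃ g ∈ Subgroup.normalizer (P : Set (H ⧸ Subgroup.center H)),
        g ∉ Subgroup.centralizer ({x} : Set (H ⧸ Subgroup.center H)) := by
      by_contra hcon
      push Not at hcon
      have h1 := Subgroup.card_le_of_le (show Subgroup.normalizer (P : Set (H ⧸ Subgroup.center H)) ≤ _ from hcon)
      rw [hN, hc7] at h1
      omega
    have hgP : ∀ w ∈ (P : Subgroup (H ⧸ Subgroup.center H)), g * w * g⁻¹ ∈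
        (P : Subgroup (H ⧸ Subgroup.center H)) := fun w hw => (Subgroup.mem_normalizer_iff.1 hgN w).1 hw
    have hg3 : g ^ 3 ∈ (P : Subgroup (H ⧸ Subgroup.center H)) := by
      have h0 : (g ^ 3) ^ 7 = 1 := by rw [← pow_mul, hN21 g hgN]
      have h1 : IsPGroup 7 (Subgroup.zpowers (g ^ 3)) := by
        rintro ⟨w, k, rfl⟩
        refine ⟨1, Subtype.ext ?_⟩
        change ((g ^ 3) ^ k) ^ (7 ^ 1) = 1
        rw [pow_one, ← zpow_natCast, ← zpow_mul, mul_comm, zpow_mul, zpow_natCast, h0, one_zpow]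
      have h2 := h1.inf_normalizer_sylow P
      have h3 : g ^ 3 ∈ Subgroup.zpowers (g ^ 3) ⊓ (P : Subgroup (H ⧸ Subgroup.center H)) := by
        rw [← h2]
        exact ⟨Subgroup.mem_zpowers _, Subgroup.pow_mem _ hgN 3⟩
      exact h3.2
    have hg3c : g ^ 3 * x * (g ^ 3)⁻¹ = x := by
      rw [hPx] at hg3
      obtain ⟨k, hk⟩ := hg3
      have h1 : Commute (g ^ 3) x := by
        rw [← hk]
        exact (Commute.refl x).zpow_left k
      rw [h1.eq, mul_inv_cancel_right]
    obtain ⟨a, ha⟩ : ∃ a : ℕ, g * x * g⁻¹ = x ^ a := by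
      have h1 := hgP x hxP
      rw [hPx] at h1
      obtain ⟨a, ha⟩ := mem_powers_iff_mem_zpowers.2 h1
      exact ⟨a, ha.symm⟩
    have ha' : g * x * g⁻¹ = x ^ (a % 7) := by
      rw [ha, ← hxo, pow_mod_orderOf]
    have hlt : a % 7 < 7 := Nat.mod_lt _ (by norm_num)
    generalize a % 7 = b at ha' hlt
    have h3 : x ^ (b * b * b) = x := by
      have e1 : g ^ 3 * x * (g ^ 3)⁻¹ = g * (g * (g * x * g⁻¹) * g⁻¹) * g⁻¹ := by
        rw [show g ^ 3 = g * g * g by rw [pow_succ, pow_two]]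
        simp only [mul_inv_rev, mul_assoc]
      rw [hg3c, ha', ← conj_pow, ha', ← pow_mul, ← conj_pow, ha', ← pow_mul] at e1
      rw [← mul_assoc] at e1
      exact e1.symm
    have h5 : x ^ (b * b * b) = x ^ 1 := by rw [h3, pow_one]
    rw [pow_eq_pow_iff_modEq, hxo] at h5
    have h6 : b = 1 ∨ b = 2 ∨ b = 4 := by
      unfold Nat.ModEq at h5
      interval_cases b <;> omega
    rcases h6 with rfl | rfl | rfl
    · exfalso
      apply hgC
      rw [Subgroup.mem_centralizer_singleton_iff]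
      rw [pow_one] at ha'
      exact mul_inv_eq_iff_eq_mul.1 ha'
    · exact isConj_iff.2 ⟨g, ha'⟩
    · refine isConj_iff.2 ⟨g ^ 2, ?_⟩
      have e1 : g ^ 2 * x * (g ^ 2)⁻¹ = g * (g * x * g⁻¹) * g⁻¹ := by
        rw [pow_two]
        simp only [mul_inv_rev, mul_assoc]
      rw [e1, ha', ← conj_pow, ha', ← pow_mul, show 4 * 4 = 7 * 2 + 2 by norm_num, pow_add, pow_mul, hx7, one_pow,
        one_mul]
  · intro hcj
    obtain ⟨g, hg⟩ := isConj_iff.1 hcj
    have hinv : x⁻¹ = x ^ 6 := by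
      rw [inv_eq_iff_mul_eq_one, ← pow_succ', hx7]
    rw [hinv] at hg
    have h1 := hN21 g (hmemN g 6 hg (by norm_num))
    have hg2 : Commute (g ^ 2) x := by
      have h2 : g ^ 2 * x * (g ^ 2)⁻¹ = x := by
        have h3 : g ^ 2 * x * (g ^ 2)⁻¹ = g * (g * x * g⁻¹) * g⁻¹ := by
          rw [pow_two]
          simp only [mul_inv_rev, mul_assoc]
        rw [h3, hg, ← conj_pow, hg, ← pow_mul, show 6 * 6 = 7 * 5 + 1 by norm_num, pow_succ, pow_mul, hx7, one_pow,
          one_mul]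
      exact mul_inv_eq_iff_eq_mul.1 h2
    have hgc : Commute g x := by
      have h2 : g = ((g ^ 2) ^ 10)⁻¹ := by
        rw [eq_inv_iff_mul_eq_one, ← pow_mul, ← pow_succ', h1]
      rw [h2]
      exact (hg2.pow_left 10).inv_left
    have h3 : x = x ^ 6 := by
      rw [← hg, hgc.eq, mul_inv_cancel_right]
    have h5 : x ^ 5 = 1 := by
      have h6 : x * x ^ 5 = x * 1 := by rw [← pow_succ', ← h3, mul_one]
      exact mul_left_cancel h6
    have h6 := orderOf_dvd_of_pow_eq_one h5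
    rw [hxo] at h6
    norm_num at h6

end Cfsg.Agent.H725.Seven
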