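import Cfsg.Agent.H725.CenSmall
import Cfsg.Agent.H725.SevenComb
import Cfsg.Agent.H725.SevenEx

/-!
# The central case for `SL₃(4)` (helper725)
-/

set_option autoImplicit false

namespace Cfsg.Agent.H725.CenFour

open Cfsg Cfsg.Agent.H725.Cod Cfsg.Agent.H725.Lam Cfsg.Agent.H725.SLFacts Cfsg.Agent.H725.CenGen
open Cfsg.Agent.H686.CharKit Cfsg.Agent.H677.CodPrime Cfsg.Agent.H677.CodMultiset Cfsg.Agent.H725.Seven
open Finset ComplexConjugate

universe u v

/-- degrees modulo seven -/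
theorem deg_mod {G : Type u} [Group G] [Finite G] {z x : G} {n : ℕ} (L : Loc z x n) (χ : IrrCharacter G) :
    ∃ s : ℤ, (s = 0 ∨ s = 1 ∨ s = -1 ∨ s = 2 ∨ s = -2) ∧ (7 : ℤ) ∣ (charDegree (χ : G → ℂ) : ℤ) + 3 * s := by
  classical
  have := Characters.Core.finite_irr (G := G)
  let _ := Fintype.ofFinite (IrrCharacter G)
  obtain ⟨c, hc, hχ⟩ := Lam.exists_scalar χ L.hz L.hzn
  obtain ⟨s, r, h1, h2, h3, h4, h5, h6⟩ := L.main hc
  have hmem : χ ∈ Lam z c := by
    rw [mem_Lam]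
    have := hχ 1
    rwa [one_mul] at this
  obtain ⟨c', σ, E, N, hE, hN, -, -, -, hσ, hEs, hNs, h0, -⟩ := comb (Lam z c) s r (fun χ => (charDegree (χ : G → ℂ) : ℤ))
    (fun χ _ => by exact_mod_cast charDegree_pos χ) h1 h2 (fun χ _ => h3 χ) h4 h5 (fun χ _ => h6 χ)
  refine ⟨s χ, ?_, h6 χ⟩
  by_cases hχE : χ ∈ E
  · rw [(hEs χ hχE).1]
    rcases hσ with h | h <;> rw [h] <;> simp
  · by_cases hχN : χ ∈ N
    · rcases hNs χ hχN with h | h <;> rw [h] <;> simp
    · rw [h0 χ hmem hχE hχN]; simp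

/-- numbers -/
theorem num_four {x y : ℕ} {ε σ : ℤ} (hε : ε = 2 ∨ ε = -2) (hσ : σ = 1 ∨ σ = -1) (hx0 : 0 < x) (hy0 : 0 < y)
    (hx : x ∣ 20160) (hy : y ∣ 20160) (hx7 : (7 : ℤ) ∣ (x : ℤ) + 3 * ε)
    (hsq : x ^ 2 + 2 * y ^ 2 ≤ 16063) (h : 2 + 128 + ε * x + 2 * σ * y = 0) : 45 ≤ y := by
  have hx126 : x ≤ 126 := by
    by_contra h1
    push Not at h1
    have : 127 ^ 2 ≤ x ^ 2 := Nat.pow_le_pow_left h1 2
    omega
  by_contra hy45
  push Not at hy45
  rcases hε with rfl | rfl <;> rcases hσ with rfl | rfl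
  · omega
  · omega
  · -- `y = x - 65`
    have hyx : x = y + 65 := by omega
    subst hyx
    have h1 : y % 7 = 4 := by omega
    interval_cases y <;> omega
  · have hyx : y = 65 - x := by omega
    have h0 : x < 65 := by omega
    subst hyx
    have h1 : x % 7 = 6 := by omega
    have h2 : 20 < x := by omega
    interval_cases x <;> omega

/-- the characters of `L₃(4)` of degree `± 3` modulo seven -/
theorem four_main {L : Type u} [Group L] [Finite L] {x : L} (hL : Nat.card L = 20160) (hx : Loc (1 : L) x 1)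
    {St : IrrCharacter L} (hSt : charDegree (St : L → ℂ) = 64) :
    ∃ y : ℕ, 45 ≤ y ∧ ∀ χ : IrrCharacter L, (charDegree (χ : L → ℂ) % 7 = 3 ∨ charDegree (χ : L → ℂ) % 7 = 4) →
      charDegree (χ : L → ℂ) = y := by
  classical
  have := Characters.Core.finite_irr (G := L)
  let _ := Fintype.ofFinite (IrrCharacter L)
  have hall : ∀ χ : IrrCharacter L, χ ∈ Lam (1 : L) 1 := fun χ => by rw [mem_Lam, one_mul]
  obtain ⟨s, r, h1, h2, h3, h4, h5, h6⟩ := hx.main (c := 1) (by norm_num)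
  obtain ⟨c', σ, E, N, hE, hN, hEN, hE2, hN3, hσ, hEs, hNs, h0, hsum⟩ := comb (Lam 1 1) s r
    (fun χ => (charDegree (χ : L → ℂ) : ℤ))
    (fun χ _ => by exact_mod_cast charDegree_pos χ) h1 h2 (fun χ _ => h3 χ) h4 h5 (fun χ _ => h6 χ)
  have hcase : ∀ χ : IrrCharacter L, (χ ∈ E ∧ s χ = σ) ∨ (χ ∈ N ∧ (s χ = 2 ∨ s χ = -2)) ∨ s χ = 0 := by
    intro χ
    by_cases hχE : χ ∈ E
    · exact Or.inl ⟨hχE, (hEs χ hχE).1⟩
    · by_cases hχN : χ ∈ N
      · exact Or.inr (Or.inl ⟨hχN, hNs χ hχN⟩)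
      · exact Or.inr (Or.inr (h0 χ (hall χ) hχE hχN))
  have hone1 : charDegree (one L : L → ℂ) = 1 := charDegree_one
  have hone : one L ∈ N ∧ s (one L) = 2 := by
    have h7 := h6 (one L)
    rw [hone1] at h7
    rcases hcase (one L) with ⟨-, h8⟩ | ⟨h9, h8⟩ | h8
    · rcases hσ with h | h <;> rw [h8, h] at h7 <;> norm_num at h7
    · refine ⟨h9, ?_⟩
      rcases h8 with h | h
      · exact h
      · rw [h] at h7; norm_num at h7
    · rw [h8] at h7; norm_num at h7
  have hst : St ∈ N ∧ s St = 2 := by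
    have h7 := h6 St
    rw [hSt] at h7
    rcases hcase St with ⟨-, h8⟩ | ⟨h9, h8⟩ | h8
    · rcases hσ with h | h <;> rw [h8, h] at h7 <;> norm_num at h7
    · refine ⟨h9, ?_⟩
      rcases h8 with h | h
      · exact h
      · rw [h] at h7; norm_num at h7
    · rw [h8] at h7; norm_num at h7
  have hne : one L ≠ St := by
    intro h
    rw [← h, hone1] at hSt
    omega
  -- the third character of `N`
  obtain ⟨X, hX⟩ : ∃ X, (N.erase (one L)).erase St = {X} := by
    rw [← card_eq_one, card_erase_of_mem (mem_erase.2 ⟨hne.symm, hst.1⟩), card_erase_of_mem hone.1, hN3]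
  have hXm : X ∈ (N.erase (one L)).erase St := by rw [hX]; exact mem_singleton_self X
  obtain ⟨hX1, hX2⟩ := mem_erase.1 hXm
  obtain ⟨hX2, hX3⟩ := mem_erase.1 hX2
  have hNsum : ∀ f : IrrCharacter L → ℤ, ∑ i ∈ N, f i = f (one L) + (f St + f X) := by
    intro f
    rw [← add_sum_erase N f hone.1, ← add_sum_erase (N.erase (one L)) f (mem_erase.2 ⟨hne.symm, hst.1⟩), hX,
      sum_singleton]
  rw [hNsum, hone.2, hst.2, hone1, hSt] at hsum
  obtain ⟨e₁, e₂, hee, hEe⟩ := card_eq_two.1 hE2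
  have he₁ : e₁ ∈ E := by rw [hEe]; simp
  have he₂ : e₂ ∈ E := by rw [hEe]; simp
  have hc1 := (hEs e₁ he₁).2
  have hc2 := (hEs e₂ he₂).2
  set y := charDegree (e₁ : L → ℂ) with hy
  have hyE : ∀ χ ∈ E, charDegree (χ : L → ℂ) = y := by
    intro χ hχ
    have := (hEs χ hχ).2
    rw [← hc1] at this
    exact_mod_cast this
  -- the sum of squares
  have hsq : ∑ χ : IrrCharacter L, charDegree (χ : L → ℂ) ^ 2 = 20160 := by
    have h7 := sum_sq_ne (G := L)
    rw [hL] at h7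
    rw [← sum_erase_add univ _ (mem_univ (one L)), charDegree_one]
    omega
  have hsub : ({one L, St, X, e₁, e₂} : Finset (IrrCharacter L)) ⊆ univ := subset_univ _
  have hd : ∀ a ∈ E, ∀ b ∈ N, a ≠ b := by
    rintro a ha b hb rfl
    exact (Finset.disjoint_left.1 hEN) ha hb
  have h7 : ∑ χ ∈ ({one L, St, X, e₁, e₂} : Finset (IrrCharacter L)), charDegree (χ : L → ℂ) ^ 2 ≤ 20160 := by
    rw [← hsq]
    exact sum_le_sum_of_subset hsub
  rw [sum_insert, sum_insert, sum_insert, sum_pair hee, hone1, hSt, hyE e₂ he₂] at h7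
  rotate_left
  · simp only [mem_insert, mem_singleton, not_or]
    exact ⟨(hd e₁ he₁ X hX3).symm, (hd e₂ he₂ X hX3).symm⟩
  · simp only [mem_insert, mem_singleton, not_or]
    exact ⟨hX1.symm, (hd e₁ he₁ St hst.1).symm, (hd e₂ he₂ St hst.1).symm⟩
  · simp only [mem_insert, mem_singleton, not_or]
    exact ⟨hne, hX2.symm, (hd e₁ he₁ _ hone.1).symm, (hd e₂ he₂ _ hone.1).symm⟩
  have h8 : 45 ≤ y := by
    refine num_four (x := charDegree (X : L → ℂ)) (ε := s X) (σ := σ) (hNs X hX3) hσ (charDegree_pos X)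
      (charDegree_pos e₁) ?_ ?_ (h6 X) ?_ ?_
    · rw [← hL]; exact charDegree_dvd_card X
    · rw [← hL]; exact charDegree_dvd_card e₁
    · rw [← hy] at h7; omega
    · rw [← hc1] at hsum
      push_cast at hsum
      linarith
  refine ⟨y, h8, fun χ hχ => ?_⟩
  have h9 := h6 χ
  rcases hcase χ with ⟨h10, -⟩ | ⟨-, h8 | h8⟩ | h8
  · exact hyE χ h10
  · rw [h8] at h9; omega
  · rw [h8] at h9; omega
  · rw [h8] at h9; omega

/-- the element of order seven -/
theorem exists_loc {F : Type} [Field F] [Fintype F] (hF : Fintype.card F = 4) :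
    ∃ x : Matrix.SpecialLinearGroup (Fin 3) F ⧸ Subgroup.center (Matrix.SpecialLinearGroup (Fin 3) F),
      x ^ 7 = 1 ∧ x ≠ 1 ∧ Nat.card (Subgroup.centralizer
        ({x} : Set (Matrix.SpecialLinearGroup (Fin 3) F ⧸ Subgroup.center (Matrix.SpecialLinearGroup (Fin 3) F)))) = 7 ∧
      IsConj x (x ^ 2) ∧ ¬ IsConj x x⁻¹ := by
  have hQ := qs_three (F := F)
  have hsimp : IsSimpleGroup (Matrix.SpecialLinearGroup (Fin 3) F ⧸
    Subgroup.center (Matrix.SpecialLinearGroup (Fin 3) F)) := hQ.simple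
  have hidx : (Subgroup.center (Matrix.SpecialLinearGroup (Fin 3) F)).index = 20160 := by
    have := index_three (F := F)
    rw [hF] at this
    norm_num at this
    omega
  have hZ : Nat.card (Subgroup.center (Matrix.SpecialLinearGroup (Fin 3) F)) = 3 := by
    rw [card_center (by norm_num), hF]; norm_num
  refine base hZ (by rw [← Subgroup.index_eq_card]; exact hidx) fun y hy hy1 => ?_
  exact card_centralizer_le hF hy hy1

/-- `SL₃(4)` -/
theorem three_four {F : Type} [Field F] [Fintype F] (hF : Fintype.card F = 4) {G : Type u} [Group G] [Finite G]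
    (hperf : commutator G = ⊤) (hG : Sub G (Matrix.SpecialLinearGroup (Fin 3) F)) {V : Subgroup G} [V.Normal]
    (hV : V ≤ Subgroup.center G) (hV2 : Nat.card V = 2)
    (e : G ⧸ V ≃* Matrix.SpecialLinearGroup (Fin 3) F ⧸ Subgroup.center (Matrix.SpecialLinearGroup (Fin 3) F)) :
    False := by
  classical
  have := Characters.Core.finite_irr (G := G)
  let _ := Fintype.ofFinite (IrrCharacter G)
  have hQ := qs_three (F := F)
  have hVp : (Nat.card V).Prime := by rw [hV2]; exact Nat.prime_two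
  have hidx : (Subgroup.center (Matrix.SpecialLinearGroup (Fin 3) F)).index = 20160 := by
    have := index_three (F := F)
    rw [hF] at this
    norm_num at this
    omega
  have hZ : Nat.card (Subgroup.center (Matrix.SpecialLinearGroup (Fin 3) F)) = 3 := by
    rw [card_center (by norm_num), hF]; norm_num
  obtain ⟨x, hx7, hx1, hxC, hx2, hxi⟩ := exists_loc hF
  -- the three groups
  obtain ⟨x₁, hL1, hx₁⟩ := Loc.lift (MonoidHom.id (Matrix.SpecialLinearGroup (Fin 3) F ⧸
    Subgroup.center (Matrix.SpecialLinearGroup (Fin 3) F))) Function.surjective_id (z := 1)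
    (Subgroup.one_mem _) (n := 1) one_ne_zero orderOf_one (by norm_num) (by
      rw [Subgroup.zpowers_one_eq_bot]
      exact (MonoidHom.ker_eq_bot_iff _).2 Function.injective_id) hx7 hx1 hxC hx2 hxi
  have hZp : (Nat.card (Subgroup.center (Matrix.SpecialLinearGroup (Fin 3) F))).Prime := by
    rw [hZ]; exact Nat.prime_three
  obtain ⟨z₃, hz₃, hz₃o, hz₃z⟩ := exists_gen hZp
  rw [hZ] at hz₃o
  obtain ⟨x₃, hL3, -⟩ := Loc.lift (QuotientGroup.mk' (Subgroup.center (Matrix.SpecialLinearGroup (Fin 3) F)))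
    (QuotientGroup.mk'_surjective _) hz₃ (n := 3) (by norm_num) hz₃o (by norm_num) (by
      rw [QuotientGroup.ker_mk']; exact hz₃z) hx7 hx1 hxC hx2 hxi
  obtain ⟨z, hzV, hzo, hzz⟩ := exists_gen hVp
  rw [hV2] at hzo
  obtain ⟨x₂, hL2, -⟩ := Loc.lift (e.toMonoidHom.comp (QuotientGroup.mk' V))
    (e.surjective.comp (QuotientGroup.mk'_surjective _)) (hV hzV) (n := 2) (by norm_num) hzo (by norm_num) (by
      rw [← hzz]
      ext g
      rw [MonoidHom.mem_ker, MonoidHom.comp_apply]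
      change e (QuotientGroup.mk' V g) = 1 ↔ _
      rw [map_eq_one_iff e e.injective]
      exact QuotientGroup.eq_one_iff g) hx7 hx1 hxC hx2 hxi
  -- the Steinberg character
  obtain ⟨St, hSt⟩ : ∃ St : IrrCharacter (Matrix.SpecialLinearGroup (Fin 3) F ⧸
      Subgroup.center (Matrix.SpecialLinearGroup (Fin 3) F)),
      charDegree (St : (Matrix.SpecialLinearGroup (Fin 3) F ⧸
        Subgroup.center (Matrix.SpecialLinearGroup (Fin 3) F)) → ℂ) = 64 := by
    have := charP_of (F := F) (p := 2) (f := 2) Nat.prime_two (by norm_num) (by rw [hF]; norm_num)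
    have hpf := Fact.mk Nat.prime_two
    obtain ⟨χ, hχ1, hχ2, hχ3⟩ := H615.SLSteinberg.exists_steinberg (F := F) (n := 3) (by norm_num) 2
    rw [SimThree.fact_three (f := 2) Nat.prime_two (by norm_num) (by rw [hF]; norm_num)] at hχ1
    obtain ⟨St, hSt⟩ := exists_infl (Subgroup.center (Matrix.SpecialLinearGroup (Fin 3) F)) χ (by
      intro z hz
      rw [mem_chKer]
      have := hχ3 z hz 1
      rwa [mul_one] at this)
    refine ⟨St, ?_⟩
    rw [← charDegree_infl, hSt]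
    have h5 := charDegree_irr χ
    rw [hχ1] at h5
    have h6 : charDegree (χ : Matrix.SpecialLinearGroup (Fin 3) F → ℂ) = (2 ^ 2) ^ 3 := by exact_mod_cast h5
    rw [h6]
    norm_num
  obtain ⟨y, hy45, hy⟩ := four_main (by rw [← Subgroup.index_eq_card]; exact hidx) hL1 hSt
  -- the faithful characters of `G`
  have hc2 : (-1 : ℂ) ^ 2 = 1 := by norm_num
  have hsum := sum_sq_Lam (hV hzV) hzo hc2
  rw [card_eq_mul e, hV2, hidx] at hsum
  obtain ⟨s, r, h1, h2, h3, h4, h5, h6⟩ := hL2.main hc2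
  obtain ⟨c', σ, E, N, hE, hN, hEN, hE2, hN3, hσ, hEs, hNs, h0, -⟩ := comb (Lam z (-1)) s r
    (fun χ => (charDegree (χ : G → ℂ) : ℤ))
    (fun χ _ => by exact_mod_cast charDegree_pos χ) h1 h2 (fun χ _ => h3 χ) h4 h5 (fun χ _ => h6 χ)
  have hdeg : ∀ χ ∈ N, 90 ≤ charDegree (χ : G → ℂ) := by
    intro χ hχ
    have h7 := h6 χ
    have h8 := hNs χ hχ
    obtain ⟨-, ψ, hψ1, -, h9⟩ := faithful_data hQ hperf hG hV hVp e hzV (c := -1) (by norm_num) (hN hχ)
    obtain ⟨D, hD, h10, -⟩ := SimThree.cod_three (p := 2) (f := 2) Nat.prime_two (by norm_num) (by rw [hF]; norm_num) hψ1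
    have h11 := h9 D hD
    rw [hV2] at h11
    have h12 : D % 7 = 3 ∨ D % 7 = 4 := by
      rw [h11] at h7
      push_cast at h7
      rcases h8 with h8 | h8 <;> rw [h8] at h7 <;> omega
    rcases h10 with ⟨h10, h13⟩ | ⟨h10, -, -⟩
    · obtain ⟨ψ', hψ'⟩ := exists_infl (Subgroup.center (Matrix.SpecialLinearGroup (Fin 3) F)) ψ h13.ge
      have h14 := hy ψ' (by rw [← charDegree_infl, hψ', ← h10]; exact h12)
      rw [← charDegree_infl, hψ', ← h10] at h14
      omega
    · exfalso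
      obtain ⟨s', hs', h14⟩ := deg_mod hL3 ψ
      rw [← h10] at h14
      push_cast at h14
      omega
  have h7 : ∑ χ ∈ N, 8100 ≤ ∑ χ ∈ Lam z (-1), charDegree (χ : G → ℂ) ^ 2 := by
    refine le_trans (sum_le_sum fun χ hχ => ?_) (sum_le_sum_of_subset hN)
    calc 8100 = 90 ^ 2 := by norm_num
      _ ≤ _ := Nat.pow_le_pow_left (hdeg χ hχ) 2
  rw [sum_const, hN3, smul_eq_mul] at h7
  omega

end Cfsg.Agent.H725.CenFour
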