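import Cfsg.Agent.H725.Deg
import Cfsg.Agent.H725.SLFacts
import Cfsg.Agent.S2299
import Cfsg.Agent.S2300

/-!
# Codegrees of `SL₂(q)`; simple groups with codegrees among them (helper725)

* `cod_two` : the codegrees of `SL₂(q)`;
* `t_cases` : `|L| = t |S|` with `t = 1` or `t = 2`.
-/

set_option autoImplicit false

namespace Cfsg.Agent.H725.SimTwo

open Cfsg Cfsg.Agent.H725.Cod Cfsg.Agent.H725.SLFacts
open Cfsg.Agent.H686.CharKit Cfsg.Agent.H677.CodPrime Cfsg.Agent.H677.CodMultiset

universe u v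

/-- the possible quotients `|L| / cod` -/
def Dok (q D : ℕ) : Prop := D = q ∨ ∃ i, (i = 1 ∨ i = 2 ∨ i = 4) ∧ (i * D = q + 1 ∨ i * D = q - 1)

theorem degrees {F : Type} [Field F] [Fintype F] (h5 : 5 ≤ Fintype.card F)
    {ψ : IrrCharacter (Matrix.SpecialLinearGroup (Fin 2) F)} (hψ : ψ ≠ one _) :
    (charDegree (ψ : Matrix.SpecialLinearGroup (Fin 2) F → ℂ) = Fintype.card F ∨ charDegree (ψ : Matrix.SpecialLinearGroup (Fin 2) F → ℂ) = Fintype.card F + 1 ∨
      charDegree (ψ : Matrix.SpecialLinearGroup (Fin 2) F → ℂ) = Fintype.card F - 1) ∨ (Odd (Fintype.card F) ∧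
      (2 * charDegree (ψ : Matrix.SpecialLinearGroup (Fin 2) F → ℂ) = Fintype.card F + 1 ∨ 2 * charDegree (ψ : Matrix.SpecialLinearGroup (Fin 2) F → ℂ) = Fintype.card F - 1)) := by
  have hne := degree_ne_one (qs_two (F := F) (by omega)).perf hψ
  have hirr := charDegree_irr ψ
  rcases Nat.even_or_odd (Fintype.card F) with he | ho
  · have h2 : ringChar F = 2 := FiniteField.even_card_iff_char_two.2 (Nat.even_iff.1 he)
    have : CharP F 2 := by rw [← h2]; infer_instance
    have h3 := (S2300.result (F := F)).1 ψ ψ.2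
    rw [← hirr] at h3
    left
    rcases h3 with h | h | h | h
    · exact absurd (by exact_mod_cast h) hne
    · right; right
      have h4 : ((charDegree (ψ : Matrix.SpecialLinearGroup (Fin 2) F → ℂ) + 1 : ℕ) : ℂ) = (Fintype.card F : ℕ) := by
        push_cast; rw [h]; ring
      have := Nat.cast_injective h4
      omega
    · left; exact_mod_cast h
    · right; left; exact_mod_cast h
  · have h3 := (S2299.result ho).1 ψ ψ.2
    rw [← hirr] at h3
    have ho' := ho
    obtain ⟨k, hk⟩ := ho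
    rcases h3 with h | h | h | h | h | h
    · exact absurd (by exact_mod_cast h) hne
    · left; left; exact_mod_cast h
    · left; right; left; exact_mod_cast h
    · left; right; right
      have h4 : ((charDegree (ψ : Matrix.SpecialLinearGroup (Fin 2) F → ℂ) + 1 : ℕ) : ℂ) = (Fintype.card F : ℕ) := by
        push_cast; rw [h]; ring
      have := Nat.cast_injective h4
      omega
    · right
      have := Nat.cast_injective h
      exact ⟨ho', Or.inl (by omega)⟩
    · right
      have := Nat.cast_injective h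
      exact ⟨ho', Or.inr (by omega)⟩

theorem cod_two {F : Type} [Field F] [Fintype F] (h5 : 5 ≤ Fintype.card F)
    {ψ : IrrCharacter (Matrix.SpecialLinearGroup (Fin 2) F)} (hψ : ψ ≠ one _) :
    ∃ D, cod ψ * D = (Subgroup.center (Matrix.SpecialLinearGroup (Fin 2) F)).index ∧ Dok (Fintype.card F) D := by
  have hQ := qs_two (F := F) (by omega)
  have h1 := cod_mul_index ψ
  have h2 := degrees h5 hψ
  have key : chKer ψ = Subgroup.center _ → ∃ D, cod ψ * D =
      (Subgroup.center (Matrix.SpecialLinearGroup (Fin 2) F)).index ∧ Dok (Fintype.card F) D := by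
    intro hk
    rw [hk] at h1
    refine ⟨_, h1, ?_⟩
    rcases h2 with (h | h | h) | ⟨-, h | h⟩
    · exact Or.inl h
    · exact Or.inr ⟨1, Or.inl rfl, Or.inl (by rw [one_mul, h])⟩
    · exact Or.inr ⟨1, Or.inl rfl, Or.inr (by rw [one_mul, h])⟩
    · exact Or.inr ⟨2, Or.inr (Or.inl rfl), Or.inl h⟩
    · exact Or.inr ⟨2, Or.inr (Or.inl rfl), Or.inr h⟩
  rcases hQ.ker hψ with hk | hk
  swap
  · exact key hk
  rcases hQ.zp with hz | hz
  · exact key (by rw [hk, (Subgroup.card_eq_one.1 hz)])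
  · -- `|Z| = 2`
    have hc := card_center (F := F) (n := 2) (by norm_num)
    have hz2 : Nat.card (Subgroup.center (Matrix.SpecialLinearGroup (Fin 2) F)) = 2 := by
      rw [hc] at hz ⊢
      exact (Nat.prime_dvd_prime_iff_eq hz Nat.prime_two).1 (Nat.gcd_dvd_left _ _)
    obtain ⟨z, hz1⟩ : ∃ z : Subgroup.center (Matrix.SpecialLinearGroup (Fin 2) F), orderOf z = 2 := by
      have := Fact.mk Nat.prime_two
      exact exists_prime_orderOf_dvd_card' 2 (by rw [hz2])
    have h3 := orderOf_dvd hQ.perf hk z.2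
    rw [Subgroup.orderOf_coe, hz1] at h3
    obtain ⟨D, hD⟩ := h3
    have h4 := hQ.card_mul
    rw [hk, Subgroup.index_bot, ← h4, hz2, hD] at h1
    refine ⟨D, by
      have : 2 * (cod ψ * D) = 2 * (Subgroup.center (Matrix.SpecialLinearGroup (Fin 2) F)).index := by
        rw [← h1]; ring
      omega, ?_⟩
    rw [hD] at h2
    have hodd : Fintype.card F % 2 = 1 := by
      rw [hc] at hz2
      have : 2 ∣ Fintype.card F - 1 := by rw [← hz2]; exact Nat.gcd_dvd_right _ _
      omega
    rcases h2 with (h | h | h) | ⟨-, h | h⟩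
    · omega
    · exact Or.inr ⟨2, Or.inr (Or.inl rfl), Or.inl h⟩
    · exact Or.inr ⟨2, Or.inr (Or.inl rfl), Or.inr h⟩
    · exact Or.inr ⟨4, Or.inr (Or.inr rfl), Or.inl (by omega)⟩
    · exact Or.inr ⟨4, Or.inr (Or.inr rfl), Or.inr (by omega)⟩

/-- The quotient of the orders is one or two. -/
theorem t_cases {S : Type u} [Group S] [Finite S] [IsSimpleGroup S] (hperf : commutator S = ⊤) {q t p f : ℕ}
    (hq5 : 5 ≤ q) (hp : p.Prime) (hqp : q = p ^ f)
    (h : ∀ χ : IrrCharacter S, χ ≠ one S → Dok q (t * charDegree (χ : S → ℂ))) : t = 1 ∨ (t = 2 ∧ Odd q) := by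
  have hne : ∀ χ : IrrCharacter S, χ ≠ one S → charDegree (χ : S → ℂ) ≠ 1 := fun χ hχ => degree_ne_one hperf hχ
  have hdvd : ∀ χ : IrrCharacter S, charDegree (χ : S → ℂ) ∣ Nat.card S := charDegree_dvd_card
  have hpos : ∀ χ : IrrCharacter S, 0 < charDegree (χ : S → ℂ) := charDegree_pos
  have hf : f ≠ 0 := by rintro rfl; rw [pow_zero] at hqp; omega
  have hpq : p ∣ q := by rw [hqp]; exact dvd_pow_self p hf
  by_cases h1 : ∃ χ : IrrCharacter S, χ ≠ one S ∧ t * charDegree (χ : S → ℂ) = q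
  · obtain ⟨χ, hχ, h2⟩ := h1
    by_cases ht : t = 1
    · exact Or.inl ht
    exfalso
    have h3 : t ∣ p ^ f := by rw [← hqp, ← h2]; exact dvd_mul_right _ _
    obtain ⟨k, -, hk⟩ := (Nat.dvd_prime_pow hp).1 h3
    have hk0 : k ≠ 0 := by rintro rfl; exact ht (by rw [hk, pow_zero])
    have hpt : p ∣ t := by rw [hk]; exact dvd_pow_self p hk0
    have hall : ∀ χ' : IrrCharacter S, χ' ≠ one S → charDegree (χ' : S → ℂ) = charDegree (χ : S → ℂ) := by
      intro χ' hχ'
      rcases h χ' hχ' with h4 | ⟨i, -, h4⟩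
      · rw [← h2] at h4
        exact Nat.eq_of_mul_eq_mul_left (by rw [hk]; exact Nat.pow_pos hp.pos) h4
      · exfalso
        have h5 : p ∣ i * (t * charDegree (χ' : S → ℂ)) := (hpt.mul_right _).mul_left _
        rcases h4 with h4 | h4
        · rw [h4] at h5
          exact hp.one_lt.ne' (Nat.dvd_one.1 ((Nat.dvd_add_right hpq).1 h5))
        · rw [h4] at h5
          have h6 := Nat.dvd_sub hpq h5
          rw [Nat.sub_sub_self (by omega)] at h6
          exact hp.one_lt.ne' (Nat.dvd_one.1 h6)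
    obtain ⟨r, hr, hrd⟩ := Nat.exists_prime_and_dvd (hne χ hχ)
    obtain ⟨χ', hχ', h5⟩ := exists_not_dvd (G := S) hr (hrd.trans (hdvd χ))
    exact h5 (by rw [hall χ' hχ']; exact hrd)
  · push Not at h1
    have h2 : ∀ χ : IrrCharacter S, χ ≠ one S → ∃ i, (i = 1 ∨ i = 2 ∨ i = 4) ∧
        (i * (t * charDegree (χ : S → ℂ)) = q + 1 ∨ i * (t * charDegree (χ : S → ℂ)) = q - 1) := by
      intro χ hχ
      exact (h χ hχ).resolve_left (h1 χ hχ)
    -- one sign only is impossible
    have key : ∀ N : ℕ, 0 < N → (∀ χ : IrrCharacter S, χ ≠ one S → ∃ i, (i = 1 ∨ i = 2 ∨ i = 4) ∧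
        i * (t * charDegree (χ : S → ℂ)) = N) → False := by
      intro N hN h3
      have h4 : ∀ χ : IrrCharacter S, χ ≠ one S → ∃ i, (i = 1 ∨ i = 2 ∨ i = 4) ∧
          i * charDegree (χ : S → ℂ) = N / t := by
        intro χ hχ
        obtain ⟨i, hi, h5⟩ := h3 χ hχ
        refine ⟨i, hi, ?_⟩
        have ht : 0 < t := by
          rcases Nat.eq_zero_or_pos t with h | h
          · rw [h] at h5; omega
          · exact h
        rw [← h5, show i * (t * charDegree (χ : S → ℂ)) = t * (i * charDegree (χ : S → ℂ)) by ring,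
          Nat.mul_div_cancel_left _ ht]
      have h5 : ∀ r : ℕ, r.Prime → r ≠ 2 → ∀ χ : IrrCharacter S, χ ≠ one S → ¬ r ∣ charDegree (χ : S → ℂ) := by
        intro r hr hr2 χ hχ hd
        obtain ⟨χ', hχ', h6⟩ := exists_not_dvd (G := S) hr (hd.trans (hdvd χ))
        obtain ⟨i, hi, h7⟩ := h4 χ hχ
        obtain ⟨j, hj, h8⟩ := h4 χ' hχ'
        have h9 : r ∣ j * charDegree (χ' : S → ℂ) := by
          rw [h8, ← h7]; exact hd.mul_left _
        rcases hr.dvd_mul.1 h9 with h10 | h10
        · have h11 : r ∣ 2 ^ 2 := by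
            rcases hj with rfl | rfl | rfl
            · exact absurd (Nat.dvd_one.1 h10) hr.one_lt.ne'
            · exact h10.trans (by norm_num)
            · exact h10
          exact hr2 ((Nat.prime_dvd_prime_iff_eq hr Nat.prime_two).1 (hr.dvd_of_dvd_pow h11))
        · exact h6 h10
      have h6 : ∀ χ : IrrCharacter S, χ ≠ one S → 2 ∣ charDegree (χ : S → ℂ) := by
        intro χ hχ
        obtain ⟨r, hr, hrd⟩ := Nat.exists_prime_and_dvd (hne χ hχ)
        by_cases hr2 : r = 2
        · rwa [hr2] at hrd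
        · exact absurd hrd (h5 r hr hr2 χ hχ)
      -- there is a nonprincipal character
      obtain ⟨r, hr, hrd⟩ := Nat.exists_prime_and_dvd (Finite.one_lt_card (α := S)).ne'
      obtain ⟨χ, hχ, -⟩ := exists_not_dvd (G := S) hr hrd
      obtain ⟨χ', hχ', h7⟩ := exists_not_dvd (G := S) Nat.prime_two ((h6 χ hχ).trans (hdvd χ))
      exact h7 (h6 χ' hχ')
    by_cases hpl : ∃ χ : IrrCharacter S, χ ≠ one S ∧ ∃ i, i * (t * charDegree (χ : S → ℂ)) = q + 1
    · by_cases hmi : ∃ χ : IrrCharacter S, χ ≠ one S ∧ ∃ i, i * (t * charDegree (χ : S → ℂ)) = q - 1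
      · obtain ⟨χ, -, i, h3⟩ := hpl
        obtain ⟨χ', -, j, h4⟩ := hmi
        have h5 : t ∣ q + 1 := ⟨i * charDegree (χ : S → ℂ), by rw [← h3]; ring⟩
        have h6 : t ∣ q - 1 := ⟨j * charDegree (χ' : S → ℂ), by rw [← h4]; ring⟩
        have h7 := Nat.dvd_sub h5 h6
        rw [show q + 1 - (q - 1) = 2 by omega] at h7
        rcases (Nat.dvd_prime Nat.prime_two).1 h7 with h8 | h8
        · exact Or.inl h8
        · refine Or.inr ⟨h8, ?_⟩
          rw [h8] at h5
          rw [Nat.odd_iff]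
          omega
      · exfalso
        push Not at hmi
        refine key (q + 1) (by omega) fun χ hχ => ?_
        obtain ⟨i, hi, h3⟩ := h2 χ hχ
        exact ⟨i, hi, h3.resolve_right (hmi χ hχ i)⟩
    · exfalso
      push Not at hpl
      refine key (q - 1) (by omega) fun χ hχ => ?_
      obtain ⟨i, hi, h3⟩ := h2 χ hχ
      exact ⟨i, hi, h3.resolve_left (hpl χ hχ i)⟩

/-- The order of a simple group with codegrees among those of `SL₂(q)`. -/
theorem order_two {F : Type} [Field F] [Fintype F] (h5 : 5 ≤ Fintype.card F) {S : Type u} [Group S] [Finite S]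
    [IsSimpleGroup S] (hS : Sub S (Matrix.SpecialLinearGroup (Fin 2) F)) :
    (Nat.card S = (Subgroup.center (Matrix.SpecialLinearGroup (Fin 2) F)).index ∨
      4 * Nat.card S = Fintype.card F * (Fintype.card F ^ 2 - 1) ∧ Odd (Fintype.card F)) ∧
    ∀ χ : IrrCharacter S, χ ≠ one S → ∃ t, Nat.card S * t =
      (Subgroup.center (Matrix.SpecialLinearGroup (Fin 2) F)).index ∧ Dok (Fintype.card F)
        (t * charDegree (χ : S → ℂ)) := by
  have hQ := qs_two (F := F) (by omega)
  obtain ⟨t, ht⟩ := hS.card_dvd hQ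
  obtain ⟨p, f, hp, hf, hF⟩ := exists_pp F
  have h1 : ∀ χ : IrrCharacter S, χ ≠ one S → Dok (Fintype.card F) (t * charDegree (χ : S → ℂ)) := by
    intro χ hχ
    obtain ⟨ψ, hψ⟩ := hS χ
    have hψ1 : ψ ≠ one _ := by
      rintro rfl
      rw [cod_one] at hψ
      exact hχ (cod_eq_one_iff.1 hψ)
    obtain ⟨D, hD, hok⟩ := cod_two h5 hψ1
    rw [← hψ, ht, ← cod_mul hχ, mul_assoc] at hD
    have h2 := Nat.eq_of_mul_eq_mul_left (cod_pos χ) hD
    rw [mul_comm t, ← h2]
    exact hok
  refine ⟨?_, fun χ hχ => ⟨t, ht.symm, h1 χ hχ⟩⟩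
  rcases t_cases (hS.perfect hQ.perf) h5 hp hF h1 with rfl | ⟨rfl, hodd⟩
  · left; rw [ht, mul_one]
  · right
    refine ⟨?_, hodd⟩
    have h2 := index_two (F := F)
    have h3 : Nat.gcd 2 (Fintype.card F - 1) = 2 := by
      apply Nat.gcd_eq_left
      obtain ⟨k, hk⟩ := hodd
      omega
    rw [h3, ht] at h2
    omega

end Cfsg.Agent.H725.SimTwo
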