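import Cfsg.Agent.H725.Deg
import Cfsg.Agent.H725.SLFacts
import Cfsg.Agent.H677.PslThree
import Cfsg.Agent.H615.SLSteinberg
import Cfsg.Agent.Blocks.ExistsModular
import Cfsg.Agent.H902.Shape

/-!
# Codegrees of `SL₃(q)`; simple groups with codegrees among them: basic facts (helper725)
-/

set_option autoImplicit false

namespace Cfsg.Agent.H725.SimThree

open Cfsg Cfsg.Agent.H725.Cod Cfsg.Agent.H725.SLFacts
open Cfsg.Agent.H686.CharKit Cfsg.Agent.H677.CodPrime Cfsg.Agent.H677.CodMultiset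

universe u v

/-- the `p`-part of `|SL₃(q)|` -/
theorem fact_three {F : Type} [Field F] [Fintype F] {p f : ℕ} (hp : p.Prime) (hf : 1 ≤ f)
    (hF : Fintype.card F = p ^ f) :
    p ^ (Nat.card (Matrix.SpecialLinearGroup (Fin 3) F)).factorization p = (p ^ f) ^ 3 := by
  have h1 : ¬ p ∣ ((p ^ f) ^ 2 - 1) * ((p ^ f) ^ 3 - 1) := by
    rw [hp.dvd_mul]
    have hpf : p ∣ p ^ f := dvd_pow_self p (by omega)
    have hpos : 0 < p ^ f := Nat.pow_pos hp.pos
    rintro (h | h)
    · have h2 : p ∣ (p ^ f) ^ 2 := dvd_pow hpf two_ne_zero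
      have h3 := Nat.dvd_sub h2 h
      rw [Nat.sub_sub_self (Nat.pow_pos hpos)] at h3
      exact hp.one_lt.ne' (Nat.dvd_one.1 h3)
    · have h2 : p ∣ (p ^ f) ^ 3 := dvd_pow hpf three_ne_zero
      have h3 := Nat.dvd_sub h2 h
      rw [Nat.sub_sub_self (Nat.pow_pos hpos)] at h3
      exact hp.one_lt.ne' (Nat.dvd_one.1 h3)
  rw [card_three, hF, mul_assoc]
  have h2 := H902.Art.P_pow_self (k := f * 3) hp h1
  rw [pow_mul] at h2
  exact h2

/-- the codegrees of `SL₃(q)` -/
theorem cod_three {F : Type} [Field F] [Fintype F] {p f : ℕ} (hp : p.Prime) (hf : 1 ≤ f)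
    (hF : Fintype.card F = p ^ f) {ψ : IrrCharacter (Matrix.SpecialLinearGroup (Fin 3) F)} (hψ : ψ ≠ one _) :
    ∃ D, cod ψ * D = (Subgroup.center (Matrix.SpecialLinearGroup (Fin 3) F)).index ∧
      (D = charDegree (ψ : Matrix.SpecialLinearGroup (Fin 3) F → ℂ) ∧ chKer ψ = Subgroup.center _ ∨
        3 * D = charDegree (ψ : Matrix.SpecialLinearGroup (Fin 3) F → ℂ) ∧ chKer ψ = ⊥ ∧
        Nat.card (Subgroup.center (Matrix.SpecialLinearGroup (Fin 3) F)) = 3) ∧
      (¬ p ∣ cod ψ → D = (p ^ f) ^ 3) := by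
  have hQ := qs_three (F := F)
  have h1 := cod_mul_index ψ
  have hcp : 0 < cod ψ := cod_pos ψ
  -- the Steinberg character
  have hst : ¬ p ∣ cod ψ → charDegree (ψ : Matrix.SpecialLinearGroup (Fin 3) F → ℂ) = (p ^ f) ^ 3 ∧
      chKer ψ = Subgroup.center _ := by
    intro hnd
    have := charP_of hp hf hF
    have hpf := Fact.mk hp
    obtain ⟨M, hM⟩ := Blocks.ExistsModular.exists_isPModular hp
    obtain ⟨χ, hχ1, hχ2, hχ3⟩ := H615.SLSteinberg.exists_steinberg (F := F) (n := 3) (by norm_num) p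
    have hpZ := H615.SLSteinberg.not_dvd_card_center (F := F) (n := 3) (by norm_num) p
    have hle : chKer ψ ≤ Subgroup.center _ := by
      rcases hQ.ker hψ with h | h
      · rw [h]; exact bot_le
      · rw [h]
    have hk : ¬ p ∣ Nat.card (Matrix.SpecialLinearGroup (Fin 3) F) /
        charDegree (ψ : Matrix.SpecialLinearGroup (Fin 3) F → ℂ) := by
      rw [← cod_mul' ψ, ← mul_assoc, Nat.mul_div_cancel _ (charDegree_pos ψ), hp.dvd_mul]
      rintro (h | h)
      · exact hnd h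
      · exact hpZ (h.trans (Subgroup.card_dvd_of_le hle))
    have he := H615.SLSteinberg.defect_zero_unique p M hM ψ χ hk hχ2
    subst he
    refine ⟨?_, ?_⟩
    · have h5 := charDegree_irr ψ
      rw [hχ1, fact_three hp hf hF] at h5
      exact_mod_cast h5
    · refine le_antisymm hle fun z hz => ?_
      rw [mem_chKer]
      have := hχ3 z hz 1
      rwa [mul_one] at this
  have hdone : chKer ψ = Subgroup.center _ → ∃ D, cod ψ * D =
      (Subgroup.center (Matrix.SpecialLinearGroup (Fin 3) F)).index ∧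
      (D = charDegree (ψ : Matrix.SpecialLinearGroup (Fin 3) F → ℂ) ∧ chKer ψ = Subgroup.center _ ∨
        3 * D = charDegree (ψ : Matrix.SpecialLinearGroup (Fin 3) F → ℂ) ∧ chKer ψ = ⊥ ∧
        Nat.card (Subgroup.center (Matrix.SpecialLinearGroup (Fin 3) F)) = 3) ∧
      (¬ p ∣ cod ψ → D = (p ^ f) ^ 3) := by
    intro hk
    refine ⟨_, ?_, Or.inl ⟨rfl, hk⟩, fun h => (hst h).1⟩
    rw [hk] at h1
    exact h1
  rcases hQ.ker hψ with hk | hk
  swap
  · exact hdone hk
  rcases hQ.zp with hz | hz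
  · exact hdone (by rw [hk, (Subgroup.card_eq_one.1 hz)])
  · have hc := card_center (F := F) (n := 3) (by norm_num)
    have hz2 : Nat.card (Subgroup.center (Matrix.SpecialLinearGroup (Fin 3) F)) = 3 := by
      rw [hc] at hz ⊢
      exact (Nat.prime_dvd_prime_iff_eq hz Nat.prime_three).1 (Nat.gcd_dvd_left _ _)
    obtain ⟨z, hz1⟩ : ∃ z : Subgroup.center (Matrix.SpecialLinearGroup (Fin 3) F), orderOf z = 3 := by
      have := Fact.mk Nat.prime_three
      exact exists_prime_orderOf_dvd_card' 3 (by rw [hz2])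
    have h3 := orderOf_dvd hQ.perf hk z.2
    rw [Subgroup.orderOf_coe, hz1] at h3
    obtain ⟨D, hD⟩ := h3
    have h4 := hQ.card_mul
    rw [hk, Subgroup.index_bot, ← h4, hz2, hD] at h1
    refine ⟨D, by
      have : 3 * (cod ψ * D) = 3 * (Subgroup.center (Matrix.SpecialLinearGroup (Fin 3) F)).index := by
        rw [← h1]; ring
      omega, Or.inr ⟨hD.symm, hk, hz2⟩, fun h => ?_⟩
    exfalso
    have h5 := (hst h).2
    rw [hk] at h5
    rw [← h5, Subgroup.card_bot] at hz2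
    omega

/-- the numerical data of a simple group with codegrees among those of `SL₃(q)` -/
theorem data_three {F : Type} [Field F] [Fintype F] {p f : ℕ} (hp : p.Prime) (hf : 1 ≤ f)
    (hF : Fintype.card F = p ^ f) {S : Type u} [Group S] [Finite S]
    [IsSimpleGroup S] (hS : Sub S (Matrix.SpecialLinearGroup (Fin 3) F)) :
    ∃ t, Nat.card S * t = (Subgroup.center (Matrix.SpecialLinearGroup (Fin 3) F)).index ∧
      p ∣ Nat.card S ∧ (∀ χ : IrrCharacter S, χ ≠ one S → t * charDegree (χ : S → ℂ) ^ 2 < Nat.card S) ∧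
      (∀ χ : IrrCharacter S, χ ≠ one S → ¬ p ∣ cod χ → t * charDegree (χ : S → ℂ) = (p ^ f) ^ 3) ∧
      (∀ χ : IrrCharacter S, χ ≠ one S → ∃ ψ : IrrCharacter (Matrix.SpecialLinearGroup (Fin 3) F), ψ ≠ one _ ∧
        (t * charDegree (χ : S → ℂ) = charDegree (ψ : Matrix.SpecialLinearGroup (Fin 3) F → ℂ) ∧
          chKer ψ = Subgroup.center _ ∨
        3 * (t * charDegree (χ : S → ℂ)) = charDegree (ψ : Matrix.SpecialLinearGroup (Fin 3) F → ℂ) ∧ chKer ψ = ⊥ ∧
        Nat.card (Subgroup.center (Matrix.SpecialLinearGroup (Fin 3) F)) = 3)) := by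
  have hQ := qs_three (F := F)
  obtain ⟨t, ht⟩ := hS.card_dvd hQ
  have ht0 : 0 < t := by
    rcases Nat.eq_zero_or_pos t with h | h
    · rw [h, mul_zero] at ht
      exact absurd ht hQ.index_pos.ne'
    · exact h
  have hkey : ∀ χ : IrrCharacter S, χ ≠ one S → ∃ ψ : IrrCharacter (Matrix.SpecialLinearGroup (Fin 3) F), ψ ≠ one _ ∧
        (t * charDegree (χ : S → ℂ) = charDegree (ψ : Matrix.SpecialLinearGroup (Fin 3) F → ℂ) ∧
          chKer ψ = Subgroup.center _ ∨
        3 * (t * charDegree (χ : S → ℂ)) = charDegree (ψ : Matrix.SpecialLinearGroup (Fin 3) F → ℂ) ∧ chKer ψ = ⊥ ∧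
        Nat.card (Subgroup.center (Matrix.SpecialLinearGroup (Fin 3) F)) = 3) ∧
        (¬ p ∣ cod χ → t * charDegree (χ : S → ℂ) = (p ^ f) ^ 3) := by
    intro χ hχ
    obtain ⟨ψ, hψ⟩ := hS χ
    have hψ1 : ψ ≠ one _ := by
      rintro rfl
      rw [cod_one] at hψ
      exact hχ (cod_eq_one_iff.1 hψ)
    obtain ⟨D, hD, h1, h2⟩ := cod_three hp hf hF hψ1
    rw [← hψ, ht, ← cod_mul hχ, mul_assoc] at hD
    have h3 := Nat.eq_of_mul_eq_mul_left (cod_pos χ) hD
    rw [mul_comm] at h3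
    rw [h3] at h1 h2
    rw [← hψ] at h2
    exact ⟨ψ, hψ1, h1, h2⟩
  refine ⟨t, ht.symm, ?_, ?_, fun χ hχ => (hkey χ hχ).elim fun ψ h => h.2.2, fun χ hχ => ?_⟩
  · by_contra hnp
    have hall : ∀ χ : IrrCharacter S, χ ≠ one S → t * charDegree (χ : S → ℂ) = (p ^ f) ^ 3 := by
      intro χ hχ
      obtain ⟨ψ, -, -, h⟩ := hkey χ hχ
      exact h fun h' => hnp (h'.trans (cod_dvd_card χ))
    obtain ⟨r, hr, hrd⟩ := Nat.exists_prime_and_dvd (Finite.one_lt_card (α := S)).ne'
    obtain ⟨χ, hχ, -⟩ := exists_not_dvd (G := S) hr hrd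
    have hne := degree_ne_one (hS.perfect hQ.perf) hχ
    obtain ⟨s, hs, hsd⟩ := Nat.exists_prime_and_dvd hne
    obtain ⟨χ', hχ', h5⟩ := exists_not_dvd (G := S) hs (hsd.trans (charDegree_dvd_card χ))
    have h6 := (hall χ hχ).trans (hall χ' hχ').symm
    exact h5 (by rw [← Nat.eq_of_mul_eq_mul_left ht0 h6]; exact hsd)
  · intro χ hχ
    have h1 := hS.index_lt hQ hχ
    rw [ht] at h1
    have h2 := cod_mul hχ
    have h3 : 0 < charDegree (χ : S → ℂ) := charDegree_pos χ
    have h4 : Nat.card S * t * charDegree (χ : S → ℂ) ^ 2 < cod χ ^ 2 * charDegree (χ : S → ℂ) ^ 2 :=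
      Nat.mul_lt_mul_of_pos_right h1 (Nat.pow_pos h3)
    have h5 : cod χ ^ 2 * charDegree (χ : S → ℂ) ^ 2 = Nat.card S * Nat.card S := by
      rw [← mul_pow, h2, pow_two]
    rw [h5, mul_assoc] at h4
    exact Nat.lt_of_mul_lt_mul_left h4
  · obtain ⟨ψ, h1, h2, -⟩ := hkey χ hχ
    exact ⟨ψ, h1, h2⟩

/-- class number bound -/
theorem t_bound {S : Type u} [Group S] [Finite S] {t m : ℕ}
    (h : ∀ χ : IrrCharacter S, χ ≠ one S → t * charDegree (χ : S → ℂ) ^ 2 ≤ m) :
    t * (Nat.card S - 1) ≤ (Nat.card (ConjClasses S) - 1) * m := by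
  classical
  have := Characters.Core.finite_irr (G := S)
  let _ := Fintype.ofFinite (IrrCharacter S)
  have h1 := sum_sq_ne (G := S)
  rw [← Characters.Core.card_irr, Nat.card_eq_fintype_card (α := IrrCharacter S), ← h1, Nat.add_sub_cancel,
    Finset.mul_sum]
  refine (Finset.sum_le_card_nsmul _ _ m fun χ hχ => h χ (Finset.ne_of_mem_erase hχ)).trans ?_
  rw [Finset.card_erase_of_mem (Finset.mem_univ _), Finset.card_univ, smul_eq_mul]

theorem t_lt {S : Type u} [Group S] [Finite S] [Nontrivial S] {t : ℕ}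
    (h : ∀ χ : IrrCharacter S, χ ≠ one S → t * charDegree (χ : S → ℂ) ^ 2 < Nat.card S) :
    t < Nat.card (ConjClasses S) := by
  have h1 := t_bound (t := t) (m := Nat.card S - 1) fun χ hχ => by have := h χ hχ; omega
  have h2 : 1 < Nat.card S := Finite.one_lt_card
  have h3 := Nat.le_of_mul_le_mul_right h1 (by omega)
  have h4 : 0 < Nat.card (ConjClasses S) := Nat.card_pos
  omega

end Cfsg.Agent.H725.SimThree
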