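import Cfsg.Agent.H725.CenGen
import Cfsg.Agent.H725.SimTwo
import Cfsg.Agent.H725.ThreeBasic

/-!
# The central case for `SL₂(9)` and `SL₃(2)` (helper725)
-/

set_option autoImplicit false

namespace Cfsg.Agent.H725.CenGen

open Cfsg Cfsg.Agent.H725.Cod Cfsg.Agent.H725.Lam Cfsg.Agent.H725.SLFacts
open Cfsg.Agent.H686.CharKit Cfsg.Agent.H677.CodPrime Cfsg.Agent.H677.CodMultiset
open Finset ComplexConjugate

universe u v

/-- the faithful characters -/
theorem faithful_data {H : Type v} [Group H] [Finite H] (hH : QS H) {G : Type u} [Group G] [Finite G]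
    (hperf : commutator G = ⊤) (hG : Sub G H) {V : Subgroup G} [V.Normal]
    (hV : V ≤ Subgroup.center G) (hVp : (Nat.card V).Prime) (e : G ⧸ V ≃* H ⧸ Subgroup.center H) {z : G}
    (hz : z ∈ V) {c : ℂ} (hc1 : c ≠ 1) [Fintype (IrrCharacter G)] {χ : IrrCharacter G} (hχ : χ ∈ Lam z c) :
    chKer χ = ⊥ ∧ ∃ ψ : IrrCharacter H, ψ ≠ one H ∧ cod χ = cod ψ ∧ ∀ D, cod ψ * D = (Subgroup.center H).index →
      charDegree (χ : G → ℂ) = Nat.card V * D := by
  have hs : IsSimpleGroup (H ⧸ Subgroup.center H) := hH.simple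
  have hs' : IsSimpleGroup (G ⧸ V) := by
    have : Nontrivial (G ⧸ V) := e.toEquiv.nontrivial
    exact IsSimpleGroup.isSimpleGroup_of_surjective e.symm.toMonoidHom e.symm.surjective
  have h1 : (χ : G → ℂ) z ≠ (χ : G → ℂ) 1 := by
    rw [mem_Lam.1 hχ]
    intro h
    exact hc1 (mul_right_cancel₀ (deg_ne χ) (by rw [one_mul]; exact h))
  have hk := chKer_bot hperf hV hVp hz h1
  refine ⟨hk, ?_⟩
  obtain ⟨ψ, hψ⟩ := hG χ
  have hne : ψ ≠ one H := by
    rintro rfl
    rw [cod_one] at hψ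
    have := cod_eq_one_iff.1 hψ
    subst this
    exact h1 rfl
  refine ⟨ψ, hne, hψ, fun D hD => ?_⟩
  have h2 := cod_mul_index χ
  rw [hk, Subgroup.index_bot] at h2
  have h3 : Nat.card G = Nat.card V * (Subgroup.center H).index := by
    rw [← Subgroup.card_mul_index V, Subgroup.index_eq_card, Nat.card_congr e.toEquiv, ← Subgroup.index_eq_card]
  rw [h3, ← hD, hψ] at h2
  have h4 : cod ψ * charDegree (χ : G → ℂ) = cod ψ * (Nat.card V * D) := by rw [h2]; ring
  exact Nat.eq_of_mul_eq_mul_left (cod_pos ψ) h4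

theorem card_eq_mul {H : Type v} [Group H] [Finite H] {G : Type u} [Group G] [Finite G]
    {V : Subgroup G} [V.Normal] (e : G ⧸ V ≃* H ⧸ Subgroup.center H) :
    Nat.card G = Nat.card V * (Subgroup.center H).index := by
  rw [← Subgroup.card_mul_index V, Subgroup.index_eq_card, Nat.card_congr e.toEquiv, ← Subgroup.index_eq_card]

/-- `SL₃(2)` -/
theorem three_two {F : Type} [Field F] [Fintype F] (hF : Fintype.card F = 2) {G : Type u} [Group G] [Finite G]
    (hperf : commutator G = ⊤) (hG : Sub G (Matrix.SpecialLinearGroup (Fin 3) F)) {V : Subgroup G} [V.Normal]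
    (hV : V ≤ Subgroup.center G) (hV2 : Nat.card V = 2)
    (e : G ⧸ V ≃* Matrix.SpecialLinearGroup (Fin 3) F ⧸ Subgroup.center (Matrix.SpecialLinearGroup (Fin 3) F)) :
    False := by
  classical
  have := Characters.Core.finite_irr (G := G)
  let _ := Fintype.ofFinite (IrrCharacter G)
  have hQ := qs_three (F := F)
  have hVp : (Nat.card V).Prime := by rw [hV2]; exact Nat.prime_two
  have hidx : (Subgroup.center (Matrix.SpecialLinearGroup (Fin 3) F)).index = 168 := by
    have := index_three (F := F)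
    rw [hF] at this
    norm_num at this
    exact this
  have hZ : Nat.card (Subgroup.center (Matrix.SpecialLinearGroup (Fin 3) F)) = 1 := by
    rw [card_center (by norm_num), hF]; norm_num
  obtain ⟨z, hzV, hzo, -⟩ := exists_gen hVp
  rw [hV2] at hzo
  have hsum := sum_sq_Lam (hV hzV) hzo (c := -1) (by norm_num)
  rw [card_eq_mul e, hV2, hidx] at hsum
  have hsimp : IsSimpleGroup (Matrix.SpecialLinearGroup (Fin 3) F ⧸
    Subgroup.center (Matrix.SpecialLinearGroup (Fin 3) F)) := hQ.simple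
  have hdeg : ∀ χ ∈ Lam z (-1), charDegree (χ : G → ℂ) = 6 ∨ charDegree (χ : G → ℂ) = 8 ∨
      charDegree (χ : G → ℂ) = 12 := by
    intro χ hχ
    obtain ⟨hk, ψ, hψ1, hcod, h1⟩ := faithful_data hQ hperf hG hV hVp e hzV (c := -1) (by norm_num) hχ
    obtain ⟨D, hD, h2, -⟩ := SimThree.cod_three (p := 2) (f := 1) Nat.prime_two le_rfl (by rw [hF]; norm_num) hψ1
    have h3 := h1 D hD
    rw [hV2] at h3
    have h4 : charDegree (χ : G → ℂ) ^ 2 ≤ 168 := by
      have h5 : charDegree (χ : G → ℂ) ^ 2 ≤ ∑ χ ∈ Lam z (-1), charDegree (χ : G → ℂ) ^ 2 :=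
        single_le_sum (f := fun χ : IrrCharacter G => charDegree (χ : G → ℂ) ^ 2) (fun _ _ => Nat.zero_le _) hχ
      omega
    have h5 : 3 ≤ D := by
      rcases h2 with ⟨h2, h6⟩ | ⟨-, -, h6⟩
      · obtain ⟨ψ', hψ'⟩ := exists_infl (Subgroup.center (Matrix.SpecialLinearGroup (Fin 3) F)) ψ h6.ge
        have h7 : ψ' ≠ one _ := by
          rintro rfl
          apply hψ1
          rw [← hψ']
          apply Subtype.ext
          funext g
          rfl
        have h8 := H677.PslThree.charDegree_ge (F := F) (MulEquiv.refl _) ψ' h7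
        rw [← charDegree_infl, hψ', ← h2, Nat.card_eq_fintype_card, hF] at h8
        exact h8
      · omega
    have h6 : D ∣ 168 := ⟨cod ψ, by rw [← hidx, ← hD]; ring⟩
    have h7 : D ≤ 6 := by
      rw [h3] at h4
      nlinarith
    interval_cases D
    · left; omega
    · right; left; omega
    · norm_num at h6
    · right; right; omega
  have h9 : ∀ χ ∈ Lam z (-1), charDegree (χ : G → ℂ) ^ 2 =
      36 * (if charDegree (χ : G → ℂ) = 6 then 1 else 0) + 64 * (if charDegree (χ : G → ℂ) = 8 then 1 else 0) +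
      144 * (if charDegree (χ : G → ℂ) = 12 then 1 else 0) := by
    intro χ hχ
    rcases hdeg χ hχ with h | h | h <;> rw [h] <;> norm_num
  rw [sum_congr rfl h9, sum_add_distrib, sum_add_distrib, ← mul_sum, ← mul_sum, ← mul_sum] at hsum
  generalize (∑ χ ∈ Lam z (-1), if charDegree (χ : G → ℂ) = 6 then 1 else 0) = a at hsum
  generalize (∑ χ ∈ Lam z (-1), if charDegree (χ : G → ℂ) = 8 then 1 else 0) = b at hsum
  generalize (∑ χ ∈ Lam z (-1), if charDegree (χ : G → ℂ) = 12 then 1 else 0) = c at hsum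
  omega

/-- `SL₂(9)` -/
theorem two_nine {F : Type} [Field F] [Fintype F] (hF : Fintype.card F = 9) {G : Type u} [Group G] [Finite G]
    (hperf : commutator G = ⊤) (hG : Sub G (Matrix.SpecialLinearGroup (Fin 2) F)) {V : Subgroup G} [V.Normal]
    (hV : V ≤ Subgroup.center G) (hV3 : Nat.card V = 3)
    (e : G ⧸ V ≃* Matrix.SpecialLinearGroup (Fin 2) F ⧸ Subgroup.center (Matrix.SpecialLinearGroup (Fin 2) F)) :
    False := by
  classical
  have := Characters.Core.finite_irr (G := G)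
  let _ := Fintype.ofFinite (IrrCharacter G)
  have hQ := qs_two (F := F) (by omega)
  have hVp : (Nat.card V).Prime := by rw [hV3]; exact Nat.prime_three
  have hidx : (Subgroup.center (Matrix.SpecialLinearGroup (Fin 2) F)).index = 360 := by
    have := index_two (F := F)
    rw [hF] at this
    norm_num at this
    omega
  obtain ⟨z, hzV, hzo, -⟩ := exists_gen hVp
  rw [hV3] at hzo
  obtain ⟨c, hc3, hc1⟩ : ∃ c : ℂ, c ^ 3 = 1 ∧ c ≠ 1 := by
    have h := Complex.isPrimitiveRoot_exp 3 (by norm_num)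
    exact ⟨_, h.pow_eq_one, h.ne_one (by norm_num)⟩
  have hGc := card_eq_mul e
  rw [hV3, hidx] at hGc
  have hsum := sum_sq_Lam (hV hzV) hzo hc3
  rw [hGc] at hsum
  have hdeg : ∀ χ ∈ Lam z c, charDegree (χ : G → ℂ) = 6 ∨ charDegree (χ : G → ℂ) = 12 ∨
      charDegree (χ : G → ℂ) = 15 := by
    intro χ hχ
    obtain ⟨hk, ψ, hψ1, hcod, h1⟩ := faithful_data hQ hperf hG hV hVp e hzV hc1 hχ
    obtain ⟨D, hD, h2⟩ := SimTwo.cod_two (by omega) hψ1
    have h3 := h1 D hD
    rw [hV3] at h3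
    have h4 : charDegree (χ : G → ℂ) ^ 2 ≤ 360 := by
      have h5 : charDegree (χ : G → ℂ) ^ 2 ≤ ∑ χ ∈ Lam z c, charDegree (χ : G → ℂ) ^ 2 :=
        single_le_sum (f := fun χ : IrrCharacter G => charDegree (χ : G → ℂ) ^ 2) (fun _ _ => Nat.zero_le _) hχ
      omega
    have h7 : D ≤ 6 := by
      rw [h3] at h4
      nlinarith
    rw [hF] at h2
    rcases h2 with h2 | ⟨i, h6 | h6 | h6, h8⟩
    · omega
    all_goals subst h6; omega
  have h9 : ∀ χ ∈ Lam z c, charDegree (χ : G → ℂ) ^ 2 =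
      36 * (if charDegree (χ : G → ℂ) = 6 then 1 else 0) + 144 * (if charDegree (χ : G → ℂ) = 12 then 1 else 0) +
      225 * (if charDegree (χ : G → ℂ) = 15 then 1 else 0) := by
    intro χ hχ
    rcases hdeg χ hχ with h | h | h <;> rw [h] <;> norm_num
  rw [sum_congr rfl h9, sum_add_distrib, sum_add_distrib, ← mul_sum, ← mul_sum, ← mul_sum] at hsum
  have h15 : (∑ χ ∈ Lam z c, if charDegree (χ : G → ℂ) = 15 then 1 else 0) = 0 := by
    generalize (∑ χ ∈ Lam z c, if charDegree (χ : G → ℂ) = 6 then 1 else 0) = a at hsum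
    generalize (∑ χ ∈ Lam z c, if charDegree (χ : G → ℂ) = 12 then 1 else 0) = b at hsum
    omega
  have heven : ∀ χ ∈ Lam z c, 2 ∣ charDegree (χ : G → ℂ) := by
    intro χ hχ
    rcases hdeg χ hχ with h | h | h
    · rw [h]; norm_num
    · rw [h]; norm_num
    · exfalso
      have h10 := (Finset.sum_eq_zero_iff.1 h15) χ hχ
      rw [if_pos h] at h10
      omega
  -- restriction to a Sylow 2-subgroup
  have := Fact.mk Nat.prime_two
  obtain ⟨P⟩ : Nonempty (Sylow 2 G) := inferInstance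
  have hP : Nat.card P = 8 := by
    rw [P.card_eq_multiplicity, hGc]
    have h1 : (3 * 360 : ℕ) = 2 ^ 3 * 135 := by norm_num
    have h2 := Cfsg.Agent.H902.Art.P_pow_self (r := 2) (k := 3) (a := 135) (by norm_num) (by norm_num)
    rw [← h1] at h2
    exact h2
  let _ := Fintype.ofFinite ↥(P : Subgroup G)
  have hm : ∀ χ : IrrCharacter G, ∃ m : ℕ, ∑ g : ↥(P : Subgroup G), (χ : G → ℂ) g = (Nat.card P : ℂ) * m :=
    fun χ => exists_mult χ _
  choose m hm using hm
  have h10 := sum_mult (hV hzV) hzo hc3 (P : Subgroup G) (by rw [hP]; norm_num) m hm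
  rw [hGc, hP] at h10
  have h11 : 2 ∣ ∑ χ ∈ Lam z c, charDegree (χ : G → ℂ) * m χ :=
    Finset.dvd_sum fun χ hχ => (heven χ hχ).mul_right _
  omega

end Cfsg.Agent.H725.CenGen
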