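import Cfsg.Agent.H677.CodMain

/-!
# Codegrees: general facts (helper725)

* `cod_mul'` : `cod χ * (|ker χ| * χ(1)) = |G|`;
* `index_lt_cod_sq` : `|G : ker χ| < cod χ ^ 2` for `χ` not principal;
* `orderOf_dvd` : in a perfect group the order of a central element divides the degree of a faithful
  irreducible character;
* `Sub G H` : every codegree of `G` is a codegree of `H`.
-/

set_option autoImplicit false

namespace Cfsg.Agent.H725.Cod

open Cfsg Cfsg.Agent.H686.CharKit Cfsg.Agent.H677.CodPrime Cfsg.Agent.H677.CodMultiset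

universe u v w

variable {G : Type u} [Group G] [Finite G]

/-- the degree divides the index of the kernel -/
theorem charDegree_dvd_index (χ : IrrCharacter G) : charDegree (χ : G → ℂ) ∣ (chKer χ).index := by
  obtain ⟨ψ, hψ⟩ := exists_infl (chKer χ) χ le_rfl
  have h1 := charDegree_dvd_card ψ
  rw [← charDegree_infl, hψ] at h1
  exact h1

theorem cod_mul_index (χ : IrrCharacter G) : cod χ * charDegree (χ : G → ℂ) = (chKer χ).index := by
  have h1 := charDegree_dvd_index χ
  rw [cod_eq, ← Subgroup.card_mul_index (chKer χ), Nat.mul_div_mul_left _ _ Nat.card_pos]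
  exact Nat.div_mul_cancel h1

theorem cod_mul' (χ : IrrCharacter G) :
    cod χ * (Nat.card (chKer χ) * charDegree (χ : G → ℂ)) = Nat.card G := by
  rw [← Subgroup.card_mul_index (chKer χ), ← cod_mul_index χ]
  ring

theorem cod_pos (χ : IrrCharacter G) : 0 < cod χ := by
  have h1 := cod_mul_index χ
  have h2 : (chKer χ).index ≠ 0 := Subgroup.index_ne_zero_of_finite
  exact Nat.pos_of_ne_zero fun h => h2 (by rw [← h1, h, zero_mul])

theorem cod_dvd_card (χ : IrrCharacter G) : cod χ ∣ Nat.card G := ⟨_, (cod_mul' χ).symm⟩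

/-- the codegree is larger than the degree, in the strong form `|G : ker χ| < cod χ ^ 2` -/
theorem index_lt_cod_sq {χ : IrrCharacter G} (h : χ ≠ one G) : (chKer χ).index < cod χ ^ 2 := by
  obtain ⟨ψ, hψ⟩ := exists_infl (chKer χ) χ le_rfl
  have hne : chKer χ ≠ ⊤ := fun h' => h (eq_one_of_chKer h')
  have : Nontrivial (G ⧸ chKer χ) := QuotientGroup.nontrivial_iff.2 hne
  have h1 := charDegree_sq_lt ψ
  rw [← charDegree_infl, hψ] at h1
  have h2 : Nat.card (G ⧸ chKer χ) = (chKer χ).index := rfl
  rw [h2] at h1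
  have h3 := cod_mul_index χ
  have h4 : 0 < cod χ := cod_pos χ
  by_contra h5
  push Not at h5
  have h6 : cod χ ^ 2 * charDegree (χ : G → ℂ) ^ 2 = (chKer χ).index ^ 2 := by rw [← h3]; ring
  have h7 : cod χ ^ 2 * charDegree (χ : G → ℂ) ^ 2 < (chKer χ).index * (chKer χ).index :=
    Nat.mul_lt_mul_of_le_of_lt h5 h1 (by omega)
  rw [h6, pow_two] at h7
  omega

theorem cod_one_lt {χ : IrrCharacter G} (h : χ ≠ one G) : 1 < cod χ := by
  have h1 := index_lt_cod_sq h
  have h2 : (chKer χ).index ≠ 0 := Subgroup.index_ne_zero_of_finite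
  by_contra h3
  have h4 : cod χ ^ 2 ≤ 1 ^ 2 := Nat.pow_le_pow_left (by omega) 2
  omega

theorem cod_eq_one_iff {χ : IrrCharacter G} : cod χ = 1 ↔ χ = one G := by
  constructor
  · intro h
    by_contra h1
    have := cod_one_lt h1
    omega
  · rintro rfl
    exact cod_one

/-- a central element acts as a scalar, whose power by the degree is one in a perfect group -/
theorem exists_scalar (hperf : commutator G = ⊤) (χ : IrrCharacter G) (z : G) (hz : z ∈ Subgroup.center G) :
    ∃ c : ℂ, (∀ k : ℕ, (χ : G → ℂ) (z ^ k) = c ^ k * (χ : G → ℂ) 1) ∧ c ^ charDegree (χ : G → ℂ) = 1 := by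
  obtain ⟨χ, n, ρ, hρ, rfl⟩ := χ
  have h1 : ρ.character 1 = (Module.finrank ℂ (Fin n → ℂ) : ℂ) := Representation.char_one ρ
  have h2 : charDegree ρ.character = Module.finrank ℂ (Fin n → ℂ) := by
    unfold charDegree
    rw [h1]
    simp
  obtain ⟨c, hc⟩ := Cfsg.Agent.Characters.Central.exists_smul_of_comm ρ hρ (ρ z) (fun g => by
    rw [← map_mul, ← map_mul, (Subgroup.mem_center_iff.1 hz g)])
  refine ⟨c, fun k => ?_, ?_⟩
  · change ρ.character (z ^ k) = c ^ k * ρ.character 1
    rw [h1]
    unfold Representation.character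
    rw [map_pow, hc, smul_pow, one_pow, map_smul, smul_eq_mul, LinearMap.trace_one]
  · change c ^ charDegree ρ.character = 1
    rw [h2]
    have h3 : (LinearMap.det.comp ρ).toHomUnits z = 1 := by
      have h4 : z ∈ commutator G := by rw [hperf]; trivial
      exact Abelianization.commutator_subset_ker _ h4
    have h5 : LinearMap.det (ρ z) = 1 := congrArg Units.val h3
    rw [hc, LinearMap.det_smul, map_one, mul_one] at h5
    exact h5

/-- In a perfect group the order of a central element divides the degree of a faithful irreducible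
character. -/
theorem orderOf_dvd (hperf : commutator G = ⊤) {χ : IrrCharacter G} (hk : chKer χ = ⊥) {z : G}
    (hz : z ∈ Subgroup.center G) : orderOf z ∣ charDegree (χ : G → ℂ) := by
  obtain ⟨c, h1, h2⟩ := exists_scalar hperf χ z hz
  rw [orderOf_dvd_iff_pow_eq_one]
  have h3 : z ^ charDegree (χ : G → ℂ) ∈ chKer χ := by
    rw [mem_chKer, h1, h2, one_mul]
  rw [hk] at h3
  exact h3

/-- every codegree of `G` is a codegree of `H` -/
def Sub (G : Type u) [Group G] [Finite G] (H : Type v) [Group H] [Finite H] : Prop :=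
  ∀ χ : IrrCharacter G, ∃ ψ : IrrCharacter H, cod χ = cod ψ

theorem Sub.quotient {H : Type v} [Group H] [Finite H] (h : Sub G H) (N : Subgroup G) [N.Normal] :
    Sub (G ⧸ N) H := fun ψ => by
  obtain ⟨φ, hφ⟩ := h (infl N ψ)
  exact ⟨φ, by rw [← hφ, cod_infl]⟩

/-- transport along an isomorphism -/
def pull {K : Type v} [Group K] (e : G ≃* K) (χ : IrrCharacter K) : IrrCharacter G :=
  ⟨_, Characters.Core.isIrr_comp e.toMonoidHom e.surjective χ.2⟩

omit [Finite G] in
theorem pull_apply {K : Type v} [Group K] (e : G ≃* K) (χ : IrrCharacter K) (g : G) :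
    (pull e χ : G → ℂ) g = (χ : K → ℂ) (e g) := rfl

theorem cod_pull {K : Type v} [Group K] [Finite K] (e : G ≃* K) (χ : IrrCharacter K) :
    cod (pull e χ) = cod χ := by
  have h1 : Nat.card {g : G // (pull e χ : G → ℂ) g = (pull e χ : G → ℂ) 1} =
      Nat.card {g : K // (χ : K → ℂ) g = (χ : K → ℂ) 1} := by
    refine Nat.card_congr (Equiv.subtypeEquiv e.toEquiv fun g => ?_)
    rw [pull_apply, pull_apply, map_one]
    rfl
  have h2 : charDegree (pull e χ : G → ℂ) = charDegree (χ : K → ℂ) := by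
    unfold charDegree
    rw [pull_apply, map_one]
  rw [cod_def, cod_def, h1, h2, Nat.card_congr e.toEquiv]

theorem Sub.congr_left {H : Type v} [Group H] [Finite H] {K : Type w} [Group K] [Finite K] (h : Sub G H)
    (e : K ≃* G) : Sub K H := fun χ => by
  obtain ⟨ψ, hψ⟩ := h (pull e.symm χ)
  exact ⟨ψ, by rw [← hψ, cod_pull]⟩

theorem Sub.congr_right {H : Type v} [Group H] [Finite H] {K : Type w} [Group K] [Finite K] (h : Sub G H)
    (e : H ≃* K) : Sub G K := fun χ => by
  obtain ⟨ψ, hψ⟩ := h χ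
  exact ⟨pull e.symm ψ, by rw [hψ, cod_pull]⟩

/-- perfectness passes down -/
theorem Sub.perfect {H : Type v} [Group H] [Finite H] [Nontrivial G] (h : Sub G H) (hH : commutator H = ⊤) :
    commutator G = ⊤ := by
  by_cases hH1 : Nontrivial H
  · rw [S4797.result]
    intro χ
    obtain ⟨ψ, hψ⟩ := h χ
    have h1 := S4797.result.1 hH ψ
    rw [← cod_def] at h1 ⊢
    rw [hψ]
    exact h1
  · exfalso
    rw [not_nontrivial_iff_subsingleton] at hH1
    obtain ⟨p, hp, hpS⟩ := Nat.exists_prime_and_dvd (show Nat.card G ≠ 1 from Finite.one_lt_card.ne')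
    obtain ⟨χ, hχ, _⟩ := exists_not_dvd (G := G) hp hpS
    obtain ⟨ψ, hψ⟩ := h χ
    have h1 := cod_dvd_card ψ
    rw [Nat.card_unique, Nat.dvd_one] at h1
    exact hχ (cod_eq_one_iff.1 (hψ.trans h1))

end Cfsg.Agent.H725.Cod
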