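import Cfsg.Agent.H725.CodNonab

/-!
# Codegrees inside those of a quasisimple group: abelian minimal normal subgroups (helper725)

For a noncentral abelian minimal normal subgroup `V`:
* `ker_eq_bot` : the characters nontrivial on `V` are faithful;
* `sq_dvd` : `|V| ^ 2` divides `|H : Z(H)|`;
* `exists_hom` : `H` acts on `V` with central kernel.
-/

set_option autoImplicit false

namespace Cfsg.Agent.H725.Cod

open Cfsg Cfsg.Agent.H686.CharKit Cfsg.Agent.H677.CodPrime Cfsg.Agent.H677.CodMultiset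
open scoped commutatorElement

universe u v w

section
variable {G : Type u} [Group G] [Finite G] {H : Type v} [Group H] [Finite H]

/-- a minimal normal abelian subgroup is elementary abelian -/
theorem MinNorm.exists_prime {V : Subgroup G} (hV : MinNorm V) (hc : ∀ a ∈ V, ∀ b ∈ V, a * b = b * a) :
    ∃ r : ℕ, r.Prime ∧ ∀ v ∈ V, v ^ r = 1 := by
  have hVn := hV.nor
  obtain ⟨r, hr, hrV⟩ := Nat.exists_prime_and_dvd (fun h => hV.ne (Subgroup.card_eq_one.1 h))
  refine ⟨r, hr, ?_⟩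
  have := Fact.mk hr
  let M : Subgroup G :=
    { carrier := {v | v ∈ V ∧ v ^ r = 1}
      one_mem' := ⟨V.one_mem, one_pow r⟩
      mul_mem' := fun {a b} ha hb => ⟨V.mul_mem ha.1 hb.1, by
        rw [(show Commute a b from hc a ha.1 b hb.1).mul_pow, ha.2, hb.2, mul_one]⟩
      inv_mem' := fun {a} ha => ⟨V.inv_mem ha.1, by rw [inv_pow, ha.2, inv_one]⟩ }
  have hM : M.Normal := ⟨fun n hn g => ⟨hVn.conj_mem n hn.1 g, by rw [conj_pow, hn.2]; group⟩⟩
  rcases hV.min M hM (fun x hx => hx.1) with h1 | h1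
  · exfalso
    obtain ⟨x, hx⟩ := exists_prime_orderOf_dvd_card' r hrV
    have h2 : (x : G) ∈ M := ⟨x.2, by
      rw [← hx, ← Subgroup.orderOf_coe, pow_orderOf_eq_one]⟩
    rw [h1, Subgroup.mem_bot] at h2
    have h3 : x = 1 := Subtype.ext h2
    rw [h3, orderOf_one] at hx
    exact hr.one_lt.ne hx
  · intro v hv
    rw [← h1] at hv
    exact hv.2

theorem ker_eq_bot (hH : QS H) (hG : Sub G H)
    (ih : ∀ (M : Subgroup G) [M.Normal], M ≠ ⊥ → M ≠ ⊤ → Good (G ⧸ M) H)
    {V : Subgroup G} (hV : MinNorm V) (hc : ∀ a ∈ V, ∀ b ∈ V, a * b = b * a)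
    (hnc : ¬ V ≤ Subgroup.center G) {χ : IrrCharacter G} (hχ : ¬ V ≤ chKer χ) : chKer χ = ⊥ := by
  by_contra hK
  have hVn := hV.nor
  have hKn := chKer_normal χ
  have hKt : chKer χ ≠ ⊤ := fun h => hχ (by rw [h]; exact le_top)
  have hg := ih (chKer χ) hK hKt
  have hinf := hV.inf_eq_bot hKn hχ
  have hnt : Nontrivial G := by
    by_contra hcon
    rw [not_nontrivial_iff_subsingleton] at hcon
    exact hK (Subsingleton.elim _ _)
  have hperf := hG.perfect hH.perf
  have h2 : (V.map (QuotientGroup.mk' (chKer χ))) ≠ ⊤ := by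
    intro h3
    have hq : commutator (G ⧸ chKer χ) = ⊤ := by
      rw [commutator_def, ← Subgroup.map_top_of_surjective (QuotientGroup.mk' (chKer χ))
        (QuotientGroup.mk'_surjective _), ← Subgroup.map_commutator, ← commutator_def, hperf]
    have hb : commutator (G ⧸ chKer χ) = ⊥ := by
      rw [commutator_eq_closure, Subgroup.closure_eq_bot_iff]
      rintro _ ⟨a, b, rfl⟩
      rw [Set.mem_singleton_iff, commutatorElement_eq_one_iff_mul_comm]
      have ha : a ∈ V.map (QuotientGroup.mk' (chKer χ)) := by rw [h3]; trivial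
      have hb : b ∈ V.map (QuotientGroup.mk' (chKer χ)) := by rw [h3]; trivial
      obtain ⟨x, hx, rfl⟩ := ha
      obtain ⟨y, hy, rfl⟩ := hb
      rw [← map_mul, ← map_mul, hc x hx y hy]
    have : Nontrivial (G ⧸ chKer χ) := QuotientGroup.nontrivial_iff.2 hKt
    rw [hq] at hb
    exact top_ne_bot hb
  have h3 := hg.proper hH (hVn.map _ (QuotientGroup.mk'_surjective (chKer χ))) h2
  apply hnc
  intro v hv
  rw [Subgroup.mem_center_iff]
  intro g
  have h4 : (QuotientGroup.mk' (chKer χ)) v ∈ Subgroup.center (G ⧸ chKer χ) := h3 ⟨v, hv, rfl⟩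
  have h5 := Subgroup.mem_center_iff.1 h4 ((QuotientGroup.mk' (chKer χ)) g)
  rw [← map_mul, ← map_mul] at h5
  have h6 : (g * v)⁻¹ * (v * g) ∈ chKer χ := QuotientGroup.eq.1 h5
  have h7 : (g * v)⁻¹ * (v * g) ∈ V := by
    have : (g * v)⁻¹ * (v * g) = v⁻¹ * (g⁻¹ * v * g⁻¹⁻¹) := by group
    rw [this]
    exact V.mul_mem (V.inv_mem hv) (hVn.conj_mem v hv g⁻¹)
  have h8 : (g * v)⁻¹ * (v * g) ∈ V ⊓ chKer χ := ⟨h7, h6⟩
  rw [hinf, Subgroup.mem_bot, inv_mul_eq_one] at h8
  exact h8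

/-- `|V| ^ 2` divides `|H : Z(H)|`. -/
theorem sq_dvd (hH : QS H) (hG : Sub G H)
    (ih : ∀ (M : Subgroup G) [M.Normal], M ≠ ⊥ → M ≠ ⊤ → Good (G ⧸ M) H)
    {V : Subgroup G} (hV : MinNorm V) (hVt : V ≠ ⊤) (hc : ∀ a ∈ V, ∀ b ∈ V, a * b = b * a)
    (hnc : ¬ V ≤ Subgroup.center G) : Nat.card V ^ 2 ∣ (Subgroup.center H).index := by
  classical
  have := Characters.Core.finite_irr (G := G)
  let _ := Fintype.ofFinite (IrrCharacter G)
  have hVn := hV.nor
  have h1 := sum_sq_not_le V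
  obtain ⟨z, hz⟩ := (ih V hV.ne hVt).index_dvd
  rw [← Subgroup.index_eq_card] at hz
  have hcard := Subgroup.card_mul_index V
  have hV1 : 1 < Nat.card V := by
    have h2 : Nat.card V ≠ 1 := fun h => hV.ne (Subgroup.card_eq_one.1 h)
    have h3 : 0 < Nat.card V := Nat.card_pos
    omega
  set L := (Subgroup.center H).index with hL
  have hL0 : 0 < L := hH.index_pos
  -- every such degree is `|V| z D`
  have h2 : ∀ χ : IrrCharacter G, ¬ V ≤ chKer χ → ∃ D : ℕ, charDegree (χ : G → ℂ) = Nat.card V * z * D := by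
    intro χ hχ
    have h3 := ker_eq_bot hH hG ih hV hc hnc hχ
    have h4 := cod_mul_index χ
    rw [h3, Subgroup.index_bot, ← hcard, hz] at h4
    obtain ⟨D, hD⟩ := hG.cod_dvd hH χ
    refine ⟨D, ?_⟩
    rw [← hL] at hD
    rw [hD] at h4
    have h5 : cod χ * charDegree (χ : G → ℂ) = cod χ * (Nat.card V * z * D) := by rw [h4]; ring
    exact Nat.eq_of_mul_eq_mul_left (cod_pos χ) h5
  choose! D hD using h2
  have h3 : ∑ χ ∈ Finset.univ.filter (fun χ : IrrCharacter G => ¬ V ≤ chKer χ), charDegree (χ : G → ℂ) ^ 2 =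
      (Nat.card V * z) ^ 2 * ∑ χ ∈ Finset.univ.filter (fun χ : IrrCharacter G => ¬ V ≤ chKer χ), D χ ^ 2 := by
    rw [Finset.mul_sum]
    refine Finset.sum_congr rfl fun χ hχ => ?_
    rw [hD χ (Finset.mem_filter.1 hχ).2]
    ring
  rw [h3, ← hcard, hz] at h1
  set s := ∑ χ ∈ Finset.univ.filter (fun χ : IrrCharacter G => ¬ V ≤ chKer χ), D χ ^ 2 with hs
  have hz0 : 0 < z := by
    rcases Nat.eq_zero_or_pos z with h | h
    · rw [h, mul_zero] at hz
      exact absurd hz Subgroup.index_ne_zero_of_finite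
    · exact h
  obtain ⟨m, hm⟩ : ∃ m, Nat.card V = m + 1 := ⟨Nat.card V - 1, by omega⟩
  have h4 : z * (Nat.card V ^ 2 * (z * s)) = z * (m * L) := by
    have h5 : (Nat.card V * z) ^ 2 * s + L * z = (m + 1) * (L * z) := by rw [h1, hm]
    have h6 : (Nat.card V * z) ^ 2 * s = m * (L * z) := by
      have : (m + 1) * (L * z) = m * (L * z) + L * z := by ring
      omega
    calc z * (Nat.card V ^ 2 * (z * s)) = (Nat.card V * z) ^ 2 * s := by ring
      _ = m * (L * z) := h6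
      _ = z * (m * L) := by ring
  have h7 := Nat.eq_of_mul_eq_mul_left hz0 h4
  have h8 : Nat.card V ^ 2 ∣ m * L := ⟨_, h7.symm⟩
  refine Nat.Coprime.dvd_of_dvd_mul_left ?_ h8
  rw [hm]
  exact Nat.Coprime.pow_left 2 (by simp)

/-- `H` acts on `V` with central kernel. -/
theorem exists_hom (hH : QS H)
    (ih : ∀ (M : Subgroup G) [M.Normal], M ≠ ⊥ → M ≠ ⊤ → Good (G ⧸ M) H)
    {V : Subgroup G} (hV : MinNorm V) (hVt : V ≠ ⊤) (hc : ∀ a ∈ V, ∀ b ∈ V, a * b = b * a)
    (hnc : ¬ V ≤ Subgroup.center G) : ∃ φ : H →* MulAut V, φ.ker ≤ Subgroup.center H := by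
  have hVn := hV.nor
  have h1 : V ≤ (MulAut.conjNormal : G →* MulAut V).ker := by
    intro v hv
    rw [MonoidHom.mem_ker]
    ext x
    rw [MulAut.conjNormal_apply, MulAut.one_apply, hc v hv x x.2, mul_inv_cancel_right]
  let ψ : G ⧸ V →* MulAut V := QuotientGroup.lift V MulAut.conjNormal h1
  have hψ : ∀ g : G, ψ (QuotientGroup.mk' V g) = MulAut.conjNormal g := fun g => rfl
  have key : ∀ f : H →* G ⧸ V, Function.Surjective f → ∃ φ : H →* MulAut V, φ.ker ≤ Subgroup.center H := by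
    intro f hf
    refine ⟨ψ.comp f, hH.proper inferInstance ?_⟩
    intro htop
    apply hnc
    intro v hv
    rw [Subgroup.mem_center_iff]
    intro g
    obtain ⟨h, hh⟩ := hf (QuotientGroup.mk' V g)
    have h2 : h ∈ (ψ.comp f).ker := by rw [htop]; trivial
    rw [MonoidHom.mem_ker, MonoidHom.comp_apply, hh, hψ] at h2
    have h3 := congrArg (fun σ : MulAut V => ((σ ⟨v, hv⟩ : V) : G)) h2
    have h4 : g * v * g⁻¹ = v := h3
    rwa [mul_inv_eq_iff_eq_mul] at h4
  rcases ih V hV.ne hVt with ⟨⟨e⟩⟩ | ⟨⟨e⟩⟩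
  · exact key e.symm.toMonoidHom e.symm.surjective
  · exact key (e.symm.toMonoidHom.comp (QuotientGroup.mk' _))
      (e.symm.surjective.comp (QuotientGroup.mk'_surjective _))

/-- no nontrivial elementary abelian group `V` with a faithful action of a central quotient of `H` has
`|V| ^ 2` dividing `|H : Z(H)|` -/
def NoAb (H : Type v) [Group H] : Prop :=
  ∀ (V : Type u) [Group V] [Finite V] [Nontrivial V] (r : ℕ), r.Prime → (∀ a b : V, a * b = b * a) →
    (∀ v : V, v ^ r = 1) → ∀ φ : H →* MulAut V, φ.ker ≤ Subgroup.center H →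
    Nat.card V ^ 2 ∣ (Subgroup.center H).index → False

theorem no_abelian (hH : QS H) (hno : NoAb.{u, v} H) (hG : Sub G H)
    (ih : ∀ (M : Subgroup G) [M.Normal], M ≠ ⊥ → M ≠ ⊤ → Good (G ⧸ M) H)
    {V : Subgroup G} (hV : MinNorm V) (hVt : V ≠ ⊤) (hab : IsMulCommutative V) : V ≤ Subgroup.center G := by
  by_contra hnc
  have hc : ∀ a ∈ V, ∀ b ∈ V, a * b = b * a := fun a ha b hb =>
    congrArg Subtype.val (hab.is_comm.comm ⟨a, ha⟩ ⟨b, hb⟩)
  obtain ⟨r, hr, hp⟩ := hV.exists_prime hc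
  obtain ⟨φ, hφ⟩ := exists_hom hH ih hV hVt hc hnc
  have : Nontrivial V := (Subgroup.nontrivial_iff_ne_bot V).2 hV.ne
  exact hno V r hr (fun a b => hab.is_comm.comm a b) (fun v => Subtype.ext (hp v v.2)) φ hφ
    (sq_dvd hH hG ih hV hVt hc hnc)

end

end Cfsg.Agent.H725.Cod
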