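import Cfsg.Agent.H725.CodQS
import Cfsg.Agent.H699.KerDerived
import Cfsg.Agent.H627.TateIndex

/-!
# Codegrees inside those of a quasisimple group: nonabelian minimal normal subgroups (helper725)

`exists_prime_char` : for a nonabelian minimal normal subgroup `N` and a prime `r` dividing `|N|` some irreducible
character nontrivial on `N` has degree prime to `r` (Tate's theorem).
`no_nonabelian` : a group `G` with `Sub G H`, `H` quasisimple, has no nonabelian minimal normal subgroup if its
proper quotients are `H` or `H / Z(H)`.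
-/

set_option autoImplicit false

namespace Cfsg.Agent.H725.Cod

open Cfsg Cfsg.Agent.H686.CharKit Cfsg.Agent.H677.CodPrime Cfsg.Agent.H677.CodMultiset
open scoped commutatorElement

universe u v w

section
variable {G : Type u} [Group G]

/-- minimal normal subgroups -/
structure MinNorm (N : Subgroup G) : Prop where
  nor : N.Normal
  ne : N ≠ ⊥
  min : ∀ M : Subgroup G, M.Normal → M ≤ N → M = ⊥ ∨ M = N

theorem exists_minNorm [Finite G] [Nontrivial G] : ∃ N : Subgroup G, MinNorm N := by
  classical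
  let s : Set (Subgroup G) := {N | N.Normal ∧ N ≠ ⊥}
  have hs : s.Nonempty := ⟨⊤, inferInstance, top_ne_bot⟩
  obtain ⟨N, hN⟩ := (Set.toFinite s).exists_minimal hs
  refine ⟨N, hN.1.1, hN.1.2, fun M hM hle => ?_⟩
  by_cases h : M = ⊥
  · exact Or.inl h
  · exact Or.inr (le_antisymm hle (hN.2 ⟨hM, h⟩ hle))

theorem MinNorm.inf_eq_bot {N : Subgroup G} (hN : MinNorm N) {M : Subgroup G} (hM : M.Normal)
    (h : ¬ N ≤ M) : N ⊓ M = ⊥ := by
  have := hN.nor
  rcases hN.min (N ⊓ M) inferInstance inf_le_left with h1 | h1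
  · exact h1
  · exact absurd (inf_eq_left.1 h1) h

theorem MinNorm.comm_of_isPGroup [Finite G] {N : Subgroup G} (hN : MinNorm N) {r : ℕ} [Fact r.Prime]
    (h : IsPGroup r N) : IsMulCommutative N := by
  have := hN.nor
  have h1 : Group.IsNilpotent N := h.isNilpotent
  have hnt : Nontrivial N := (Subgroup.nontrivial_iff_ne_bot N).2 hN.ne
  have h2 : commutator N < ⊤ := Group.IsSolvable.commutator_lt_top_of_nontrivial N
  have h3 : (commutator N).map N.subtype = ⁅N, N⁆ := Subgroup.map_subtype_commutator N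
  rcases hN.min ⁅N, N⁆ inferInstance (Subgroup.commutator_le_left N N) with h4 | h4
  · refine ⟨⟨fun a b => ?_⟩⟩
    have h5 : ⁅(a : G), (b : G)⁆ ∈ ⁅N, N⁆ := Subgroup.commutator_mem_commutator a.2 b.2
    rw [h4, Subgroup.mem_bot, commutatorElement_eq_one_iff_mul_comm] at h5
    exact Subtype.ext h5
  · exfalso
    apply h2.ne
    rw [eq_top_iff]
    intro x _
    have h5 : (x : G) ∈ (commutator N).map N.subtype := by rw [h3, h4]; exact x.2
    obtain ⟨y, hy, hyx⟩ := h5
    rwa [← Subtype.ext hyx]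

variable [Finite G]

theorem exists_prime_char {N : Subgroup G} (hN : MinNorm N) (hna : ¬ IsMulCommutative N) {r : ℕ}
    [hr : Fact r.Prime] (hrN : r ∣ Nat.card N) :
    ∃ χ : IrrCharacter G, ¬ N ≤ chKer χ ∧ ¬ r ∣ charDegree (χ : G → ℂ) := by
  by_contra hcon
  push Not at hcon
  have hNn := hN.nor
  have P : Sylow r G := default
  have h1 := H699.KerDerived.inf_sylow_le P N (fun χ hχ x hx => by
    by_contra h2
    have h3 : ¬ N ≤ chKer χ := fun h4 => h2 (mem_chKer.1 (h4 hx))
    exact hχ (hcon χ h3))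
  rw [H627.TateIndex.commutator_map_subtype] at h1
  obtain ⟨K, hK⟩ := H627.TateIndex.exists_regular_subgroup P N h1
  have hKn : K.Normal := ⟨fun n hn g => by
    rw [hK] at hn ⊢
    refine ⟨hNn.conj_mem n hn.1 g, ?_⟩
    have : orderOf (g * n * g⁻¹) = orderOf n := by
      rw [← MulAut.conj_apply]
      exact MulEquiv.orderOf_eq (MulAut.conj g) n
    rw [this]
    exact hn.2⟩
  rcases hN.min K hKn (fun g hg => ((hK g).1 hg).1) with h2 | h2
  · apply hna
    apply hN.comm_of_isPGroup (r := r)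
    rintro ⟨g, hg⟩
    refine ⟨(orderOf g).factorization r, Subtype.ext ?_⟩
    have h3 : g ^ r ^ (orderOf g).factorization r ∈ K := by
      rw [hK]
      refine ⟨N.pow_mem hg _, ?_⟩
      rw [orderOf_pow, Nat.gcd_eq_right (Nat.ordProj_dvd _ _)]
      exact Nat.not_dvd_ordCompl hr.out (orderOf_pos g).ne'
    rw [h2, Subgroup.mem_bot] at h3
    exact h3
  · obtain ⟨x, hx⟩ := exists_prime_orderOf_dvd_card' r hrN
    have h3 : (x : G) ∈ K := by rw [h2]; exact x.2
    rw [hK, Subgroup.orderOf_coe, hx] at h3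
    exact h3.2 dvd_rfl

/-- the sum of the squares of the degrees of the characters with `N` in the kernel -/
theorem sum_sq_le [Fintype (IrrCharacter G)] (N : Subgroup G) [N.Normal]
    [DecidablePred fun χ : IrrCharacter G => N ≤ chKer χ] :
    ∑ χ ∈ Finset.univ.filter (fun χ : IrrCharacter G => N ≤ chKer χ), charDegree (χ : G → ℂ) ^ 2 = N.index := by
  classical
  have := Characters.Core.finite_irr (G := G ⧸ N)
  let _ := Fintype.ofFinite (IrrCharacter (G ⧸ N))
  have h1 := sum_deg_sq (G := G ⧸ N)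
  rw [← Subgroup.index_eq_card] at h1
  rw [← h1]
  symm
  refine Finset.sum_bij (fun ψ _ => infl N ψ) (fun ψ _ => ?_) (fun ψ _ ψ' _ h => infl_injective N h)
    (fun χ hχ => ?_) (fun ψ _ => ?_)
  · rw [Finset.mem_filter]
    exact ⟨Finset.mem_univ _, le_chKer_infl N ψ⟩
  · obtain ⟨ψ, hψ⟩ := exists_infl N χ (Finset.mem_filter.1 hχ).2
    exact ⟨ψ, Finset.mem_univ _, hψ⟩
  · rw [charDegree_infl]

/-- the sum of the squares of the degrees of the characters nontrivial on `N` -/
theorem sum_sq_not_le [Fintype (IrrCharacter G)] (N : Subgroup G) [N.Normal]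
    [DecidablePred fun χ : IrrCharacter G => N ≤ chKer χ]
    [DecidablePred fun χ : IrrCharacter G => ¬ N ≤ chKer χ] :
    ∑ χ ∈ Finset.univ.filter (fun χ : IrrCharacter G => ¬ N ≤ chKer χ), charDegree (χ : G → ℂ) ^ 2 + N.index =
      Nat.card G := by
  rw [← sum_deg_sq (G := G), ← sum_sq_le N, add_comm,
    Finset.sum_filter_add_sum_filter_not Finset.univ (fun χ : IrrCharacter G => N ≤ chKer χ)]

/-- two normal subgroups generating `G`, both of order divisible by `r`, meeting trivially -/
theorem exists_two {N M : Subgroup G} [N.Normal] [M.Normal] (hsup : N ⊔ M = ⊤) {r : ℕ} (hr : r.Prime)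
    (hrN : r ∣ N.index) (hrM : r ∣ M.index) :
    ∃ χ : IrrCharacter G, ¬ N ≤ chKer χ ∧ ¬ M ≤ chKer χ ∧ ¬ r ∣ charDegree (χ : G → ℂ) := by
  classical
  have := Characters.Core.finite_irr (G := G)
  let _ := Fintype.ofFinite (IrrCharacter G)
  by_contra hcon
  push Not at hcon
  have hG : r ∣ Nat.card G := hrN.trans (Subgroup.index_dvd_card N)
  have h1 := sum_sq_not_le N
  have h2 := sum_sq_le M
  have h3 : ∀ s : Finset (IrrCharacter G), (∀ χ ∈ s, r ∣ charDegree (χ : G → ℂ)) →
      r ∣ ∑ χ ∈ s, charDegree (χ : G → ℂ) ^ 2 := fun s hs =>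
    Finset.dvd_sum fun χ hχ => dvd_pow (hs χ hχ) two_ne_zero
  -- characters with `M` in the kernel, not `N`
  have h4 := Finset.sum_filter_add_sum_filter_not
    (Finset.univ.filter (fun χ : IrrCharacter G => ¬ N ≤ chKer χ)) (fun χ : IrrCharacter G => M ≤ chKer χ)
    (fun χ => charDegree (χ : G → ℂ) ^ 2)
  have h5 := Finset.sum_filter_add_sum_filter_not
    (Finset.univ.filter (fun χ : IrrCharacter G => M ≤ chKer χ)) (fun χ : IrrCharacter G => N ≤ chKer χ)
    (fun χ => charDegree (χ : G → ℂ) ^ 2)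
  have h6 : (Finset.univ.filter (fun χ : IrrCharacter G => M ≤ chKer χ)).filter
      (fun χ : IrrCharacter G => N ≤ chKer χ) = {one G} := by
    ext χ
    rw [Finset.mem_filter, Finset.mem_filter, Finset.mem_singleton]
    constructor
    · rintro ⟨⟨_, ha⟩, hb⟩
      apply eq_one_of_chKer
      rw [eq_top_iff, ← hsup]
      exact sup_le hb ha
    · rintro rfl
      have : chKer (one G) = ⊤ := by
        rw [eq_top_iff]
        intro g _
        rw [mem_chKer]
        rfl
      rw [this]
      exact ⟨⟨Finset.mem_univ _, le_top⟩, le_top⟩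
  rw [h6, Finset.sum_singleton, charDegree_one, one_pow, h2] at h5
  have h7 : (Finset.univ.filter (fun χ : IrrCharacter G => M ≤ chKer χ)).filter
      (fun χ : IrrCharacter G => ¬ N ≤ chKer χ) =
      (Finset.univ.filter (fun χ : IrrCharacter G => ¬ N ≤ chKer χ)).filter
      (fun χ : IrrCharacter G => M ≤ chKer χ) := by
    ext χ
    simp only [Finset.mem_filter, Finset.mem_univ, true_and]
    tauto
  rw [h7] at h5
  have h8 := h3 ((Finset.univ.filter (fun χ : IrrCharacter G => ¬ N ≤ chKer χ)).filter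
      (fun χ : IrrCharacter G => ¬ M ≤ chKer χ)) (fun χ hχ => by
    rw [Finset.mem_filter, Finset.mem_filter] at hχ
    exact hcon χ hχ.1.2 hχ.2)
  have h9 : r ∣ ∑ χ ∈ Finset.univ.filter (fun χ : IrrCharacter G => ¬ N ≤ chKer χ),
      charDegree (χ : G → ℂ) ^ 2 := by
    rw [← h1] at hG
    exact (Nat.dvd_add_left hrN).1 hG
  rw [← h4] at h9
  have h10 := (Nat.dvd_add_left h8).1 h9
  rw [← h5] at hrM
  have h11 := (Nat.dvd_add_left h10).1 hrM
  exact hr.one_lt.ne' (Nat.dvd_one.1 h11)

end

section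
variable {G : Type u} [Group G] [Finite G] {H : Type v} [Group H] [Finite H]

/-- `X` is `H` or `H / Z(H)` -/
def Good (X : Type u) [Group X] (H : Type v) [Group H] : Prop :=
  Nonempty (X ≃* H) ∨ Nonempty (X ≃* H ⧸ Subgroup.center H)

omit [Finite H] in
theorem Good.index_dvd {X : Type u} [Group X] (h : Good X H) : (Subgroup.center H).index ∣ Nat.card X := by
  rcases h with ⟨⟨e⟩⟩ | ⟨⟨e⟩⟩
  · rw [Nat.card_congr e.toEquiv]
    exact Subgroup.index_dvd_card _
  · rw [Nat.card_congr e.toEquiv, Subgroup.index_eq_card]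

omit [Finite H] in
/-- proper normal subgroups are central -/
theorem Good.proper {X : Type u} [Group X] (h : Good X H) (hH : QS H) {N : Subgroup X} (hN : N.Normal)
    (hne : N ≠ ⊤) : N ≤ Subgroup.center X := by
  rcases h with ⟨⟨e⟩⟩ | ⟨⟨e⟩⟩
  · have h1 : (N.map e.toMonoidHom).Normal := hN.map _ e.surjective
    have h2 : N.map e.toMonoidHom ≠ ⊤ := by
      intro h3
      apply hne
      rw [eq_top_iff]
      intro x _
      have h4 : e x ∈ N.map e.toMonoidHom := by rw [h3]; trivial
      obtain ⟨y, hy, hyx⟩ := h4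
      have : y = x := e.injective hyx
      rwa [← this]
    have h3 := hH.proper h1 h2
    intro x hx
    have h4 : e x ∈ Subgroup.center H := h3 ⟨x, hx, rfl⟩
    rw [Subgroup.mem_center_iff] at h4 ⊢
    intro y
    apply e.injective
    rw [map_mul, map_mul, h4]
  · have hs := hH.simple
    have h1 : (N.map e.toMonoidHom).Normal := hN.map _ e.surjective
    have h2 : N.map e.toMonoidHom ≠ ⊤ := by
      intro h3
      apply hne
      rw [eq_top_iff]
      intro x _
      have h4 : e x ∈ N.map e.toMonoidHom := by rw [h3]; trivial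
      obtain ⟨y, hy, hyx⟩ := h4
      have : y = x := e.injective hyx
      rwa [← this]
    have h3 := h1.eq_bot_or_eq_top.resolve_right h2
    intro x hx
    have h4 : e x ∈ N.map e.toMonoidHom := ⟨x, hx, rfl⟩
    rw [h3, Subgroup.mem_bot, ← map_one e] at h4
    rw [e.injective h4]
    exact Subgroup.one_mem _

/-- `G` has no nonabelian minimal normal subgroup if its proper quotients are `H` or `H / Z(H)`. -/
theorem no_nonabelian (hH : QS H) (hG : Sub G H)
    (ih : ∀ (M : Subgroup G) [M.Normal], M ≠ ⊥ → M ≠ ⊤ → Good (G ⧸ M) H)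
    {N : Subgroup G} (hN : MinNorm N) (hNt : N ≠ ⊤) (hna : ¬ IsMulCommutative N) : False := by
  have hNn := hN.nor
  have hL1 : (Subgroup.center H).index ≠ 1 := by
    intro h1
    exact hH.center_ne_top (Subgroup.index_eq_one.1 h1)
  -- a faithful character of degree prime to `r` is impossible
  have key : ∀ r : ℕ, r.Prime → (r * (Subgroup.center H).index ∣ Nat.card G) → ∀ χ : IrrCharacter G,
      chKer χ = ⊥ → ¬ r ∣ charDegree (χ : G → ℂ) → False := by
    intro r hr hdvd χ hk hχ
    have h1 := cod_mul_index χ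
    rw [hk, Subgroup.index_bot] at h1
    have h2 := (Nat.factorization_le_iff_dvd (cod_pos χ).ne' hH.index_pos.ne').2 (hG.cod_dvd hH χ) r
    have h3 := (Nat.factorization_le_iff_dvd (Nat.mul_ne_zero hr.ne_zero hH.index_pos.ne')
      Nat.card_pos.ne').2 hdvd r
    rw [← h1, Nat.factorization_mul hr.ne_zero hH.index_pos.ne',
      Nat.factorization_mul (cod_pos χ).ne' (charDegree_pos χ).ne', Finsupp.add_apply, Finsupp.add_apply,
      hr.factorization_self, Nat.factorization_eq_zero_of_not_dvd hχ] at h3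
    omega
  have hN1 : Nat.card N ≠ 1 := fun h => hN.ne (Subgroup.card_eq_one.1 h)
  -- stage one
  obtain ⟨r, hr, hrN⟩ := Nat.exists_prime_and_dvd hN1
  have := Fact.mk hr
  obtain ⟨χ, hχ1, hχ2⟩ := exists_prime_char hN hna hrN
  have hMn := chKer_normal χ
  by_cases hM : chKer χ = ⊥
  · refine key r hr ?_ χ hM hχ2
    rw [← Subgroup.card_mul_index N]
    exact Nat.mul_dvd_mul hrN (ih N hN.ne hNt).index_dvd
  -- stage two : `G = N × M`
  have full : ∀ M : Subgroup G, M.Normal → M ≠ ⊥ → ¬ N ≤ M → N ⊔ M = ⊤ := by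
    intro M hMn hM hNM
    have hMt : M ≠ ⊤ := by rintro rfl; exact hNM le_top
    have h1 := hN.inf_eq_bot hMn hNM
    have hg := ih M hM hMt
    by_contra hne
    have h2 : (N.map (QuotientGroup.mk' M)) ≠ ⊤ := by
      intro h3
      apply hne
      rw [eq_top_iff]
      intro x _
      have h4 : (QuotientGroup.mk' M) x ∈ N.map (QuotientGroup.mk' M) := by rw [h3]; trivial
      obtain ⟨y, hy, hyx⟩ := h4
      have h5 : y⁻¹ * x ∈ M := QuotientGroup.eq.1 hyx
      have : x = y * (y⁻¹ * x) := by group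
      rw [this]
      exact Subgroup.mul_mem _ (Subgroup.mem_sup_left hy) (Subgroup.mem_sup_right h5)
    have h3 := hg.proper hH (hNn.map _ (QuotientGroup.mk'_surjective M)) h2
    apply hna
    refine ⟨⟨fun a b => Subtype.ext ?_⟩⟩
    have h4 : (QuotientGroup.mk' M) (a : G) ∈ Subgroup.center (G ⧸ M) := h3 ⟨a, a.2, rfl⟩
    have h5 := Subgroup.mem_center_iff.1 h4 ((QuotientGroup.mk' M) (b : G))
    have h6 : ((a * b : N) : G)⁻¹ * ((b * a : N) : G) ∈ M := by
      have : (QuotientGroup.mk' M) ((a * b : N) : G) = (QuotientGroup.mk' M) ((b * a : N) : G) := by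
        push_cast
        rw [map_mul, map_mul, h5]
      exact QuotientGroup.eq.1 this
    have h7 : ((a * b : N) : G)⁻¹ * ((b * a : N) : G) ∈ N ⊓ M :=
      ⟨N.mul_mem (N.inv_mem (a * b : N).2) (b * a : N).2, h6⟩
    rw [h1, Subgroup.mem_bot, inv_mul_eq_one] at h7
    exact h7
  have hcard : ∀ M : Subgroup G, M.Normal → M ≠ ⊥ → ¬ N ≤ M → Nat.card M = N.index ∧ Nat.card N = M.index := by
    intro M hMn hM hNM
    have h1 := hN.inf_eq_bot hMn hNM
    have h2 := full M hMn hM hNM
    have hc : N.IsComplement' M := Subgroup.isComplement'_of_disjoint_and_mul_eq_univ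
      (disjoint_iff.2 h1) (by
        rw [← Subgroup.mul_normal, h2]; rfl)
    exact ⟨hc.symm.index_eq_card.symm, hc.index_eq_card.symm⟩
  have hCn : (Subgroup.centralizer (N : Set G)).Normal := inferInstance
  have hNC : ¬ N ≤ Subgroup.centralizer (N : Set G) := by
    intro h
    apply hna
    refine ⟨⟨fun a b => Subtype.ext ?_⟩⟩
    exact (Subgroup.mem_centralizer_iff.1 (h b.2) a a.2)
  have hle : ∀ M : Subgroup G, M.Normal → M ≠ ⊥ → ¬ N ≤ M → M = Subgroup.centralizer (N : Set G) := by
    intro M hMn hM hNM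
    have h1 := hN.inf_eq_bot hMn hNM
    have h2 : M ≤ Subgroup.centralizer (N : Set G) := by
      intro m hm
      rw [Subgroup.mem_centralizer_iff]
      intro n hn
      exact Subgroup.commute_of_normal_of_disjoint N M hNn hMn (disjoint_iff.2 h1) n m hn hm
    have hC : Subgroup.centralizer (N : Set G) ≠ ⊥ := fun h => hM (by rwa [h, le_bot_iff] at h2)
    have h3 := (hcard M hMn hM hNM).1
    have h4 := (hcard _ hCn hC hNC).1
    exact Subgroup.eq_of_le_of_card_ge h2 (by rw [h3, h4])
  have hNM1 := hχ1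
  obtain ⟨hc1, hc2⟩ := hcard _ hMn hM hNM1
  have hsup := full _ hMn hM hNM1
  have hMt : chKer χ ≠ ⊤ := fun h => hNM1 (by rw [h]; exact le_top)
  obtain ⟨s, hs, hsL⟩ := Nat.exists_prime_and_dvd hL1
  have h1 : s ∣ N.index := by
    rw [Subgroup.index_eq_card]
    exact hsL.trans (ih N hN.ne hNt).index_dvd
  have h2 : s ∣ (chKer χ).index := by
    rw [Subgroup.index_eq_card]
    exact hsL.trans (ih _ hM hMt).index_dvd
  obtain ⟨φ, hφ1, hφ2, hφ3⟩ := exists_two hsup hs h1 h2
  have hK : chKer φ = ⊥ := by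
    by_contra hK
    have h3 := hle _ (chKer_normal φ) hK hφ1
    have h4 := hle _ hMn hM hNM1
    exact hφ2 (by rw [h3, h4])
  refine key s hs ?_ φ hK hφ3
  rw [← Subgroup.card_mul_index N]
  refine Nat.mul_dvd_mul ?_ ?_
  · rw [hc2]; exact h2
  · rw [Subgroup.index_eq_card]
    exact (ih N hN.ne hNt).index_dvd

end

end Cfsg.Agent.H725.Cod
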