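import Cfsg.Agent.H725.Cod

/-!
# Codegrees inside those of a quasisimple group (helper725)

`QS H` : `H` is perfect, its normal subgroups are `1`, `Z(H)`, `H`, and `|Z(H)|` is one or a prime.
For such `H` every codegree divides `|H : Z(H)|` and the square of a nontrivial codegree is larger than
`|H : Z(H)|`.
-/

set_option autoImplicit false

namespace Cfsg.Agent.H725.Cod

open Cfsg Cfsg.Agent.H686.CharKit Cfsg.Agent.H677.CodPrime Cfsg.Agent.H677.CodMultiset

universe u v w

/-- a perfect group with normal subgroups `1`, `Z(H)`, `H` only, and centre of order one or a prime -/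
structure QS (H : Type v) [Group H] : Prop where
  nt : Nontrivial H
  perf : commutator H = ⊤
  nor : ∀ N : Subgroup H, N.Normal → N = ⊤ ∨ N = ⊥ ∨ N = Subgroup.center H
  zp : Nat.card (Subgroup.center H) = 1 ∨ (Nat.card (Subgroup.center H)).Prime

section
variable {H : Type v} [Group H]

theorem QS.center_ne_top (h : QS H) : Subgroup.center H ≠ ⊤ := by
  intro hc
  have h1 : commutator H = ⊥ := by
    rw [commutator_def, Subgroup.commutator_eq_bot_iff_le_centralizer]
    intro x _
    rw [Subgroup.mem_centralizer_iff]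
    intro y _
    have : x ∈ Subgroup.center H := by rw [hc]; trivial
    exact Subgroup.mem_center_iff.1 this y
  have := h.nt
  rw [h.perf] at h1
  exact top_ne_bot h1

theorem QS.proper (h : QS H) {N : Subgroup H} (hN : N.Normal) (hne : N ≠ ⊤) : N ≤ Subgroup.center H := by
  rcases h.nor N hN with h1 | h1 | h1
  · exact absurd h1 hne
  · rw [h1]; exact bot_le
  · exact h1.le

theorem QS.simple (h : QS H) : IsSimpleGroup (H ⧸ Subgroup.center H) := by
  have h0 : Nontrivial (H ⧸ Subgroup.center H) := QuotientGroup.nontrivial_iff.2 h.center_ne_top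
  refine { toNontrivial := h0, eq_bot_or_eq_top_of_normal := fun M hM => ?_ }
  have hsur := QuotientGroup.mk'_surjective (Subgroup.center H)
  have hle : Subgroup.center H ≤ M.comap (QuotientGroup.mk' (Subgroup.center H)) := by
    intro x hx
    rw [Subgroup.mem_comap, QuotientGroup.mk'_apply, (QuotientGroup.eq_one_iff x).2 hx]
    exact M.one_mem
  by_cases h1 : M.comap (QuotientGroup.mk' (Subgroup.center H)) = ⊤
  · right
    rw [← Subgroup.map_comap_eq_self_of_surjective hsur M, h1, Subgroup.map_top_of_surjective _ hsur]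
  · left
    have h2 := h.proper (hM.comap _) h1
    rw [eq_bot_iff]
    intro y hy
    obtain ⟨x, rfl⟩ := hsur y
    exact (QuotientGroup.eq_one_iff x).2 (h2 hy)

theorem QS.quotient_perfect (h : QS H) : commutator (H ⧸ Subgroup.center H) = ⊤ := by
  rw [commutator_def, ← Subgroup.map_top_of_surjective (QuotientGroup.mk' (Subgroup.center H))
    (QuotientGroup.mk'_surjective _), ← Subgroup.map_commutator, ← commutator_def, h.perf]

theorem QS.quotient_nonabelian (h : QS H) : ¬ IsMulCommutative (H ⧸ Subgroup.center H) := by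
  intro hc
  have hbot : commutator (H ⧸ Subgroup.center H) = ⊥ := by
    rw [commutator_eq_closure, Subgroup.closure_eq_bot_iff]
    rintro _ ⟨a, b, rfl⟩
    rw [Set.mem_singleton_iff, commutatorElement_eq_one_iff_mul_comm]
    exact hc.is_comm.comm a b
  have := h.simple
  rw [h.quotient_perfect] at hbot
  exact top_ne_bot hbot

variable [Finite H]

theorem QS.index_pos (_h : QS H) : 0 < (Subgroup.center H).index :=
  Nat.pos_of_ne_zero Subgroup.index_ne_zero_of_finite

theorem QS.card_mul (_h : QS H) : Nat.card (Subgroup.center H) * (Subgroup.center H).index = Nat.card H :=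
  Subgroup.card_mul_index _

theorem QS.ker (h : QS H) {ψ : IrrCharacter H} (hψ : ψ ≠ one H) :
    chKer ψ = ⊥ ∨ chKer ψ = Subgroup.center H := by
  rcases h.nor _ (chKer_normal ψ) with h1 | h1
  · exact absurd (eq_one_of_chKer h1) hψ
  · exact h1

/-- the codegrees divide the order of the central quotient -/
theorem QS.cod_dvd (h : QS H) (ψ : IrrCharacter H) : cod ψ ∣ (Subgroup.center H).index := by
  by_cases hψ : ψ = one H
  · rw [hψ, cod_one]; exact one_dvd _
  have h2 := cod_mul_index ψ
  rcases h.ker hψ with h1 | h1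
  · rw [h1, Subgroup.index_bot] at h2
    rcases h.zp with hz | hz
    · rw [← h.card_mul, hz, one_mul] at h2
      exact ⟨_, h2.symm⟩
    · obtain ⟨z, hz1⟩ : ∃ z : Subgroup.center H, orderOf z = Nat.card (Subgroup.center H) := by
        have := Fact.mk hz
        exact exists_prime_orderOf_dvd_card' _ dvd_rfl
      have h3 := orderOf_dvd h.perf h1 z.2
      rw [Subgroup.orderOf_coe, hz1] at h3
      obtain ⟨m, hm⟩ := h3
      refine ⟨m, ?_⟩
      have h4 := h.card_mul
      rw [← h2, hm] at h4
      have h5 : Nat.card (Subgroup.center H) * (Subgroup.center H).index =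
          Nat.card (Subgroup.center H) * (cod ψ * m) := by rw [h4]; ring
      exact Nat.eq_of_mul_eq_mul_left hz.pos h5
  · rw [h1] at h2
    exact ⟨_, h2.symm⟩

/-- the squares of the nontrivial codegrees are larger than the order of the central quotient -/
theorem QS.index_lt (h : QS H) {ψ : IrrCharacter H} (hψ : ψ ≠ one H) :
    (Subgroup.center H).index < cod ψ ^ 2 := by
  have h2 := index_lt_cod_sq hψ
  rcases h.ker hψ with h1 | h1
  · rw [h1, Subgroup.index_bot, ← h.card_mul] at h2
    have h3 : 0 < Nat.card (Subgroup.center H) := Nat.card_pos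
    exact (Nat.le_mul_of_pos_left _ h3).trans_lt h2
  · rwa [h1] at h2

end

section
variable {G : Type u} [Group G] [Finite G] {H : Type v} [Group H] [Finite H]

theorem Sub.cod_dvd (h : Sub G H) (hH : QS H) (χ : IrrCharacter G) : cod χ ∣ (Subgroup.center H).index := by
  obtain ⟨ψ, hψ⟩ := h χ
  rw [hψ]
  exact hH.cod_dvd ψ

theorem Sub.index_lt (h : Sub G H) (hH : QS H) {χ : IrrCharacter G} (hχ : χ ≠ one G) :
    (Subgroup.center H).index < cod χ ^ 2 := by
  obtain ⟨ψ, hψ⟩ := h χ
  have h1 : ψ ≠ one H := by
    rintro rfl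
    rw [cod_one] at hψ
    exact hχ (cod_eq_one_iff.1 hψ)
  rw [hψ]
  exact hH.index_lt h1

/-- the order of a simple group whose codegrees are codegrees of `H` divides `|H : Z(H)|` -/
theorem Sub.card_dvd [IsSimpleGroup G] (h : Sub G H) (hH : QS H) :
    Nat.card G ∣ (Subgroup.center H).index := by
  rw [← Nat.factorization_le_iff_dvd Nat.card_pos.ne' hH.index_pos.ne']
  intro p
  by_cases hp : p.Prime
  swap
  · rw [Nat.factorization_eq_zero_of_not_prime _ hp]; exact Nat.zero_le _
  by_cases hpH : p ∣ Nat.card G
  swap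
  · rw [Nat.factorization_eq_zero_of_not_dvd hpH]; exact Nat.zero_le _
  obtain ⟨ψ, hψ1, hψ⟩ := exists_not_dvd hp hpH
  have h1 := cod_mul hψ1
  have h3 : (Nat.card G).factorization p = (cod ψ).factorization p := by
    rw [← h1, Nat.factorization_mul (cod_pos ψ).ne' (charDegree_pos ψ).ne']
    simp [Nat.factorization_eq_zero_of_not_dvd hψ]
  rw [h3]
  exact (Nat.factorization_le_iff_dvd (cod_pos ψ).ne' hH.index_pos.ne').2 (h.cod_dvd hH ψ) p

/-- a simple group whose codegrees are codegrees of `H` is not abelian -/
theorem Sub.nonabelian [IsSimpleGroup G] (h : Sub G H) (hH : QS H) : ¬ IsMulCommutative G := by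
  intro hc
  have h1 := h.perfect hH.perf
  have hbot : commutator G = ⊥ := by
    rw [commutator_eq_closure, Subgroup.closure_eq_bot_iff]
    rintro _ ⟨a, b, rfl⟩
    rw [Set.mem_singleton_iff, commutatorElement_eq_one_iff_mul_comm]
    exact hc.is_comm.comm a b
  rw [h1] at hbot
  exact top_ne_bot hbot

end

end Cfsg.Agent.H725.Cod
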