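import Cfsg.Agent.H725.CodAb

/-!
# Codegrees inside those of a quasisimple group: the reduction (helper725)
-/

set_option autoImplicit false

namespace Cfsg.Agent.H725.Cod

open Cfsg Cfsg.Agent.H686.CharKit Cfsg.Agent.H677.CodPrime Cfsg.Agent.H677.CodMultiset

universe u v w

/-- the central case -/
def CenOK (H : Type v) [Group H] [Finite H] : Prop :=
  ∀ (G : Type u) [Group G] [Finite G] (V : Subgroup G), commutator G = ⊤ → Sub G H → V ≤ Subgroup.center G →
    (Nat.card V).Prime → (∀ (M : Subgroup G) [M.Normal], M ≠ ⊥ → M ≠ ⊤ → Good (G ⧸ M) H) → Good G H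

/-- the simple case -/
def SimOK (H : Type v) [Group H] [Finite H] : Prop :=
  ∀ (G : Type u) [Group G] [Finite G] [IsSimpleGroup G], Sub G H → Good G H

theorem MinNorm.card_prime {G : Type u} [Group G] [Finite G] {V : Subgroup G} (hV : MinNorm V)
    (hc : V ≤ Subgroup.center G) : (Nat.card V).Prime := by
  obtain ⟨r, hr, hrV⟩ := Nat.exists_prime_and_dvd (fun h => hV.ne (Subgroup.card_eq_one.1 h))
  have := Fact.mk hr
  obtain ⟨x, hx⟩ := exists_prime_orderOf_dvd_card' r hrV
  have h1 : (Subgroup.zpowers (x : G)).Normal := by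
    refine ⟨fun n hn g => ?_⟩
    have h2 : n ∈ Subgroup.center G := by
      have : Subgroup.zpowers (x : G) ≤ Subgroup.center G := by
        rw [Subgroup.zpowers_le]; exact hc x.2
      exact this hn
    rw [Subgroup.mem_center_iff.1 h2 g, mul_inv_cancel_right]
    exact hn
  have hxr : orderOf (x : G) = r := by rw [Subgroup.orderOf_coe, hx]
  rcases hV.min _ h1 (by rw [Subgroup.zpowers_le]; exact x.2) with h2 | h2
  · exfalso
    rw [Subgroup.zpowers_eq_bot, ← orderOf_eq_one_iff, hxr] at h2
    exact hr.one_lt.ne' h2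
  · rw [← h2, Nat.card_zpowers, hxr]
    exact hr

/-- **The reduction.** -/
theorem reduction {H : Type v} [Group H] [Finite H] (hH : QS H) (hno : NoAb.{u, v} H) (hs : SimOK.{u, v} H)
    (hc : CenOK.{u, v} H) (G : Type u) [Group G] [Finite G] [Nontrivial G] (hG : Sub G H) : Good G H := by
  have key : ∀ n : ℕ, ∀ (G : Type u) [Group G] [Finite G] [Nontrivial G], Nat.card G ≤ n → Sub G H →
      Good G H := by
    intro n
    induction n with
    | zero =>
      intro G _ _ _ h
      exact absurd h (by have : 0 < Nat.card G := Nat.card_pos; omega)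
    | succ n ih =>
      intro G _ _ _ hn hG
      have ih' : ∀ (M : Subgroup G) [M.Normal], M ≠ ⊥ → M ≠ ⊤ → Good (G ⧸ M) H := by
        intro M _ hM hMt
        have : Nontrivial (G ⧸ M) := QuotientGroup.nontrivial_iff.2 hMt
        refine ih (G ⧸ M) ?_ (hG.quotient M)
        have h1 := Subgroup.card_mul_index M
        rw [Subgroup.index_eq_card] at h1
        have h2 : Nat.card M ≠ 1 := fun h => hM (Subgroup.card_eq_one.1 h)
        have h3 : 0 < Nat.card M := Nat.card_pos
        have h4 : 0 < Nat.card (G ⧸ M) := Nat.card_pos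
        have h5 : 2 * Nat.card (G ⧸ M) ≤ Nat.card G := by
          rw [← h1]
          exact Nat.mul_le_mul_right _ (by omega)
        omega
      obtain ⟨V, hV⟩ := exists_minNorm (G := G)
      have hVn := hV.nor
      by_cases hVt : V = ⊤
      · have hsg : ∀ M : Subgroup G, M.Normal → M = ⊥ ∨ M = ⊤ := by
          intro M hM
          rcases hV.min M hM (by rw [hVt]; exact le_top) with h | h
          · exact Or.inl h
          · exact Or.inr (h.trans hVt)
        have : IsSimpleGroup G := ⟨hsg⟩
        exact hs G hG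
      by_cases hab : IsMulCommutative V
      · have h1 := no_abelian hH hno hG ih' hV hVt hab
        exact hc G V (hG.perfect hH.perf) hG h1 (hV.card_prime h1) ih'
      · exact (no_nonabelian hH hG ih' hV hVt hab).elim
  exact key _ G le_rfl hG

end Cfsg.Agent.H725.Cod
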