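import Cfsg.Agent.H725.CodRed

/-!
# Degrees in perfect groups (helper725)
-/

set_option autoImplicit false

namespace Cfsg.Agent.H725.Cod

open Cfsg Cfsg.Agent.H686.CharKit Cfsg.Agent.H677.CodPrime Cfsg.Agent.H677.CodMultiset
open scoped commutatorElement

universe u

theorem degree_ne_one {G : Type u} [Group G] [Finite G] (hperf : commutator G = ⊤) {χ : IrrCharacter G}
    (h : χ ≠ one G) : charDegree (χ : G → ℂ) ≠ 1 := by
  intro h1
  apply h
  apply eq_one_of_chKer
  rw [eq_top_iff, ← hperf]
  obtain ⟨f, hf⟩ := Characters.Linear.exists_hom_of_isIrrCharacter χ.2 ((charDegree_eq_one_iff χ).1 h1)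
  rw [commutator_def, Subgroup.commutator_le]
  intro a _ b _
  rw [mem_chKer, hf]
  simp only [map_one]
  have : f ⁅a, b⁆ = 1 := by
    rw [map_commutatorElement]
    exact commutatorElement_eq_one_iff_mul_comm.2 (mul_comm _ _)
  rw [this]

end Cfsg.Agent.H725.Cod
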