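import Cfsg.Agent.H725.CenSmall

/-!
# The codegrees of `SL₂(q)` and `PSL₂(q)` (helper725)
-/

set_option autoImplicit false

namespace Cfsg.Agent.H725.EqTwo

open Cfsg Cfsg.Agent.H725.Cod Cfsg.Agent.H725.Lam Cfsg.Agent.H725.SLFacts Cfsg.Agent.H725.CenGen
open Cfsg.Agent.H686.CharKit Cfsg.Agent.H677.CodPrime Cfsg.Agent.H677.CodMultiset Matrix Finset

theorem num {a b h : ℕ} (hh : 2 ≤ h) (H : 2 * a * (h + 1) ^ 2 + 2 * b * h ^ 2 = h * (h + 1) * (2 * h + 1)) : False := by
  have hcop : Nat.Coprime h (h + 1) := by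
    rw [Nat.coprime_self_add_right]
    exact Nat.coprime_one_right h
  have h1 : h ∣ 2 * a := by
    have h2 : h ∣ 2 * a * (h + 1) ^ 2 := by
      have h3 : h ∣ 2 * a * (h + 1) ^ 2 + 2 * b * h ^ 2 := by rw [H, mul_assoc]; exact dvd_mul_right _ _
      exact (Nat.dvd_add_left ((dvd_pow_self h two_ne_zero).mul_left _)).1 h3
    exact (hcop.pow_right 2).dvd_of_dvd_mul_right h2
  have h2 : (h + 1) ∣ 2 * b := by
    have h3 : (h + 1) ∣ 2 * b * h ^ 2 := by
      have h4 : (h + 1) ∣ 2 * a * (h + 1) ^ 2 + 2 * b * h ^ 2 := by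
        rw [H, mul_comm h, mul_assoc]; exact dvd_mul_right _ _
      exact (Nat.dvd_add_right ((dvd_pow_self (h + 1) two_ne_zero).mul_left _)).1 h4
    exact (hcop.symm.pow_right 2).dvd_of_dvd_mul_right h3
  obtain ⟨a', ha⟩ := h1
  obtain ⟨b', hb⟩ := h2
  rw [ha, hb] at H
  have h3 : h * (h + 1) * (a' * (h + 1) + b' * h) = h * (h + 1) * (2 * h + 1) := by rw [← H]; ring
  have h4 := Nat.eq_of_mul_eq_mul_left (by positivity) h3
  have h5 : a' < 2 := by
    by_contra h6
    push Not at h6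
    have : 2 * (h + 1) ≤ a' * (h + 1) := Nat.mul_le_mul_right _ h6
    omega
  interval_cases a'
  · have h6 : h ∣ 1 := by
      have h7 : h ∣ 2 * h + 1 := ⟨b', by rw [← h4]; ring⟩
      exact (Nat.dvd_add_right (dvd_mul_left h 2)).1 h7
    have := Nat.le_of_dvd one_pos h6
    omega
  · have h6 : b' * h = 1 * h := by omega
    have h7 := Nat.eq_of_mul_eq_mul_right (by omega) h6
    subst h7
    omega

/-- the codegree sets of `SL₂(q)` and `PSL₂(q)` are different if the centre is not trivial -/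
theorem ne_two {F : Type} [Field F] [Fintype F] (h5 : 5 ≤ Fintype.card F)
    (h : ∀ ψ : IrrCharacter (SpecialLinearGroup (Fin 2) F),
      ∃ χ : IrrCharacter (SpecialLinearGroup (Fin 2) F ⧸ Subgroup.center (SpecialLinearGroup (Fin 2) F)),
        cod ψ = cod χ) : Subgroup.center (SpecialLinearGroup (Fin 2) F) = ⊥ := by
  classical
  by_contra hZ
  have := Characters.Core.finite_irr (G := SpecialLinearGroup (Fin 2) F)
  let _ := Fintype.ofFinite (IrrCharacter (SpecialLinearGroup (Fin 2) F))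
  have hQ := qs_two (F := F) (by omega)
  have hs := hQ.simple
  have hc := card_center (F := F) (n := 2) (by norm_num)
  have hZ2 : Nat.card (Subgroup.center (SpecialLinearGroup (Fin 2) F)) = 2 := by
    rw [hc]
    rcases (Nat.dvd_prime Nat.prime_two).1 (Nat.gcd_dvd_left 2 (Fintype.card F - 1)) with h4 | h4
    · rw [h4] at hc
      exact absurd (Subgroup.card_eq_one.1 hc) hZ
    · exact h4
  obtain ⟨k, hk⟩ : ∃ k, Fintype.card F = 2 * k + 1 := by
    rw [hZ2] at hc
    have : 2 ∣ Fintype.card F - 1 := by rw [hc]; exact Nat.gcd_dvd_right _ _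
    exact ⟨(Fintype.card F - 1) / 2, by omega⟩
  obtain ⟨z, hzZ, hzo, hzz⟩ := exists_gen (V := Subgroup.center (SpecialLinearGroup (Fin 2) F))
    (by rw [hZ2]; exact Nat.prime_two)
  rw [hZ2] at hzo
  have hsum := sum_sq_Lam hzZ hzo (c := -1) (by norm_num)
  have hdeg : ∀ ψ ∈ Lam z (-1), charDegree (ψ : SpecialLinearGroup (Fin 2) F → ℂ) = Fintype.card F + 1 ∨
      charDegree (ψ : SpecialLinearGroup (Fin 2) F → ℂ) = Fintype.card F - 1 := by
    intro ψ hψ
    have h1 : (ψ : SpecialLinearGroup (Fin 2) F → ℂ) z ≠ (ψ : SpecialLinearGroup (Fin 2) F → ℂ) 1 := by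
      rw [mem_Lam.1 hψ]
      intro h'
      have h2 : (-1 : ℂ) = 1 := mul_right_cancel₀ (deg_ne ψ) (by rw [one_mul]; exact h')
      norm_num at h2
    have hψ1 : ψ ≠ one _ := by
      rintro rfl
      exact h1 rfl
    have hker : chKer ψ = ⊥ := by
      rcases hQ.ker hψ1 with h2 | h2
      · exact h2
      · exact absurd (show z ∈ chKer ψ by rw [h2]; exact hzZ) h1
    obtain ⟨χ, hχ⟩ := h ψ
    have hχ1 : χ ≠ one _ := by
      rintro rfl
      rw [cod_one] at hχ
      exact hψ1 (cod_eq_one_iff.1 hχ)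
    have h3 := cod_mul_index ψ
    rw [hker, Subgroup.index_bot] at h3
    have h4 := cod_mul hχ1
    rw [← hχ, ← Subgroup.index_eq_card] at h4
    have h5' := Subgroup.card_mul_index (Subgroup.center (SpecialLinearGroup (Fin 2) F))
    rw [hZ2, ← h4, ← h3] at h5'
    have h6 : cod ψ * (2 * charDegree (χ : SpecialLinearGroup (Fin 2) F ⧸ Subgroup.center (SpecialLinearGroup (Fin 2) F) → ℂ)) =
        cod ψ * charDegree (ψ : SpecialLinearGroup (Fin 2) F → ℂ) := by rw [← h5']; ring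
    have h7 := Nat.eq_of_mul_eq_mul_left (cod_pos ψ) h6
    have h8 := SimTwo.degrees h5 hψ1
    have h9 : infl (Subgroup.center (SpecialLinearGroup (Fin 2) F)) χ ≠ one _ := by
      intro h10
      apply hχ1
      apply infl_injective (Subgroup.center (SpecialLinearGroup (Fin 2) F))
      rw [h10]
      rfl
    have h10 := SimTwo.degrees h5 h9
    rw [charDegree_infl] at h10
    rw [← h7] at h8 ⊢
    rw [hk] at h8 h10 h5 ⊢
    omega
  have h9 : ∀ ψ ∈ Lam z (-1), charDegree (ψ : SpecialLinearGroup (Fin 2) F → ℂ) ^ 2 =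
      (Fintype.card F + 1) ^ 2 * (if charDegree (ψ : SpecialLinearGroup (Fin 2) F → ℂ) = Fintype.card F + 1 then 1 else 0) +
      (Fintype.card F - 1) ^ 2 * (if charDegree (ψ : SpecialLinearGroup (Fin 2) F → ℂ) = Fintype.card F - 1 then 1 else 0) := by
    intro ψ hψ
    rcases hdeg ψ hψ with h' | h' <;> rw [h']
    · rw [if_pos rfl, if_neg (by omega)]; ring
    · rw [if_pos rfl, if_neg (by omega)]; ring
  rw [sum_congr rfl h9, sum_add_distrib, ← mul_sum, ← mul_sum, card_two] at hsum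
  generalize (∑ ψ ∈ Lam z (-1), if charDegree (ψ : SpecialLinearGroup (Fin 2) F → ℂ) = Fintype.card F + 1 then 1 else 0) = a at hsum
  generalize (∑ ψ ∈ Lam z (-1), if charDegree (ψ : SpecialLinearGroup (Fin 2) F → ℂ) = Fintype.card F - 1 then 1 else 0) = b at hsum
  rw [hk, Nat.add_sub_cancel] at hsum
  have e1 : (2 * k + 1) ^ 2 - 1 = 4 * (k * (k + 1)) := by
    have : (2 * k + 1) ^ 2 = 4 * (k * (k + 1)) + 1 := by ring
    omega
  rw [e1] at hsum
  refine num (a := a) (b := b) (h := k) (by omega) ?_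
  have h10 : 4 * (2 * a * (k + 1) ^ 2 + 2 * b * k ^ 2) = 4 * (k * (k + 1) * (2 * k + 1)) := by
    calc 4 * (2 * a * (k + 1) ^ 2 + 2 * b * k ^ 2) = 2 * ((2 * k + 1 + 1) ^ 2 * a + (2 * k) ^ 2 * b) := by ring
      _ = _ := by rw [hsum]; ring
  exact Nat.eq_of_mul_eq_mul_left (by norm_num) h10

end Cfsg.Agent.H725.EqTwo
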