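import Cfsg.Agent.H725.LamOrth

/-!
# Constituents of induced linear characters (helper725)

`exists_deg_le` : if `τ` is a linear character of `P`, nontrivial at the central element `z ∈ P`, then some
irreducible character `χ` has degree at most `|G : P|` and `χ(z) ≠ χ(1)`.
-/

set_option autoImplicit false

namespace Cfsg.Agent.H725.IndDeg

open Cfsg Cfsg.Agent.H725.Lam
open Cfsg.Agent.H686.CharKit Cfsg.Agent.H677.CodPrime Cfsg.Agent.H677.CodMultiset
open Finset ComplexConjugate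

universe u

variable {G : Type u} [Group G] [Finite G]

/-- a vector on which `P` acts by `τ` generates a space of dimension at most `|G : P|` -/
theorem finrank_le {V : Type*} [AddCommGroup V] [Module ℂ V] [FiniteDimensional ℂ V]
    (ρ : Representation ℂ G V) (hρ : ρ.IsIrreducible) (P : Subgroup G) (τ : P →* ℂˣ) {v : V} (hv : v ≠ 0)
    (h : ∀ p : P, ρ p v = ((τ p : ℂˣ) : ℂ) • v) : Module.finrank ℂ V ≤ P.index := by
  classical
  let _ := Fintype.ofFinite (G ⧸ P)
  let W : Submodule ℂ V := Submodule.span ℂ (Set.range fun x : G ⧸ P => ρ x.out v)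
  have hmem : ∀ g : G, ρ g v ∈ W := by
    intro g
    obtain ⟨p, hp⟩ := QuotientGroup.mk_out_eq_mul P g
    have h1 : ρ g v = (((τ p)⁻¹ : ℂˣ) : ℂ) • ρ ((g : G ⧸ P).out) v := by
      rw [hp, map_mul, Module.End.mul_apply, h, map_smul, smul_smul, ← Units.val_mul, inv_mul_cancel, Units.val_one,
        one_smul]
    rw [h1]
    exact W.smul_mem _ (Submodule.subset_span ⟨_, rfl⟩)
  have hinv : ∀ g : G, W ≤ W.comap (ρ g) := by
    intro g
    rw [Submodule.span_le]
    rintro _ ⟨x, rfl⟩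
    change ρ g (ρ x.out v) ∈ W
    rw [← Module.End.mul_apply, ← map_mul]
    exact hmem _
  have hW : W = ⊤ := by
    have h1 : W ≠ ⊥ := by
      intro h2
      have h3 := hmem 1
      rw [h2, map_one, Submodule.mem_bot] at h3
      exact hv h3
    have h2 := hρ
    let W' : Subrepresentation ρ := ⟨W, fun g v hv => hinv g hv⟩
    rcases eq_bot_or_eq_top W' with h | h
    · exact absurd (congrArg Subrepresentation.toSubmodule h) h1
    · exact congrArg Subrepresentation.toSubmodule h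
  have h1 : Module.finrank ℂ W ≤ Fintype.card (G ⧸ P) := by
    refine (finrank_span_le_card _).trans ?_
    rw [Set.toFinset_range]
    exact card_image_le.trans (by rw [card_univ])
  rw [hW, finrank_top] at h1
  rw [Subgroup.index_eq_card, Nat.card_eq_fintype_card]
  exact h1

theorem exists_deg_le (P : Subgroup G) (τ : P →* ℂˣ) {z : G} (hz : z ∈ Subgroup.center G) (hzP : z ∈ P)
    (hτ : τ ⟨z, hzP⟩ ≠ 1) :
    ∃ χ : IrrCharacter G, charDegree (χ : G → ℂ) ≤ P.index ∧ (χ : G → ℂ) z ≠ (χ : G → ℂ) 1 := by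
  classical
  have := Characters.Core.finite_irr (G := G)
  let _ := Fintype.ofFinite (IrrCharacter G)
  let _ := Fintype.ofFinite P
  -- some irreducible character has nonzero pairing
  obtain ⟨χ, hχ⟩ : ∃ χ : IrrCharacter G, ∑ p : P, (((τ p)⁻¹ : ℂˣ) : ℂ) * (χ : G → ℂ) p ≠ 0 := by
    by_contra hcon
    push Not at hcon
    have h1 : ∑ χ : IrrCharacter G, (∑ p : P, (((τ p)⁻¹ : ℂˣ) : ℂ) * (χ : G → ℂ) p) * conj ((χ : G → ℂ) 1) = 0 :=
      sum_eq_zero fun χ _ => by rw [hcon, zero_mul]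
    have h2 : ∑ χ : IrrCharacter G, (∑ p : P, (((τ p)⁻¹ : ℂˣ) : ℂ) * (χ : G → ℂ) p) * conj ((χ : G → ℂ) 1) =
        ∑ p : P, (((τ p)⁻¹ : ℂˣ) : ℂ) * ∑ χ : IrrCharacter G, (χ : G → ℂ) p * conj ((χ : G → ℂ) 1) := by
      simp_rw [sum_mul, mul_sum]
      rw [sum_comm]
      refine sum_congr rfl fun p _ => sum_congr rfl fun χ _ => by ring
    rw [h1, sum_eq_single 1] at h2
    · rw [map_one, inv_one, Units.val_one, one_mul] at h2
      have h3 := col_orth (G := G) 1 1
      rw [if_pos (IsConj.refl _)] at h3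
      have h4 : ∑ χ : IrrCharacter G, (χ : G → ℂ) ((1 : P) : G) * conj ((χ : G → ℂ) 1) =
          (Nat.card (Subgroup.centralizer ({1} : Set G)) : ℂ) := h3
      rw [h4] at h2
      exact Nat.cast_ne_zero.2 Nat.card_pos.ne' h2.symm
    · intro p _ hp
      have h3 : ∑ χ : IrrCharacter G, (χ : G → ℂ) p * conj ((χ : G → ℂ) 1) = 0 := by
        rw [col_orth, if_neg]
        rw [isConj_one_left]
        exact fun h => hp (Subtype.ext h)
      rw [h3, mul_zero]
    · intro h
      exact absurd (mem_univ _) h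
  refine ⟨χ, ?_⟩
  obtain ⟨χ, n, ρ, hρ, rfl⟩ := χ
  -- the projection
  set E : (Fin n → ℂ) →ₗ[ℂ] (Fin n → ℂ) := ∑ p : P, (((τ p)⁻¹ : ℂˣ) : ℂ) • ρ p with hE
  have hE0 : E ≠ 0 := by
    intro h
    apply hχ
    have h1 : LinearMap.trace ℂ _ E = ∑ p : P, (((τ p)⁻¹ : ℂˣ) : ℂ) * ρ.character p := by
      rw [hE, map_sum]
      refine sum_congr rfl fun p _ => ?_
      rw [map_smul, smul_eq_mul]
      rfl
    rw [h, map_zero] at h1
    exact h1.symm
  obtain ⟨w, hw⟩ : ∃ w, E w ≠ 0 := by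
    by_contra hcon
    push Not at hcon
    exact hE0 (LinearMap.ext hcon)
  have hP : ∀ p : P, ρ p (E w) = ((τ p : ℂˣ) : ℂ) • E w := by
    intro p
    have h1 : ρ p (E w) = ∑ q : P, (((τ q)⁻¹ : ℂˣ) : ℂ) • ρ ((p * q : P) : G) w := by
      rw [hE, LinearMap.sum_apply, map_sum]
      refine sum_congr rfl fun q _ => ?_
      rw [LinearMap.smul_apply, map_smul, Subgroup.coe_mul, map_mul]
      rfl
    have h2 : E w = ∑ q : P, (((τ (p * q))⁻¹ : ℂˣ) : ℂ) • ρ ((p * q : P) : G) w := by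
      rw [hE, LinearMap.sum_apply]
      exact (Equiv.sum_comp (Equiv.mulLeft p) (fun q : P => (((τ q)⁻¹ : ℂˣ) : ℂ) • ρ (q : G) w)).symm
    rw [h1, h2, smul_sum]
    refine sum_congr rfl fun q _ => ?_
    rw [smul_smul, ← Units.val_mul, map_mul, mul_inv, mul_inv_cancel_left]
  have hdeg : charDegree ρ.character = Module.finrank ℂ (Fin n → ℂ) := by
    have h1 : ρ.character 1 = (Module.finrank ℂ (Fin n → ℂ) : ℂ) := Representation.char_one ρ
    unfold charDegree
    rw [h1]
    simp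
  refine ⟨?_, ?_⟩
  · change charDegree ρ.character ≤ _
    rw [hdeg]
    exact finrank_le ρ hρ P τ hw hP
  · obtain ⟨c, hc⟩ := Cfsg.Agent.Characters.Central.exists_smul_of_comm ρ hρ (ρ z) (fun g => by
      rw [← map_mul, ← map_mul, (Subgroup.mem_center_iff.1 hz g)])
    have h1 := hP ⟨z, hzP⟩
    change ρ z (E w) = _ at h1
    rw [hc, LinearMap.smul_apply, Module.End.one_apply] at h1
    have h2 : c = ((τ ⟨z, hzP⟩ : ℂˣ) : ℂ) := smul_left_injective ℂ hw h1
    change ρ.character z ≠ ρ.character 1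
    unfold Representation.character
    rw [hc, map_one, map_smul, smul_eq_mul, LinearMap.trace_one]
    intro h3
    have h4 : (Module.finrank ℂ (Fin n → ℂ) : ℂ) ≠ 0 := by
      rw [Nat.cast_ne_zero]
      intro h5
      have h6 : Nontrivial (Fin n → ℂ) := ⟨_, _, hw⟩
      exact (Module.finrank_pos (R := ℂ) (M := Fin n → ℂ)).ne' h5
    have h5 : c = 1 := mul_right_cancel₀ h4 (by rw [one_mul]; exact h3)
    apply hτ
    apply Units.ext
    rw [← h2, h5, Units.val_one]

end Cfsg.Agent.H725.IndDeg
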