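import Cfsg.Agent.H725.Cod

/-!
# Column orthogonality over a fixed central character (helper725)
-/

set_option autoImplicit false
set_option linter.unusedSectionVars false
set_option linter.dupNamespace false

namespace Cfsg.Agent.H725.Lam

open Cfsg Cfsg.Agent.H686.CharKit Cfsg.Agent.H677.CodPrime Cfsg.Agent.H677.CodMultiset
open Finset ComplexConjugate

universe u

variable {G : Type u} [Group G] [Finite G]

/-- a central element acts as a scalar -/
theorem exists_scalar (χ : IrrCharacter G) {z : G} (hz : z ∈ Subgroup.center G) {n : ℕ} (hn : z ^ n = 1) :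
    ∃ c : ℂ, c ^ n = 1 ∧ ∀ g : G, (χ : G → ℂ) (g * z) = c * (χ : G → ℂ) g := by
  obtain ⟨χ, m, ρ, hρ, rfl⟩ := χ
  obtain ⟨c, hc⟩ := Cfsg.Agent.Characters.Central.exists_smul_of_comm ρ hρ (ρ z) (fun g => by
    rw [← map_mul, ← map_mul, (Subgroup.mem_center_iff.1 hz g)])
  have h1 : ∀ g : G, ρ.character (g * z) = c * ρ.character g := by
    intro g
    unfold Representation.character
    rw [map_mul, hc, mul_smul_comm, mul_one, map_smul, smul_eq_mul]
  have h2 : ∀ k : ℕ, ρ.character (z ^ k) = c ^ k * ρ.character 1 := by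
    intro k
    induction k with
    | zero => rw [pow_zero, pow_zero, one_mul]
    | succ k ih => rw [pow_succ, h1, ih, pow_succ]; ring
  refine ⟨c, ?_, h1⟩
  have h3 := h2 n
  rw [hn] at h3
  have h4 : ρ.character 1 ≠ 0 := by
    have h5 : 0 < charDegree (ρ.character : G → ℂ) := charDegree_pos ⟨ρ.character, m, ρ, hρ, rfl⟩
    intro h6
    unfold charDegree at h5
    rw [h6] at h5
    simp at h5
  exact (mul_right_cancel₀ h4 (by rw [one_mul]; exact h3)).symm

theorem deg_ne (χ : IrrCharacter G) : (χ : G → ℂ) 1 ≠ 0 := by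
  rw [← charDegree_irr]
  exact Nat.cast_ne_zero.2 (charDegree_pos χ).ne'

/-- the characters over the central character `z ↦ c` -/
noncomputable def Lam [Fintype (IrrCharacter G)] (z : G) (c : ℂ) : Finset (IrrCharacter G) :=
  haveI := Classical.decPred fun χ : IrrCharacter G => (χ : G → ℂ) z = c * (χ : G → ℂ) 1
  univ.filter fun χ => (χ : G → ℂ) z = c * (χ : G → ℂ) 1

theorem mem_Lam [Fintype (IrrCharacter G)] {z : G} {c : ℂ} {χ : IrrCharacter G} :
    χ ∈ Lam z c ↔ (χ : G → ℂ) z = c * (χ : G → ℂ) 1 := by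
  unfold Lam
  rw [mem_filter]
  exact ⟨fun h => h.2, fun h => ⟨mem_univ _, h⟩⟩

theorem scalar_pow {χ : IrrCharacter G} {z : G} {c : ℂ}
    (h : ∀ g : G, (χ : G → ℂ) (g * z) = c * (χ : G → ℂ) g) (k : ℕ) (g : G) :
    (χ : G → ℂ) (g * z ^ k) = c ^ k * (χ : G → ℂ) g := by
  induction k with
  | zero => rw [pow_zero, pow_zero, one_mul, mul_one]
  | succ k ih => rw [pow_succ, ← mul_assoc, h, ih, pow_succ]; ring

/-- the projection on the characters over `c` -/
theorem sum_Lam [Fintype (IrrCharacter G)] {z : G} (hz : z ∈ Subgroup.center G) {n : ℕ} (hn : z ^ n = 1)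
    (hn0 : n ≠ 0) {c : ℂ} (hc : c ^ n = 1) (g : G) (F : IrrCharacter G → ℂ) :
    ∑ χ ∈ Lam z c, (χ : G → ℂ) g * F χ =
      (n : ℂ)⁻¹ * ∑ k ∈ range n, (c ^ k)⁻¹ * ∑ χ : IrrCharacter G, (χ : G → ℂ) (g * z ^ k) * F χ := by
  classical
  have hn' : (n : ℂ) ≠ 0 := Nat.cast_ne_zero.2 hn0
  have hc0 : c ≠ 0 := by
    rintro rfl
    rw [zero_pow hn0] at hc
    exact zero_ne_one hc
  have h1 : ∑ k ∈ range n, (c ^ k)⁻¹ * ∑ χ : IrrCharacter G, (χ : G → ℂ) (g * z ^ k) * F χ =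
      ∑ χ : IrrCharacter G, ∑ k ∈ range n, (c ^ k)⁻¹ * ((χ : G → ℂ) (g * z ^ k) * F χ) := by
    rw [sum_comm]
    exact sum_congr rfl fun k _ => by rw [mul_sum]
  have h2 : ∀ χ : IrrCharacter G, ∑ k ∈ range n, (c ^ k)⁻¹ * ((χ : G → ℂ) (g * z ^ k) * F χ) =
      if χ ∈ Lam z c then (n : ℂ) * ((χ : G → ℂ) g * F χ) else 0 := by
    intro χ
    obtain ⟨a, ha, hag⟩ := exists_scalar χ hz hn
    have h3 : ∀ k ∈ range n, (c ^ k)⁻¹ * ((χ : G → ℂ) (g * z ^ k) * F χ) = (a / c) ^ k * ((χ : G → ℂ) g * F χ) := by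
      intro k _
      rw [scalar_pow hag, div_pow]
      field_simp
    rw [sum_congr rfl h3, ← sum_mul]
    have h4 : χ ∈ Lam z c ↔ a = c := by
      rw [mem_Lam]
      have := hag 1
      rw [one_mul] at this
      rw [this]
      exact mul_left_inj' (deg_ne χ)
    by_cases hac : a = c
    · rw [if_pos (h4.2 hac), hac, div_self hc0]
      simp
    · rw [if_neg (fun h => hac (h4.1 h))]
      have h5 : a / c ≠ 1 := fun h => hac ((div_eq_one_iff_eq hc0).1 h)
      have h6 := mul_geom_sum (a / c) n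
      rw [div_pow, ha, hc, div_one, sub_self] at h6
      have h7 : ∑ k ∈ range n, (a / c) ^ k = 0 := by
        rcases mul_eq_zero.1 h6 with h | h
        · exact absurd (sub_eq_zero.1 h) h5
        · exact h
      rw [h7, zero_mul]
  rw [h1, sum_congr rfl fun χ _ => h2 χ, ← sum_filter]
  rw [mul_sum]
  refine sum_congr ?_ fun χ _ => by field_simp
  ext χ
  rw [mem_filter]
  exact ⟨fun h => ⟨mem_univ _, h⟩, fun h => h.2⟩

/-- **Column orthogonality over `c`.** -/
theorem orth [Fintype (IrrCharacter G)] {z : G} (hz : z ∈ Subgroup.center G) {n : ℕ} (hn : z ^ n = 1)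
    (hn0 : n ≠ 0) {c : ℂ} (hc : c ^ n = 1) (g h : G) (hk : ∀ k < n, k ≠ 0 → ¬ IsConj (g * z ^ k) h) (hgh : IsConj g h) :
    ∑ χ ∈ Lam z c, (χ : G → ℂ) g * conj ((χ : G → ℂ) h) =
      (n : ℂ)⁻¹ * (Nat.card (Subgroup.centralizer ({h} : Set G)) : ℂ) := by
  classical
  rw [sum_Lam hz hn hn0 hc g fun χ => conj ((χ : G → ℂ) h)]
  congr 1
  rw [sum_eq_single 0]
  · rw [col_orth, pow_zero, pow_zero, mul_one, if_pos hgh]
    simp
  · intro k hk1 hk0
    rw [col_orth, if_neg (hk k (mem_range.1 hk1) hk0), mul_zero]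
  · intro h
    exact absurd (mem_range.2 (Nat.pos_of_ne_zero hn0)) h

theorem orth_zero [Fintype (IrrCharacter G)] {z : G} (hz : z ∈ Subgroup.center G) {n : ℕ} (hn : z ^ n = 1)
    (hn0 : n ≠ 0) {c : ℂ} (hc : c ^ n = 1) (g h : G) (hk : ∀ k < n, ¬ IsConj (g * z ^ k) h) :
    ∑ χ ∈ Lam z c, (χ : G → ℂ) g * conj ((χ : G → ℂ) h) = 0 := by
  classical
  rw [sum_Lam hz hn hn0 hc g fun χ => conj ((χ : G → ℂ) h)]
  rw [sum_eq_zero, mul_zero]
  intro k hk1
  rw [col_orth, if_neg (hk k (mem_range.1 hk1)), mul_zero]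

end Cfsg.Agent.H725.Lam
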