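import Mathlib

/-!
# Prime powers dividing `(q² - 1)(q³ - 1)` (helper725)
-/

set_option autoImplicit false

namespace Cfsg.Agent.H725.RPart

theorem fact_form {q : ℕ} (hq : 1 ≤ q) : (q ^ 2 - 1) * (q ^ 3 - 1) = (q - 1) ^ 2 * (q + 1) * (q ^ 2 + q + 1) := by
  obtain ⟨a, rfl⟩ : ∃ a, q = a + 1 := ⟨q - 1, by omega⟩
  have e1 : (a + 1) ^ 2 - 1 = a * (a + 2) := by
    have : (a + 1) ^ 2 = a * (a + 2) + 1 := by ring
    rw [this, Nat.add_sub_cancel]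
  have e2 : (a + 1) ^ 3 - 1 = a * (a ^ 2 + 3 * a + 3) := by
    have : (a + 1) ^ 3 = a * (a ^ 2 + 3 * a + 3) + 1 := by ring
    rw [this, Nat.add_sub_cancel]
  rw [e1, e2, Nat.add_sub_cancel]
  ring

theorem cop_of_not_dvd {r m x : ℕ} (hr : r.Prime) (h : ¬ r ∣ x) : Nat.Coprime (r ^ m) x :=
  Nat.Coprime.pow_left m ((Nat.Prime.coprime_iff_not_dvd hr).2 h)

/-- the possible prime powers -/
theorem cases {q r m : ℕ} (hq : 2 ≤ q) (hr : r.Prime) (h : r ^ m ∣ (q ^ 2 - 1) * (q ^ 3 - 1)) :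
    (r = 2 ∧ r ^ m ∣ 4 * (q + 1)) ∨ (r = 2 ∧ 4 ∣ q - 1 ∧ r ^ m ∣ 2 * (q - 1) ^ 2) ∨
      (r = 3 ∧ 3 ∣ q - 1 ∧ r ^ m ∣ 3 * (q - 1) ^ 2) ∨ (r ≠ 2 ∧ r ≠ 3 ∧ r ∣ q - 1 ∧ r ^ m ∣ (q - 1) ^ 2) ∨
      (r ≠ 2 ∧ r ^ m ∣ q + 1) ∨ (r ≠ 2 ∧ ¬ r ∣ q - 1 ∧ r ^ m ∣ q ^ 2 + q + 1) := by
  rw [fact_form (by omega)] at h
  obtain ⟨a, rfl⟩ : ∃ a, q = a + 1 := ⟨q - 1, by omega⟩
  rw [Nat.add_sub_cancel] at h ⊢
  have ha : 1 ≤ a := by omega
  have ec : (a + 1) ^ 2 + (a + 1) + 1 = a ^ 2 + 3 * a + 3 := by ring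
  rw [ec] at h ⊢
  by_cases h2 : r = 2
  · subst h2
    have hc : ¬ 2 ∣ a ^ 2 + 3 * a + 3 := by
      intro hd
      have h1 : a ^ 2 + 3 * a + 3 = a * (a + 1) + 2 * (a + 1) + 1 := by ring
      have h2 : 2 ∣ a * (a + 1) := (Nat.even_mul_succ_self a).two_dvd
      omega
    have h1 := (cop_of_not_dvd (m := m) hr hc).dvd_of_dvd_mul_right h
    by_cases h4 : 4 ∣ a
    · right; left
      refine ⟨rfl, h4, ?_⟩
      obtain ⟨k, rfl⟩ := h4
      have h5 : (4 * k) ^ 2 * (4 * k + 1 + 1) = 2 * (4 * k) ^ 2 * (2 * k + 1) := by ring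
      rw [h5] at h1
      exact (cop_of_not_dvd (m := m) hr (by omega)).dvd_of_dvd_mul_right h1
    · left
      refine ⟨rfl, ?_⟩
      by_cases h6 : 2 ∣ a
      · obtain ⟨k, rfl⟩ := h6
        have h7 : ¬ 2 ∣ k := by omega
        have h8 : (2 * k) ^ 2 * (2 * k + 1 + 1) = 4 * (2 * k + 1 + 1) * k ^ 2 := by ring
        rw [h8] at h1
        exact (cop_of_not_dvd (m := m) hr (fun hd => h7 (Nat.prime_two.dvd_of_dvd_pow hd))).dvd_of_dvd_mul_right h1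
      · have h7 : ¬ 2 ∣ a ^ 2 * (a + 1 + 1) := by
          rw [Nat.prime_two.dvd_mul]
          rintro (h8 | h8)
          · exact h6 (Nat.prime_two.dvd_of_dvd_pow h8)
          · omega
        have h8 := (cop_of_not_dvd (m := m) hr h7).eq_one_of_dvd h1
        rw [h8]
        exact one_dvd _
  right; right
  by_cases hra : r ∣ a
  · have hb : ¬ r ∣ a + 1 + 1 := by
      intro hd
      have h1 : r ∣ 2 := by
        have := (Nat.dvd_add_right hra).1 (show r ∣ a + 2 by simpa [add_assoc] using hd)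
        exact this
      exact h2 ((Nat.prime_dvd_prime_iff_eq hr Nat.prime_two).1 h1)
    have h1 : r ^ m ∣ a ^ 2 * (a ^ 2 + 3 * a + 3) := by
      have : a ^ 2 * (a + 1 + 1) * (a ^ 2 + 3 * a + 3) = a ^ 2 * (a ^ 2 + 3 * a + 3) * (a + 1 + 1) := by ring
      rw [this] at h
      exact (cop_of_not_dvd (m := m) hr hb).dvd_of_dvd_mul_right h
    by_cases h3 : r = 3
    · left
      subst h3
      refine ⟨rfl, hra, ?_⟩
      obtain ⟨k, rfl⟩ := hra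
      have h5 : (3 * k) ^ 2 * ((3 * k) ^ 2 + 3 * (3 * k) + 3) = 3 * (3 * k) ^ 2 * (3 * k ^ 2 + 3 * k + 1) := by ring
      rw [h5] at h1
      exact (cop_of_not_dvd (m := m) hr (by
        intro hd
        have : 3 * k ^ 2 + 3 * k + 1 = 3 * (k ^ 2 + k) + 1 := by ring
        omega)).dvd_of_dvd_mul_right h1
    · right; left
      refine ⟨h2, h3, hra, ?_⟩
      refine (cop_of_not_dvd (m := m) hr ?_).dvd_of_dvd_mul_right h1
      intro hd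
      have h5 : a ^ 2 + 3 * a + 3 = a * (a + 3) + 3 := by ring
      rw [h5] at hd
      have h6 := (Nat.dvd_add_right (hra.mul_right (a + 3))).1 hd
      exact h3 ((Nat.prime_dvd_prime_iff_eq hr Nat.prime_three).1 h6)
  · right; right
    have h1 : r ^ m ∣ (a + 1 + 1) * (a ^ 2 + 3 * a + 3) := by
      have : a ^ 2 * (a + 1 + 1) * (a ^ 2 + 3 * a + 3) = (a + 1 + 1) * (a ^ 2 + 3 * a + 3) * a ^ 2 := by ring
      rw [this] at h
      exact (cop_of_not_dvd (m := m) hr (fun hd => hra (hr.dvd_of_dvd_pow hd))).dvd_of_dvd_mul_right h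
    by_cases hb : r ∣ a + 1 + 1
    · left
      refine ⟨h2, (cop_of_not_dvd (m := m) hr ?_).dvd_of_dvd_mul_right h1⟩
      intro hd
      have h5 : a ^ 2 + 3 * a + 3 = (a + 1 + 1) * (a + 1) + 1 := by ring
      rw [h5] at hd
      have h6 := (Nat.dvd_add_right (hb.mul_right (a + 1))).1 hd
      exact hr.one_lt.ne' (Nat.dvd_one.1 h6)
    · right
      exact ⟨h2, hra, (cop_of_not_dvd (m := m) hr hb).dvd_of_dvd_mul_left h1⟩

/-- a crude bound -/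
theorem lt_pow_four {q r m : ℕ} (hq : 2 ≤ q) (hr : r.Prime) (h : r ^ m ∣ (q ^ 2 - 1) * (q ^ 3 - 1)) :
    r ^ m < (q + 1) ^ 4 := by
  have h0 : (q - 1) ^ 2 ≤ q ^ 2 := Nat.pow_le_pow_left (by omega) 2
  have h0' : 0 < (q - 1) ^ 2 := Nat.pow_pos (by omega)
  have h1 : 4 ≤ q ^ 2 := by nlinarith
  have h2 : (q + 1) ^ 4 = q ^ 2 * q ^ 2 + 4 * q ^ 2 * q + 6 * q ^ 2 + 4 * q + 1 := by ring
  have h3 : 4 * q ^ 2 ≤ q ^ 2 * q ^ 2 := Nat.mul_le_mul_right _ h1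
  have h4 : q ^ 2 ≤ 4 * q ^ 2 * q := by nlinarith
  rcases cases hq hr h with ⟨-, h5⟩ | ⟨-, -, h5⟩ | ⟨-, -, h5⟩ | ⟨-, -, -, h5⟩ | ⟨-, h5⟩ | ⟨-, -, h5⟩
  · have := Nat.le_of_dvd (by omega) h5
    omega
  · have := Nat.le_of_dvd (by omega) h5
    omega
  · have := Nat.le_of_dvd (by omega) h5
    omega
  · have := Nat.le_of_dvd (by omega) h5
    omega
  · have := Nat.le_of_dvd (by omega) h5
    omega
  · have := Nat.le_of_dvd (by omega) h5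
    omega

end Cfsg.Agent.H725.RPart
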