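import Cfsg.Agent.H725.AbBound
import Cfsg.Agent.H725.SLFacts
import Cfsg.Agent.H725.RPart
import Cfsg.Agent.Transfer.ElemAbAut
import Cfsg.Agent.Lib.Zsigmondy
import Cfsg.Agent.H677.PslThree

/-!
# `SL₂(q)` and `SL₃(q)` on small modules (helper725)

`noAb_two`, `noAb_three` : no elementary abelian group `V` with `|V| ^ 2` dividing `|L|` is a faithful module for a
central quotient of `SL₂(q)`, `SL₃(q)`.
-/

set_option autoImplicit false

namespace Cfsg.Agent.H725.NoAbSL

open Cfsg Cfsg.Agent.H725.Cod Cfsg.Agent.H725.SLFacts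

universe u v

section general
variable {H : Type v} [Group H] {V : Type u} [Group V] [Finite V]

/-- cross characteristic -/
theorem cross {r p k : ℕ} (hr : r.Prime) (hp : p.Prime) (hne : p ≠ r) (hcomm : ∀ a b : V, a * b = b * a)
    (hpow : ∀ v : V, v ^ r = 1) (φ : H →* MulAut V) (hk : φ.ker ≤ Subgroup.center H) {A : Type*} [CommGroup A]
    [Finite A] (ι : A →* H) (hι : ∀ a, ι a ∈ Subgroup.center H → a = 1) (hA : ∀ a : A, a ^ p = 1)
    (hc : Nat.card A = p ^ k) : (p + 1) ^ k ≤ Nat.card V := by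
  have := Fact.mk hr
  have := Fact.mk hp
  let inst : CommGroup V := { (inferInstance : Group V) with mul_comm := hcomm }
  refine AbBound.card_ge (p := p) (q := r) hne k A V (φ.comp ι) ?_ hA ?_ hc
  · rw [injective_iff_map_eq_one]
    intro a ha
    exact hι a (hk ha)
  · intro v
    exact ⟨1, by rw [pow_one]; exact hpow v⟩

theorem index_dvd {r n : ℕ} (hr : r.Prime) (hcomm : ∀ a b : V, a * b = b * a) (hpow : ∀ v : V, v ^ r = 1)
    (φ : H →* MulAut V) (hk : φ.ker ≤ Subgroup.center H) (hn : Nat.card V = r ^ n) :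
    (Subgroup.center H).index ∣ ∏ i : Fin n, (r ^ n - r ^ (i : ℕ)) := by
  have := Fact.mk hr
  rw [← Transfer.ElemAbAut.card_mulAut r n hcomm hpow hn]
  refine (Subgroup.index_dvd_of_le hk).trans ?_
  rw [Subgroup.index_ker]
  exact Subgroup.card_subgroup_dvd_card _

theorem exists_card {r : ℕ} (hr : r.Prime) (hpow : ∀ v : V, v ^ r = 1) : ∃ n, Nat.card V = r ^ n := by
  have := Fact.mk hr
  have h1 : IsPGroup r V := fun v => ⟨1, by rw [pow_one]; exact hpow v⟩
  exact IsPGroup.iff_card.1 h1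

/-- a prime dividing the order of the linear group -/
theorem exists_dvd {r n s : ℕ} (hs : s.Prime) (hsr : ¬ s ∣ r) (h : s ∣ ∏ i : Fin n, (r ^ n - r ^ (i : ℕ))) :
    ∃ j, 1 ≤ j ∧ j ≤ n ∧ s ∣ r ^ j - 1 := by
  rw [Prime.dvd_finsetProd_iff hs.prime] at h
  obtain ⟨i, -, hi⟩ := h
  refine ⟨n - i, by have := i.2; omega, by omega, ?_⟩
  have h1 : r ^ n - r ^ (i : ℕ) = r ^ (i : ℕ) * (r ^ (n - i) - 1) := by
    rw [Nat.mul_sub, mul_one, ← pow_add, Nat.add_sub_cancel' i.2.le]
  rw [h1, hs.dvd_mul] at hi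
  exact hi.resolve_left fun h => hsr (hs.dvd_of_dvd_pow h)

end general

/-! ### `SL₂(q)` -/

section two
variable {F : Type} [Field F]

/-- upper unitriangular matrices -/
def up (x : F) : Matrix.SpecialLinearGroup (Fin 2) F := ⟨!![1, x; 0, 1], by simp⟩

theorem up_mul (x y : F) : up x * up y = up (x + y) := by
  apply Subtype.ext
  change !![1, x; 0, 1] * !![1, y; 0, 1] = !![1, x + y; 0, 1]
  ext i j
  fin_cases i <;> fin_cases j <;> simp [Matrix.mul_apply, Fin.sum_univ_two, add_comm]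

theorem up_zero : up (0 : F) = 1 := by
  apply Subtype.ext
  change !![1, (0 : F); 0, 1] = 1
  ext i j
  fin_cases i <;> fin_cases j <;> simp

/-- `up` as a homomorphism -/
def upHom : Multiplicative F →* Matrix.SpecialLinearGroup (Fin 2) F where
  toFun v := up v.toAdd
  map_one' := up_zero
  map_mul' v w := (up_mul v.toAdd w.toAdd).symm

theorem up_center {x : F} (h : up x ∈ Subgroup.center (Matrix.SpecialLinearGroup (Fin 2) F)) : x = 0 := by
  rw [Matrix.SpecialLinearGroup.mem_center_iff] at h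
  obtain ⟨r, _, hr⟩ := h
  have h1 := congrFun (congrFun hr 0) 1
  have h3 : ((up x : Matrix.SpecialLinearGroup (Fin 2) F) : Matrix (Fin 2) (Fin 2) F) = !![1, x; 0, 1] := rfl
  rw [h3] at h1
  simp [Matrix.scalar_apply] at h1
  exact h1.symm

end two

theorem pow_char {A : Type*} [AddCommGroup A] {p : ℕ} (h : ∀ a : A, p • a = 0) (a : Multiplicative A) :
    a ^ p = 1 := h a.toAdd

theorem cop_pow {p f k : ℕ} (hp : p.Prime) (hf : 1 ≤ f) (hk : k ≠ 0) : Nat.Coprime p ((p ^ f) ^ k - 1) := by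
  rw [Nat.Prime.coprime_iff_not_dvd hp]
  intro h
  have h1 : 1 ≤ (p ^ f) ^ k := Nat.one_le_pow _ _ (Nat.pow_pos hp.pos)
  have h2 : p ∣ (p ^ f) ^ k := dvd_pow (dvd_pow_self p (by omega)) hk
  have h3 := (Nat.dvd_sub h2 h)
  rw [Nat.sub_sub_self h1] at h3
  exact hp.one_lt.ne' (Nat.dvd_one.1 h3)

theorem noAb_two {F : Type} [Field F] [Fintype F] (h4 : 4 < Fintype.card F) :
    NoAb.{u, 0} (Matrix.SpecialLinearGroup (Fin 2) F) := by
  intro V _ _ _ r hr hcomm hpow φ hk hdvd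
  obtain ⟨p, f, hp, hf, hF⟩ := exists_pp F
  have hchar := charP_of hp hf hF
  obtain ⟨n, hn⟩ := exists_card hr hpow
  have hidx := index_two (F := F)
  rw [hF] at hidx h4
  have hn0 : n ≠ 0 := by
    rintro rfl
    rw [pow_zero] at hn
    exact (Finite.one_lt_card (α := V)).ne' hn
  have h1 : Nat.card V ^ 2 ∣ p ^ f * ((p ^ f) ^ 2 - 1) := by
    rw [← hidx]
    exact hdvd.mul_left _
  rw [hn, ← pow_mul] at h1
  by_cases hrp : r = p
  · subst hrp
    have h2 : r ^ (n * 2) ∣ r ^ f :=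
      (Nat.Coprime.pow_left (n * 2) (cop_pow hr hf (by norm_num))).dvd_of_dvd_mul_right h1
    have h3 : n * 2 ≤ f := (Nat.pow_dvd_pow_iff_le_right hr.one_lt).1 h2
    have h5 := index_dvd hr hcomm hpow φ hk hn
    by_cases h6 : r = 2 ∧ 2 * f = 6
    · obtain ⟨rfl, h6⟩ := h6
      obtain rfl : f = 3 := by omega
      obtain rfl : n = 1 := by omega
      norm_num at hidx
      rw [hidx] at h5
      revert h5
      decide
    · obtain ⟨s, hs, hs1, -, hs2⟩ := Lib.Zsigmondy.exists_primitive (a := r) (n := 2 * f) hr.two_le (by omega)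
        (by omega) h6
      have h7 : s ∣ Nat.gcd 2 (r ^ f - 1) * (Subgroup.center (Matrix.SpecialLinearGroup (Fin 2) F)).index := by
        rw [hidx, ← pow_mul, mul_comm f 2]
        exact ((hs1 _).2 dvd_rfl).mul_left _
      rcases hs.dvd_mul.1 h7 with h8 | h8
      · have h9 := (hs1 _).1 (h8.trans (Nat.gcd_dvd_right _ _))
        have := Nat.le_of_dvd (by omega) h9
        omega
      · obtain ⟨j, hj1, hj2, hj3⟩ := exists_dvd hs hs2 (h8.trans h5)
        have h9 := Nat.le_of_dvd (by omega) ((hs1 _).1 hj3)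
        omega
  · have h2 := cross (k := f) hr hp (Ne.symm hrp) hcomm hpow φ hk (upHom (F := F))
      (fun a ha => up_center (F := F) (x := a.toAdd) ha)
      (pow_char fun a => by rw [nsmul_eq_mul, CharP.cast_eq_zero, zero_mul])
      (by rw [Nat.card_congr Multiplicative.toAdd, Nat.card_eq_fintype_card, hF])
    have h3 : r ^ (n * 2) ∣ (p ^ f) ^ 2 - 1 := by
      refine (Nat.Coprime.pow (n * 2) f ?_).dvd_of_dvd_mul_left h1
      exact (Nat.coprime_primes hr hp).2 hrp
    have h5 : r ^ (n * 2) ≤ (p ^ f) ^ 2 - 1 := Nat.le_of_dvd (by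
      have : 1 < (p ^ f) ^ 2 := Nat.one_lt_pow (by norm_num) (by omega)
      omega) h3
    rw [pow_mul, ← hn] at h5
    have h6 : p ^ f ≤ (p + 1) ^ f := Nat.pow_le_pow_left (by omega) f
    have h7 : (p ^ f) ^ 2 ≤ Nat.card V ^ 2 := Nat.pow_le_pow_left (h6.trans h2) 2
    have : 0 < (p ^ f) ^ 2 := Nat.pow_pos (by omega)
    omega

theorem noAb_three {F : Type} [Field F] [Fintype F] : NoAb.{u, 0} (Matrix.SpecialLinearGroup (Fin 3) F) := by
  intro V _ _ _ r hr hcomm hpow φ hk hdvd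
  obtain ⟨p, f, hp, hf, hF⟩ := exists_pp F
  have hchar := charP_of hp hf hF
  obtain ⟨n, hn⟩ := exists_card hr hpow
  have hidx := index_three (F := F)
  have hq : 2 ≤ p ^ f := by rw [← hF]; exact Fintype.one_lt_card
  rw [hF] at hidx
  have hn0 : n ≠ 0 := by
    rintro rfl
    rw [pow_zero] at hn
    exact (Finite.one_lt_card (α := V)).ne' hn
  have h1 : Nat.card V ^ 2 ∣ (p ^ f) ^ 3 * (((p ^ f) ^ 2 - 1) * ((p ^ f) ^ 3 - 1)) := by
    rw [← mul_assoc, ← hidx]
    exact hdvd.mul_left _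
  rw [hn, ← pow_mul] at h1
  by_cases hrp : r = p
  · subst hrp
    have h2 : r ^ (n * 2) ∣ (r ^ f) ^ 3 :=
      (Nat.Coprime.pow_left (n * 2) (Nat.Coprime.mul_right (cop_pow hr hf (by norm_num))
        (cop_pow hr hf (by norm_num)))).dvd_of_dvd_mul_right h1
    rw [← pow_mul] at h2
    have h3 : n * 2 ≤ f * 3 := (Nat.pow_dvd_pow_iff_le_right hr.one_lt).1 h2
    have h5 := index_dvd hr hcomm hpow φ hk hn
    by_cases h6 : r = 2 ∧ 3 * f = 6
    · obtain ⟨rfl, h6⟩ := h6
      obtain rfl : f = 2 := by omega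
      norm_num at hidx
      have h7 : (Subgroup.center (Matrix.SpecialLinearGroup (Fin 3) F)).index = 20160 := by omega
      rw [h7] at h5
      have hn3 : n = 1 ∨ n = 2 ∨ n = 3 := by omega
      rcases hn3 with rfl | rfl | rfl <;> (revert h5; decide)
    · obtain ⟨s, hs, hs1, -, hs2⟩ := Lib.Zsigmondy.exists_primitive (a := r) (n := 3 * f) hr.two_le (by omega)
        (by omega) h6
      have h7 : s ∣ Nat.gcd 3 (r ^ f - 1) * (Subgroup.center (Matrix.SpecialLinearGroup (Fin 3) F)).index := by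
        rw [hidx, ← pow_mul r f 3, mul_comm f 3]
        exact ((hs1 _).2 dvd_rfl).mul_left _
      rcases hs.dvd_mul.1 h7 with h8 | h8
      · have h9 := (hs1 _).1 (h8.trans (Nat.gcd_dvd_right _ _))
        have := Nat.le_of_dvd (by omega) h9
        omega
      · obtain ⟨j, hj1, hj2, hj3⟩ := exists_dvd hs hs2 (h8.trans h5)
        have h9 := Nat.le_of_dvd (by omega) ((hs1 _).1 hj3)
        omega
  · have h2 := cross (k := f * 2) hr hp (Ne.symm hrp) hcomm hpow φ hk (H677.PslThree.tvHom (F := F))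
      (fun a ha => H677.PslThree.tv_center (F := F) (v := a.toAdd) ha)
      (pow_char fun a => by
        ext
        · rw [Prod.smul_fst, nsmul_eq_mul, CharP.cast_eq_zero, zero_mul]; rfl
        · rw [Prod.smul_snd, nsmul_eq_mul, CharP.cast_eq_zero, zero_mul]; rfl)
      (by rw [Nat.card_congr Multiplicative.toAdd, Nat.card_prod, Nat.card_eq_fintype_card, hF]; ring)
    have h3 : r ^ (n * 2) ∣ ((p ^ f) ^ 2 - 1) * ((p ^ f) ^ 3 - 1) := by
      refine (Nat.Coprime.pow_left (n * 2) (Nat.Coprime.pow_right 3 (Nat.Coprime.pow_right f ?_))).dvd_of_dvd_mul_left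
        h1
      exact (Nat.coprime_primes hr hp).2 hrp
    have h5 := RPart.lt_pow_four hq hr h3
    rw [pow_mul, ← hn] at h5
    have h6 : p ^ f + 1 ≤ (p + 1) ^ f := by
      obtain ⟨k, rfl⟩ : ∃ k, f = k + 1 := ⟨f - 1, by omega⟩
      have e1 : p ^ k ≤ (p + 1) ^ k := Nat.pow_le_pow_left (by omega) k
      have e2 : 1 ≤ (p + 1) ^ k := Nat.one_le_pow _ _ (by omega)
      calc p ^ (k + 1) + 1 = p ^ k * p + 1 := by rw [pow_succ]
        _ ≤ (p + 1) ^ k * p + (p + 1) ^ k := Nat.add_le_add (Nat.mul_le_mul_right _ e1) e2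
        _ = (p + 1) ^ (k + 1) := by ring
    have h7 : (p ^ f + 1) ^ 4 ≤ Nat.card V ^ 2 := by
      calc (p ^ f + 1) ^ 4 ≤ ((p + 1) ^ f) ^ 4 := Nat.pow_le_pow_left h6 4
        _ = ((p + 1) ^ (f * 2)) ^ 2 := by ring
        _ ≤ Nat.card V ^ 2 := Nat.pow_le_pow_left h2 2
    omega

end Cfsg.Agent.H725.NoAbSL
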