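import Cfsg.Agent.H725.IndDeg
import Cfsg.Agent.H725.CenSmall

/-!
# A faithful character of `SL₃(q)` of degree at most `q² + q + 1` (helper725)
-/

set_option autoImplicit false

namespace Cfsg.Agent.H725.Parab

open Cfsg Cfsg.Agent.H725.Cod Cfsg.Agent.H725.Lam Cfsg.Agent.H725.SLFacts Cfsg.Agent.H725.CenGen
open Cfsg.Agent.H686.CharKit Cfsg.Agent.H677.CodPrime Cfsg.Agent.H677.CodMultiset Matrix

universe u

variable {F : Type u} [Field F]

/-- the parabolic subgroup -/
def P (F : Type u) [Field F] : Subgroup (SpecialLinearGroup (Fin 3) F) where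
  carrier := {g | g.1 1 0 = 0 ∧ g.1 2 0 = 0}
  one_mem' := by
    constructor <;> rfl
  mul_mem' := by
    rintro a b ⟨ha1, ha2⟩ ⟨hb1, hb2⟩
    constructor
    · change (a.1 * b.1) 1 0 = 0
      rw [Matrix.mul_apply, Fin.sum_univ_three, ha1, hb1, hb2]
      ring
    · change (a.1 * b.1) 2 0 = 0
      rw [Matrix.mul_apply, Fin.sum_univ_three, ha2, hb1, hb2]
      ring
  inv_mem' := by
    rintro a ⟨ha1, ha2⟩
    have h00 : (a.1 * (a⁻¹).1) = 1 := by
      have := congrArg Subtype.val (mul_inv_cancel a)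
      exact this
    have hinv : ((a⁻¹).1 * a.1) = 1 := by
      have := congrArg Subtype.val (inv_mul_cancel a)
      exact this
    have e0 : (a⁻¹).1 0 0 * a.1 0 0 = 1 := by
      have := congrFun (congrFun hinv 0) 0
      rw [Matrix.mul_apply, Fin.sum_univ_three, ha1, ha2] at this
      simpa using this
    have e1 : (a⁻¹).1 1 0 * a.1 0 0 = 0 := by
      have := congrFun (congrFun hinv 1) 0
      rw [Matrix.mul_apply, Fin.sum_univ_three, ha1, ha2] at this
      simpa using this
    have e2 : (a⁻¹).1 2 0 * a.1 0 0 = 0 := by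
      have := congrFun (congrFun hinv 2) 0
      rw [Matrix.mul_apply, Fin.sum_univ_three, ha1, ha2] at this
      simpa using this
    have hne : a.1 0 0 ≠ 0 := right_ne_zero_of_mul_eq_one e0
    exact ⟨(mul_eq_zero.1 e1).resolve_right hne, (mul_eq_zero.1 e2).resolve_right hne⟩

theorem mem_P {g : SpecialLinearGroup (Fin 3) F} : g ∈ P F ↔ g.1 1 0 = 0 ∧ g.1 2 0 = 0 := Iff.rfl

theorem P_mul (a b : P F) : (a * b : P F).1.1 0 0 = a.1.1 0 0 * b.1.1 0 0 := by
  change (a.1.1 * b.1.1) 0 0 = _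
  rw [Matrix.mul_apply, Fin.sum_univ_three, b.2.1, b.2.2]
  ring

/-- the eigenvalue -/
def lam : P F →* Fˣ where
  toFun a := ⟨a.1.1 0 0, (a⁻¹).1.1 0 0, by
    rw [← P_mul, mul_inv_cancel]; rfl, by
    rw [← P_mul, inv_mul_cancel]; rfl⟩
  map_one' := Units.ext rfl
  map_mul' a b := Units.ext (P_mul a b)

open Classical in
/-- the normal form of the first column -/
noncomputable def nf (g : SpecialLinearGroup (Fin 3) F) : (F × F) ⊕ (F ⊕ Unit) :=
  if g.1 0 0 ≠ 0 then Sum.inl (g.1 1 0 / g.1 0 0, g.1 2 0 / g.1 0 0)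
  else if g.1 1 0 ≠ 0 then Sum.inr (Sum.inl (g.1 2 0 / g.1 1 0)) else Sum.inr (Sum.inr ())

theorem col_ne (g : SpecialLinearGroup (Fin 3) F) : ¬ (g.1 0 0 = 0 ∧ g.1 1 0 = 0 ∧ g.1 2 0 = 0) := by
  rintro ⟨h0, h1, h2⟩
  have h := g.2
  rw [Matrix.det_fin_three, h0, h1, h2] at h
  simp at h

theorem mem_of_prop {g h : SpecialLinearGroup (Fin 3) F} {c : F} (h0 : h.1 0 0 = c * g.1 0 0)
    (h1 : h.1 1 0 = c * g.1 1 0) (h2 : h.1 2 0 = c * g.1 2 0) : g⁻¹ * h ∈ P F := by
  have hinv : ((g⁻¹).1 * g.1) = 1 := congrArg Subtype.val (inv_mul_cancel g)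
  constructor
  · change ((g⁻¹).1 * h.1) 1 0 = 0
    have := congrFun (congrFun hinv 1) 0
    rw [Matrix.mul_apply, Fin.sum_univ_three] at this
    rw [Matrix.mul_apply, Fin.sum_univ_three, h0, h1, h2]
    have h3 : (1 : Matrix (Fin 3) (Fin 3) F) 1 0 = 0 := rfl
    rw [h3] at this
    linear_combination c * this
  · change ((g⁻¹).1 * h.1) 2 0 = 0
    have := congrFun (congrFun hinv 2) 0
    rw [Matrix.mul_apply, Fin.sum_univ_three] at this
    rw [Matrix.mul_apply, Fin.sum_univ_three, h0, h1, h2]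
    have h3 : (1 : Matrix (Fin 3) (Fin 3) F) 2 0 = 0 := rfl
    rw [h3] at this
    linear_combination c * this

theorem mem_of_nf {g h : SpecialLinearGroup (Fin 3) F} (H : nf g = nf h) : g⁻¹ * h ∈ P F := by
  unfold nf at H
  by_cases hg0 : g.1 0 0 = 0
  · rw [if_neg (not_not.2 hg0)] at H
    by_cases hh0 : h.1 0 0 = 0
    · rw [if_neg (not_not.2 hh0)] at H
      by_cases hg1 : g.1 1 0 = 0
      · rw [if_neg (not_not.2 hg1)] at H
        by_cases hh1 : h.1 1 0 = 0
        · have hg2 : g.1 2 0 ≠ 0 := fun h2 => col_ne g ⟨hg0, hg1, h2⟩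
          refine mem_of_prop (c := h.1 2 0 / g.1 2 0) ?_ ?_ ?_
          · rw [hh0, hg0, mul_zero]
          · rw [hh1, hg1, mul_zero]
          · field_simp
        · rw [if_pos hh1] at H
          simp at H
      · rw [if_pos hg1] at H
        by_cases hh1 : h.1 1 0 = 0
        · rw [if_neg (not_not.2 hh1)] at H
          simp at H
        · rw [if_pos hh1] at H
          have H' := Sum.inl_injective (Sum.inr_injective H)
          refine mem_of_prop (c := h.1 1 0 / g.1 1 0) ?_ ?_ ?_
          · rw [hh0, hg0, mul_zero]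
          · field_simp
          · rw [div_eq_div_iff hg1 hh1] at H'
            field_simp
            linear_combination -H'
    · rw [if_pos hh0] at H
      split_ifs at H
  · rw [if_pos hg0] at H
    by_cases hh0 : h.1 0 0 = 0
    · rw [if_neg (not_not.2 hh0)] at H
      split_ifs at H
    · rw [if_pos hh0] at H
      have H' := Sum.inl_injective H
      rw [Prod.mk.injEq] at H'
      obtain ⟨H1, H2⟩ := H'
      rw [div_eq_div_iff hg0 hh0] at H1 H2
      refine mem_of_prop (c := h.1 0 0 / g.1 0 0) ?_ ?_ ?_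
      · field_simp
      · field_simp
        linear_combination -H1
      · field_simp
        linear_combination -H2

theorem index_le [Fintype F] : (P F).index ≤ Fintype.card F ^ 2 + (Fintype.card F + 1) := by
  have h1 : Function.Injective fun x : SpecialLinearGroup (Fin 3) F ⧸ P F => nf x.out := by
    intro x y hxy
    have h2 := mem_of_nf hxy
    rw [← QuotientGroup.eq, QuotientGroup.out_eq', QuotientGroup.out_eq'] at h2
    exact h2
  have h2 := Nat.card_le_card_of_injective _ h1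
  rw [Subgroup.index_eq_card]
  refine h2.trans ?_
  rw [Nat.card_sum, Nat.card_prod, Nat.card_sum, Nat.card_eq_fintype_card (α := F), Nat.card_eq_fintype_card (α := Unit),
    Fintype.card_unit, pow_two]

theorem center_mem {z : SpecialLinearGroup (Fin 3) F} (hz : z ∈ Subgroup.center _) : z ∈ P F := by
  obtain ⟨r, -, hr⟩ := Matrix.SpecialLinearGroup.mem_center_iff.1 hz
  rw [mem_P, ← hr]
  constructor <;> simp [Matrix.scalar_apply]

theorem lam_ne {z : SpecialLinearGroup (Fin 3) F} (hz : z ∈ Subgroup.center _) (hz1 : z ≠ 1) :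
    lam ⟨z, center_mem hz⟩ ≠ 1 := by
  intro h
  obtain ⟨r, -, hr⟩ := Matrix.SpecialLinearGroup.mem_center_iff.1 hz
  have h1 : z.1 0 0 = 1 := congrArg Units.val h
  rw [← hr, Matrix.scalar_apply, Matrix.diagonal_apply_eq] at h1
  apply hz1
  apply Subtype.ext
  rw [← hr, h1, map_one]
  rfl

/-- **A faithful character of small degree.** -/
theorem exists_small [Fintype F] (hZ : Subgroup.center (SpecialLinearGroup (Fin 3) F) ≠ ⊥) :
    ∃ χ : IrrCharacter (SpecialLinearGroup (Fin 3) F),
      charDegree (χ : SpecialLinearGroup (Fin 3) F → ℂ) ≤ Fintype.card F ^ 2 + (Fintype.card F + 1) ∧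
      chKer χ = ⊥ := by
  obtain ⟨z, hz, hz1⟩ : ∃ z ∈ Subgroup.center (SpecialLinearGroup (Fin 3) F), z ≠ 1 := by
    by_contra hcon
    push Not at hcon
    exact hZ ((Subgroup.eq_bot_iff_forall _).2 hcon)
  have hroot : HasEnoughRootsOfUnity ℂ (Monoid.exponent Fˣ) := inferInstance
  obtain ⟨φ, hφ⟩ := CommGroup.exists_apply_ne_one_of_hasEnoughRootsOfUnity Fˣ ℂ (lam_ne hz hz1)
  obtain ⟨χ, h1, h2⟩ := IndDeg.exists_deg_le (P F) (φ.comp lam) hz (center_mem hz) hφ
  refine ⟨χ, h1.trans index_le, ?_⟩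
  have hQ := qs_three (F := F)
  have hχ : χ ≠ one _ := by
    rintro rfl
    exact h2 rfl
  rcases hQ.ker hχ with h | h
  · exact h
  · exact absurd (show z ∈ chKer χ by rw [h]; exact hz) h2

/-- the codegree sets of `SL₃(q)` and `PSL₃(q)` are different if the centre is not trivial -/
theorem ne_three {F : Type} [Field F] [Fintype F]
    (h : ∀ ψ : IrrCharacter (SpecialLinearGroup (Fin 3) F),
      ∃ χ : IrrCharacter (SpecialLinearGroup (Fin 3) F ⧸ Subgroup.center (SpecialLinearGroup (Fin 3) F)),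
        cod ψ = cod χ) : Subgroup.center (SpecialLinearGroup (Fin 3) F) = ⊥ := by
  by_contra hZ
  obtain ⟨ψ, h1, h2⟩ := exists_small hZ
  obtain ⟨χ, hχ⟩ := h ψ
  have hQ := qs_three (F := F)
  have hs := hQ.simple
  have hZ3 : Nat.card (Subgroup.center (SpecialLinearGroup (Fin 3) F)) = 3 := by
    have h3 := card_center (F := F) (n := 3) (by norm_num)
    rw [h3]
    rcases (Nat.dvd_prime Nat.prime_three).1 (Nat.gcd_dvd_left 3 (Fintype.card F - 1)) with h4 | h4
    · rw [h4] at h3
      exact absurd (Subgroup.card_eq_one.1 h3) hZ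
    · exact h4
  have hψ : ψ ≠ one _ := by
    rintro rfl
    have h3 : chKer (one (SpecialLinearGroup (Fin 3) F)) = ⊤ := by
      rw [eq_top_iff]
      intro g _
      rw [mem_chKer]
      rfl
    rw [h3] at h2
    have := hQ.nt
    exact top_ne_bot h2
  have hχ1 : χ ≠ one _ := by
    rintro rfl
    rw [cod_one] at hχ
    exact hψ (cod_eq_one_iff.1 hχ)
  have h3 := cod_mul_index ψ
  rw [h2, Subgroup.index_bot] at h3
  have h4 := cod_mul hχ1
  rw [← hχ, ← Subgroup.index_eq_card] at h4
  have h5 := Subgroup.card_mul_index (Subgroup.center (SpecialLinearGroup (Fin 3) F))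
  rw [hZ3, ← h4, ← h3] at h5
  have h6 : cod ψ * (3 * charDegree (χ : SpecialLinearGroup (Fin 3) F ⧸ Subgroup.center (SpecialLinearGroup (Fin 3) F) → ℂ)) =
      cod ψ * charDegree (ψ : SpecialLinearGroup (Fin 3) F → ℂ) := by rw [← h5]; ring
  have h7 := Nat.eq_of_mul_eq_mul_left (cod_pos ψ) h6
  have h8 := H677.PslThree.charDegree_ge (F := F) (MulEquiv.refl _) χ hχ1
  rw [Nat.card_eq_fintype_card] at h8
  have h9 : 4 ≤ Fintype.card F := by
    have h10 := card_center (F := F) (n := 3) (by norm_num)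
    rw [hZ3] at h10
    have h11 : 3 ∣ Fintype.card F - 1 := by rw [h10]; exact Nat.gcd_dvd_right _ _
    have h12 : 1 < Fintype.card F := Fintype.one_lt_card
    have := Nat.le_of_dvd (by omega) h11
    omega
  set q := Fintype.card F
  have h10 : 4 * q ≤ q ^ 2 := by nlinarith
  omega

end Cfsg.Agent.H725.Parab
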