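import Cfsg.Prelude.Def_Blocks
import Cfsg.Agent.H725.ChiefAvg
import Cfsg.Agent.OddOrderCharacters.PF9.KernelAux
import Cfsg.Agent.S0857
import Cfsg.Agent.S0854
import Cfsg.Agent.CharactersDeep.CliffordSum

/-!
# Quasi-primitive characters of solvable groups and class sizes

`exists_class`: `χ` irreducible with homogeneous restrictions to all normal subgroups of the
solvable group `G`, `p` a prime: some `g` has `χ(1)_p` dividing the `p`-part of its class size.
-/

set_option autoImplicit false

namespace Cfsg.Agent.H725.QPrim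

open Cfsg Cfsg.Agent.Characters.Core Cfsg.Agent.H725.ChiefAvg

universe u

variable {G : Type u} [Group G]

theorem charDegree_eq {H : Type*} [Group H] {θ : H → ℂ} {n : ℕ} (h : θ 1 = n) :
    charDegree θ = n := by
  rw [charDegree, h, Complex.natCast_re, Nat.floor_natCast]

/-- Homogeneous restrictions. -/
def Homog (χ : G → ℂ) : Prop :=
  ∀ N : Subgroup G, N.Normal → ∃ (θ : N → ℂ) (e : ℂ), IsIrrCharacter N θ ∧
    (fun n : N => χ n) = e • θ

/-- Primitive characters have homogeneous restrictions. -/
theorem homog_of_primitive [Fintype G] {χ : G → ℂ} (hχ : IsIrrCharacter G χ)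
    (hprim : ¬ ∃ (H : Subgroup G), H ≠ ⊤ ∧ ∃ θ : ↥H → ℂ, IsCharacter ↥H θ ∧ indFun H θ = χ) :
    Homog χ := by
  classical
  intro N hN
  have : Fintype N := Fintype.ofFinite N
  -- an irreducible constituent
  have hres : IsCharacter N (fun n : N => χ n) :=
    Cfsg.Agent.Characters.Clifford.isCharacter_restrict N (isIrr_isCharacter hχ)
  obtain ⟨θ, hθ, hcon⟩ : ∃ θ : N → ℂ, IsIrrCharacter N θ ∧
      classInner (fun n : N => χ n) θ ≠ 0 := by
    by_contra hcon
    push Not at hcon
    have h0 := classFunction_eq_zero (isCharacter_isClassFunction hres) hcon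
    exact isIrr_apply_one_ne_zero hχ (congrFun h0 1)
  have hθcl : IsClassFunction N θ := isIrr_isClassFunction hθ
  -- the inertia group
  have hconj : ∀ (g h : G) (n : N), (⟨g * (h * n * h⁻¹) * g⁻¹,
      hN.conj_mem _ (hN.conj_mem (n : G) n.2 h) g⟩ : N) =
      ⟨(g * h) * n * (g * h)⁻¹, hN.conj_mem (n : G) n.2 (g * h)⟩ := by
    intro g h n
    apply Subtype.ext
    show g * (h * n * h⁻¹) * g⁻¹ = (g * h) * n * (g * h)⁻¹
    group
  let T : Subgroup G :=
    { carrier := {g | ∀ n : N, θ ⟨g * n * g⁻¹, hN.conj_mem (n : G) n.2 g⟩ = θ n}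
      one_mem' := by
        intro n
        congr 1
        apply Subtype.ext
        simp
      mul_mem' := by
        intro a b ha hb n
        rw [← hconj]
        rw [ha ⟨b * n * b⁻¹, hN.conj_mem (n : G) n.2 b⟩, hb]
      inv_mem' := by
        intro a ha n
        have h1 := ha ⟨a⁻¹ * n * a⁻¹⁻¹, hN.conj_mem (n : G) n.2 a⁻¹⟩
        rw [← h1]
        congr 1
        apply Subtype.ext
        show a * (a⁻¹ * n * a⁻¹⁻¹) * a⁻¹ = (n : G)
        group }
  have hT : ∀ g : G, g ∈ T ↔ ∀ n : N, θ ⟨g * n * g⁻¹, hN.conj_mem (n : G) n.2 g⟩ = θ n :=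
    fun g => Iff.rfl
  have hNT : N ≤ T := by
    intro x hx n
    have := hθcl n ⟨x, hx⟩
    rw [← this]
    rfl
  have hTtop : T = ⊤ := by
    by_contra hne
    have : Fintype T := Fintype.ofFinite T
    obtain ⟨ψ, hψ, hind, -⟩ := Cfsg.Agent.S0854.result N θ hθ T hT hNT χ hχ hcon
    exact hprim ⟨T, hne, ψ, isIrr_isCharacter hψ, hind⟩
  refine ⟨θ, classInner (fun n : N => χ n) θ, hθ, ?_⟩
  have h1 := Cfsg.Agent.CharactersDeep.CliffordSum.restrict_eq_smul_sum N hχ hθ hcon
  have h2 : (Finset.univ.image (fun x : G => θ ∘ (MulAut.conjNormal x : MulAut N))) = {θ} := by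
    ext φ
    rw [Finset.mem_image, Finset.mem_singleton]
    constructor
    · rintro ⟨x, -, rfl⟩
      funext n
      have hx : x ∈ T := by rw [hTtop]; exact Subgroup.mem_top x
      exact hx n
    · rintro rfl
      refine ⟨1, Finset.mem_univ _, ?_⟩
      funext n
      simp
  rw [h2, Finset.sum_singleton] at h1
  exact h1

/-- Existence of a maximal normal subgroup below. -/
theorem exists_maximal_normal [Finite G] (N : Subgroup G) (hN : N ≠ ⊥) :
    ∃ L : Subgroup G, L.Normal ∧ L < N ∧
      ∀ M : Subgroup G, M.Normal → L ≤ M → M ≤ N → M = L ∨ M = N := by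
  classical
  have hfin : {L : Subgroup G | L.Normal ∧ L < N}.Finite := Set.toFinite _
  have hne : {L : Subgroup G | L.Normal ∧ L < N}.Nonempty :=
    ⟨⊥, inferInstance, bot_lt_iff_ne_bot.2 hN⟩
  obtain ⟨L, hL, hmax⟩ := Set.exists_max_image _ (fun L : Subgroup G => Nat.card L) hfin hne
  refine ⟨L, hL.1, hL.2, fun M hM hLM hMN => ?_⟩
  rcases eq_or_lt_of_le hMN with h | h
  · exact Or.inr h
  · left
    exact (Subgroup.eq_of_le_of_card_ge hLM (hmax M ⟨hM, h⟩)).symm

theorem card_mul_relIndex {H K : Subgroup G} (h : H ≤ K) :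
    Nat.card H * H.relIndex K = Nat.card K := by
  rw [← Subgroup.relIndex_bot_left, ← Subgroup.relIndex_bot_left]
  exact Subgroup.relIndex_mul_relIndex ⊥ H K bot_le h

/-- The index of intersections. -/
theorem card_inf_eq (C N L : Subgroup G) (hLN : L ≤ N) :
    Nat.card ↥(C ⊓ N) = Nat.card ↥(C ⊓ L) * L.relIndex (C ⊓ N) := by
  have h1 : L.relIndex (C ⊓ N) = (C ⊓ L).relIndex (C ⊓ N) := by
    rw [← Subgroup.inf_relIndex_right]
    congr 1
    rw [inf_comm, inf_assoc, inf_eq_right.2 hLN]
  rw [h1]
  exact (card_mul_relIndex (inf_le_inf_left C hLN)).symm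

/-- The main induction. -/
theorem main [Fintype G] [Group.IsSolvable G] {χ : G → ℂ} (hχ : IsIrrCharacter G χ)
    (hhom : Homog χ) (p : ℕ) [hp : Fact p.Prime] (n : ℕ) :
    ∀ N : Subgroup G, N.Normal → Nat.card N = n → ∀ θ : N → ℂ, IsIrrCharacter N θ →
      (∃ e : ℂ, (fun n : N => χ n) = e • θ) →
      (∑ᶠ g : G, (Nat.card ↥(Subgroup.centralizer ({g} : Set G) ⊓ N)).factorization p) +
        Nat.card G * (charDegree θ).factorization p ≤
        Nat.card G * (Nat.card N).factorization p := by
  classical
  induction n using Nat.strong_induction_on with | _ n ih =>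
  intro N hN hcardN θ hθ hres
  obtain ⟨e, he⟩ := hres
  have he0 : e ≠ 0 := by
    rintro rfl
    have := congrFun he 1
    simp only [Pi.smul_apply, zero_smul] at this
    exact isIrr_apply_one_ne_zero hχ this
  by_cases hNbot : N = ⊥
  · subst hNbot
    have hdeg : charDegree θ = 1 := by
      obtain ⟨m, hm, hm1⟩ := isIrr_apply_one hθ
      have h1 := classInner_irr_self hθ
      rw [classInner_def, Finset.univ_unique, Finset.sum_singleton] at h1
      have h2 : (default : (⊥ : Subgroup G)) = 1 := rfl
      rw [h2, hm1, Subgroup.card_bot, Nat.cast_one, inv_one, one_mul, Complex.conj_natCast] at h1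
      have h3 : m * m = 1 := by exact_mod_cast h1
      have h4 : m = 1 := Nat.eq_one_of_mul_eq_one_left h3
      rw [h4] at hm1
      exact charDegree_eq hm1
    rw [hdeg]
    have : ∀ g : G, (Nat.card ↥(Subgroup.centralizer ({g} : Set G) ⊓ (⊥ : Subgroup G))).factorization p
        = 0 := by
      intro g
      rw [inf_bot_eq, Subgroup.card_bot, Nat.factorization_one]; rfl
    rw [finsum_congr this]
    simp
  obtain ⟨L, hL, hLN, hchief⟩ := exists_maximal_normal N hNbot
  obtain ⟨hab, q, hq, hexp⟩ :=
    Cfsg.Agent.OddOrderCharacters.PF9.KernelAux.chief_elementary hLN hchief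
  have : Fact q.Prime := ⟨hq⟩
  obtain ⟨d, c, hd, hc, hcd, hsum⟩ := chief_sum (p := q) N L hLN hchief hab hexp
  have hcardL : Nat.card L < n := by
    rw [← hcardN]
    exact Set.ncard_lt_ncard (SetLike.coe_ssubset_coe.2 hLN) (Set.toFinite _)
  have hcardNL : Nat.card N = Nat.card L * q ^ d := by
    rw [← hd]
    exact (card_mul_relIndex hLN.le).symm
  -- the constituent of the restriction to `L`
  have hinv : ∀ (g : G) (n : N), θ ⟨g * n * g⁻¹, hN.conj_mem (n : G) n.2 g⟩ = θ n := by
    intro g n
    have h1 := congrFun he n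
    have h2 := congrFun he ⟨g * n * g⁻¹, hN.conj_mem (n : G) n.2 g⟩
    simp only [Pi.smul_apply, smul_eq_mul] at h1 h2
    have h3 := isIrr_isClassFunction hχ n g
    rw [h1, h2] at h3
    exact mul_left_cancel₀ he0 h3
  have hcomm : ⁅N, N⁆ ≤ L := by
    rw [Subgroup.commutator_le]
    intro a ha b hb
    exact hab a ha b hb
  obtain ⟨φ, e', hφ, hres', hor⟩ : ∃ (φ : L → ℂ) (e' : ℕ), IsIrrCharacter L φ ∧
      (fun x : L => θ ⟨(x : G), hLN.le x.2⟩) = (e' : ℂ) • φ ∧ (e' = 1 ∨ e' ^ 2 = L.relIndex N) := by
    rcases Cfsg.Agent.S0857.result N L hLN hchief hcomm θ hθ hinv with h | h | h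
    · exact ⟨_, 1, h, by rw [Nat.cast_one, one_smul], Or.inl rfl⟩
    · obtain ⟨φ, e', h1, h2, h3⟩ := h
      exact ⟨φ, e', h1, h2, Or.inr h3⟩
    · exfalso
      obtain ⟨F, hF, hFc, hFs⟩ := h
      have : Fintype L := Fintype.ofFinite L
      obtain ⟨ψ, f, hψ, hf⟩ := hhom L hL
      have hd0 : d ≠ 0 := by
        rintro rfl
        rw [pow_zero, mul_one] at hcardNL
        omega
      have hF2 : 1 < F.card := by
        rw [hFc, hd]
        exact Nat.one_lt_pow hd0 hq.one_lt
      obtain ⟨φ₁, h₁, φ₂, h₂, hne⟩ := Finset.one_lt_card.1 hF2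
      have hχL : (fun x : L => χ x) = e • ∑ φ ∈ F, φ := by
        rw [← hFs]
        funext x
        exact congrFun he ⟨(x : G), hLN.le x.2⟩
      have hin : ∀ φ₀ ∈ F, classInner (fun x : L => χ x) φ₀ = e := by
        intro φ₀ hφ₀
        rw [hχL, classInner_smul_left, classInner_sum_left, Finset.sum_eq_single φ₀]
        · rw [classInner_irr_self (hF φ₀ hφ₀), mul_one]
        · intro φ' hφ' hne'
          exact classInner_irr_ne (hF _ hφ') (hF _ hφ₀) hne'
        · intro h; exact absurd hφ₀ h
      have hψeq : ∀ φ₀ ∈ F, φ₀ = ψ := by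
        intro φ₀ hφ₀
        by_contra hne'
        have h1 := hin φ₀ hφ₀
        rw [hf, classInner_smul_left, classInner_irr_ne hψ (hF _ hφ₀) (Ne.symm hne'),
          mul_zero] at h1
        exact he0 h1.symm
      exact hne ((hψeq φ₁ h₁).trans (hψeq φ₂ h₂).symm)
  have hresL : ∃ e₁ : ℂ, (fun n : L => χ n) = e₁ • φ := by
    refine ⟨e * e', ?_⟩
    rw [← smul_smul, ← hres']
    funext x
    exact congrFun he ⟨(x : G), hLN.le x.2⟩
  have hIH := ih _ hcardL L hL rfl φ hφ hresL
  -- degrees
  obtain ⟨m, hm, hm1⟩ := isIrr_apply_one hφ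
  have hφdeg : charDegree φ = m := charDegree_eq hm1
  have hθdeg : charDegree θ = e' * m := by
    apply charDegree_eq
    have h1 := congrFun hres' 1
    simp only [Pi.smul_apply, smul_eq_mul] at h1
    rw [hm1] at h1
    push_cast
    rw [← h1]
    congr 1
  have he'0 : e' ≠ 0 := by
    rintro rfl
    rw [Nat.cast_zero, zero_smul] at hres'
    have := congrFun hres' 1
    exact isIrr_apply_one_ne_zero hθ this
  have hdegfac : (charDegree θ).factorization p = e'.factorization p +
      (charDegree φ).factorization p := by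
    rw [hθdeg, hφdeg, Nat.factorization_mul he'0 hm.ne']
    rfl
  have hNfac : (Nat.card N).factorization p = (Nat.card L).factorization p +
      (q ^ d).factorization p := by
    rw [hcardNL, Nat.factorization_mul Nat.card_pos.ne' (pow_ne_zero _ hq.ne_zero)]
    rfl
  have hgfac : ∀ g : G, (Nat.card ↥(Subgroup.centralizer ({g} : Set G) ⊓ N)).factorization p =
      (Nat.card ↥(Subgroup.centralizer ({g} : Set G) ⊓ L)).factorization p +
      (L.relIndex (Subgroup.centralizer ({g} : Set G) ⊓ N)).factorization p := by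
    intro g
    have h0 : L.relIndex (Subgroup.centralizer ({g} : Set G) ⊓ N) ≠ 0 := by
      intro h
      have := hc g
      rw [h] at this
      exact pow_ne_zero _ hq.ne_zero (Nat.eq_zero_of_zero_dvd this)
    rw [card_inf_eq _ N L hLN.le, Nat.factorization_mul Nat.card_pos.ne' h0]
    rfl
  rw [finsum_congr hgfac, finsum_eq_sum_of_fintype, Finset.sum_add_distrib, hdegfac, hNfac]
  rw [finsum_eq_sum_of_fintype] at hIH
  -- it remains to treat the chief factor
  suffices hch : ∑ g : G, (L.relIndex (Subgroup.centralizer ({g} : Set G) ⊓ N)).factorization p +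
      Nat.card G * e'.factorization p ≤ Nat.card G * (q ^ d).factorization p by
    calc _ = (∑ g : G, (Nat.card ↥(Subgroup.centralizer ({g} : Set G) ⊓ L)).factorization p +
          Nat.card G * (charDegree φ).factorization p) +
          (∑ g : G, (L.relIndex (Subgroup.centralizer ({g} : Set G) ⊓ N)).factorization p +
            Nat.card G * e'.factorization p) := by ring
      _ ≤ Nat.card G * (Nat.card L).factorization p + Nat.card G * (q ^ d).factorization p :=
          Nat.add_le_add hIH hch
      _ = _ := by ring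
  have hle : ∀ g : G, (L.relIndex (Subgroup.centralizer ({g} : Set G) ⊓ N)).factorization p ≤
      (q ^ c g).factorization p := fun g =>
    (Nat.factorization_le_iff_dvd (by
      intro h
      have := hc g
      rw [h] at this
      exact pow_ne_zero _ hq.ne_zero (Nat.eq_zero_of_zero_dvd this))
      (pow_ne_zero _ hq.ne_zero)).2 (hc g) p
  by_cases hqp : q = p
  · subst hqp
    have hqd : ∀ k : ℕ, (q ^ k).factorization q = k := fun k => by
      rw [hq.factorization_pow, Finsupp.single_eq_same]
    simp only [hqd] at hle ⊢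
    rcases hor with h | h
    · subst h
      rw [Nat.factorization_one, Finsupp.coe_zero, Pi.zero_apply, mul_zero, add_zero]
      calc _ ≤ ∑ g : G, d := Finset.sum_le_sum fun g _ => (hle g).trans (hcd g)
        _ = Nat.card G * d := by
          rw [Finset.sum_const, Finset.card_univ, smul_eq_mul, Nat.card_eq_fintype_card]
    · have h2 : 2 * e'.factorization q = d := by
        have h5 : (e' ^ 2).factorization q = (q ^ d).factorization q := by rw [h, hd]
        rw [hqd, Nat.factorization_pow] at h5
        exact h5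
      have hd1 : d ≠ 1 := by omega
      have hs := hsum hd1
      rw [finsum_eq_sum_of_fintype] at hs
      have h3 : ∑ g : G, (L.relIndex (Subgroup.centralizer ({g} : Set G) ⊓ N)).factorization q ≤
          ∑ g : G, c g := Finset.sum_le_sum fun g _ => hle g
      have h4 : 2 * (Nat.card G * e'.factorization q) = Nat.card G * d := by
        rw [← h2]; ring
      omega
  · have hqd : ∀ k : ℕ, (q ^ k).factorization p = 0 := fun k => by
      rw [hq.factorization_pow, Finsupp.single_eq_of_ne (Ne.symm hqp)]
    simp only [hqd] at hle ⊢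
    have h0 : e'.factorization p = 0 := by
      rcases hor with h | h
      · rw [h, Nat.factorization_one]; rfl
      · have h5 : (e' ^ 2).factorization p = (q ^ d).factorization p := by rw [h, hd]
        rw [hqd, Nat.factorization_pow] at h5
        have h6 : 2 * e'.factorization p = 0 := h5
        omega
    rw [h0, mul_zero, add_zero]
    refine le_of_eq (Finset.sum_eq_zero fun g _ => Nat.le_zero.1 (hle g))

/-- **Class sizes and degrees of quasi-primitive characters.** -/
theorem exists_class [Fintype G] [Group.IsSolvable G] {χ : G → ℂ} (hχ : IsIrrCharacter G χ)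
    (hhom : Homog χ) (p : ℕ) [hp : Fact p.Prime] :
    ∃ g : G, (charDegree χ).factorization p ≤
      ((Subgroup.centralizer ({g} : Set G)).index).factorization p := by
  classical
  obtain ⟨m, hm, hm1⟩ := isIrr_apply_one hχ
  have hdeg : charDegree χ = m := charDegree_eq hm1
  let θ : (⊤ : Subgroup G) → ℂ := fun x => χ x
  have hθ : IsIrrCharacter (⊤ : Subgroup G) θ :=
    isIrr_comp (Subgroup.topEquiv : (⊤ : Subgroup G) ≃* G).toMonoidHom
      (Subgroup.topEquiv : (⊤ : Subgroup G) ≃* G).surjective hχ
  have hmain := main hχ hhom p _ ⊤ inferInstance rfl θ hθ ⟨1, by rw [one_smul]⟩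
  have hθdeg : charDegree θ = m := charDegree_eq hm1
  rw [hθdeg, Subgroup.card_top, finsum_eq_sum_of_fintype] at hmain
  rw [hdeg]
  by_contra hcon
  push Not at hcon
  have hlt : ∀ g : G, (Nat.card G).factorization p <
      (Nat.card ↥(Subgroup.centralizer ({g} : Set G) ⊓ (⊤ : Subgroup G))).factorization p +
        m.factorization p := by
    intro g
    rw [inf_top_eq]
    have h1 := (Subgroup.centralizer ({g} : Set G)).card_mul_index
    have h2 : (Nat.card G).factorization p =
        (Nat.card (Subgroup.centralizer ({g} : Set G))).factorization p +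
        ((Subgroup.centralizer ({g} : Set G)).index).factorization p := by
      rw [← h1, Nat.factorization_mul Nat.card_pos.ne' Subgroup.index_ne_zero_of_finite]
      rfl
    rw [h2]
    exact Nat.add_lt_add_left (hcon g) _
  have hsum : ∑ g : G, (Nat.card G).factorization p <
      ∑ g : G, ((Nat.card ↥(Subgroup.centralizer ({g} : Set G) ⊓ (⊤ : Subgroup G))).factorization p
        + m.factorization p) :=
    Finset.sum_lt_sum_of_nonempty ⟨1, Finset.mem_univ _⟩ fun g _ => hlt g
  rw [Finset.sum_add_distrib, Finset.sum_const, Finset.sum_const, Finset.card_univ, smul_eq_mul,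
    smul_eq_mul, ← Nat.card_eq_fintype_card] at hsum
  omega

end Cfsg.Agent.H725.QPrim
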