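import Cfsg.Agent.H725.LamOrth
import Cfsg.Agent.H725.SevenComb
import Cfsg.Agent.Characters.Galois

/-!
# Characters and an element of order seven with centraliser `⟨x⟩ × ⟨z⟩` (helper725)
-/

set_option autoImplicit false
set_option linter.unusedSectionVars false

namespace Cfsg.Agent.H725.Seven

open Cfsg Cfsg.Agent.H686.CharKit Cfsg.Agent.H677.CodPrime Cfsg.Agent.H677.CodMultiset
open Finset ComplexConjugate Cfsg.Agent.H725.Lam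

universe u

variable {G : Type u} [Group G] [Finite G]

/-- local data at seven -/
structure Loc (z x : G) (n : ℕ) : Prop where
  hn : n ≠ 0
  hz : z ∈ Subgroup.center G
  hzn : z ^ n = 1
  hx : x ^ 7 = 1
  hC : Nat.card (Subgroup.centralizer ({x} : Set G)) = 7 * n
  h2 : IsConj x (x ^ 2)
  hone : ∀ k < n, x * z ^ k ≠ 1
  hinv : ∀ k < n, ¬ IsConj (x * z ^ k) x⁻¹
  hself : ∀ k < n, k ≠ 0 → ¬ IsConj (x * z ^ k) x

section
variable {ζ : ℂ}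

theorem zeta_sum (hζ : IsPrimitiveRoot ζ 7) : 1 + ζ + ζ ^ 2 + ζ ^ 3 + ζ ^ 4 + ζ ^ 5 + ζ ^ 6 = 0 := by
  have h := hζ.geom_sum_eq_zero (by norm_num)
  simpa [Finset.sum_range_succ, add_assoc] using h

/-- inversion of the multiplicities -/
theorem inversion (hζ : IsPrimitiveRoot ζ 7) {X : ℕ → ℂ} {d : ℕ → ℕ}
    (h : ∀ m : ℕ, X m = ∑ i ∈ range 7, (d i : ℂ) * ζ ^ (i * m)) {j : ℕ} (hj : j < 7) :
    ∑ m ∈ range 7, X m * ζ ^ ((7 - j) * m) = 7 * (d j : ℂ) := by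
  have h1 : ∑ m ∈ range 7, X m * ζ ^ ((7 - j) * m) =
      ∑ i ∈ range 7, (d i : ℂ) * ∑ m ∈ range 7, (ζ ^ (i + (7 - j))) ^ m := by
    calc ∑ m ∈ range 7, X m * ζ ^ ((7 - j) * m)
        = ∑ m ∈ range 7, ∑ i ∈ range 7, (d i : ℂ) * (ζ ^ (i + (7 - j))) ^ m := by
          refine sum_congr rfl fun m _ => ?_
          rw [h m, sum_mul]
          refine sum_congr rfl fun i _ => ?_
          rw [mul_assoc, ← pow_add, ← pow_mul]
          congr 2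
          ring
      _ = ∑ i ∈ range 7, ∑ m ∈ range 7, (d i : ℂ) * (ζ ^ (i + (7 - j))) ^ m := sum_comm
      _ = _ := sum_congr rfl fun i _ => by rw [mul_sum]
  rw [h1, sum_eq_single j]
  · rw [show j + (7 - j) = 7 by omega, hζ.pow_eq_one]
    simp
    ring
  · intro i hi hij
    have h2 : (ζ ^ (i + (7 - j))) ≠ 1 := by
      intro h3
      have h4 := (hζ.pow_eq_one_iff_dvd _).1 h3
      have := mem_range.1 hi
      omega
    have h3 := mul_geom_sum (ζ ^ (i + (7 - j))) 7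
    have h4 : (ζ ^ (i + (7 - j))) ^ 7 = 1 := by
      rw [← pow_mul, mul_comm, pow_mul, hζ.pow_eq_one, one_pow]
    rw [h4, sub_self] at h3
    rcases mul_eq_zero.1 h3 with h5 | h5
    · exact absurd (sub_eq_zero.1 h5) h2
    · rw [h5, mul_zero]
  · intro h2
    exact absurd (mem_range.2 hj) h2

/-- the multiplicities -/
theorem coeffs (hζ : IsPrimitiveRoot ζ 7) {x : G} (hx : x ^ 7 = 1) (h2 : IsConj x (x ^ 2)) (χ : IrrCharacter G) :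
    ∃ a b c : ℕ,
      7 * (a : ℂ) = (χ : G → ℂ) 1 + 3 * (χ : G → ℂ) x + 3 * (χ : G → ℂ) x⁻¹ ∧
      7 * (b : ℂ) = (χ : G → ℂ) 1 + (χ : G → ℂ) x * (ζ ^ 3 + ζ ^ 5 + ζ ^ 6) +
        (χ : G → ℂ) x⁻¹ * (ζ + ζ ^ 2 + ζ ^ 4) ∧
      7 * (c : ℂ) = (χ : G → ℂ) 1 + (χ : G → ℂ) x * (ζ + ζ ^ 2 + ζ ^ 4) +
        (χ : G → ℂ) x⁻¹ * (ζ ^ 3 + ζ ^ 5 + ζ ^ 6) := by
  have hcf := Characters.Core.isIrr_isClassFunction χ.2
  have hconj : ∀ a b : G, IsConj a b → (χ : G → ℂ) a = (χ : G → ℂ) b := by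
    intro a b h
    obtain ⟨g, hg⟩ := isConj_iff.1 h
    rw [← hg, (Characters.Core.isClassFunction_def.1 hcf) a g]
  have hpow : ∀ k : ℕ, (χ : G → ℂ) (x ^ k) = (χ : G → ℂ) (x ^ (2 * k)) := by
    intro k
    apply hconj
    obtain ⟨g, hg⟩ := isConj_iff.1 h2
    refine isConj_iff.2 ⟨g, ?_⟩
    rw [← conj_pow, hg, ← pow_mul]
  obtain ⟨d, hd⟩ : ∃ d : ℕ → ℕ, ∀ m : ℕ, (χ : G → ℂ) (x ^ m) = ∑ j ∈ range 7, (d j : ℂ) * ζ ^ (j * m) := by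
    obtain ⟨χ, m, ρ, hρ, rfl⟩ := χ
    exact Characters.Galois.exists_nat_coeffs ρ x (by norm_num) hx hζ
  have hinv : x⁻¹ = x ^ 6 := by
    rw [inv_eq_iff_mul_eq_one, ← pow_succ', hx]
  have e0 : (χ : G → ℂ) (x ^ 0) = (χ : G → ℂ) 1 := by rw [pow_zero]
  have e1 : (χ : G → ℂ) (x ^ 1) = (χ : G → ℂ) x := by rw [pow_one]
  have e2 : (χ : G → ℂ) (x ^ 2) = (χ : G → ℂ) x := by rw [← e1]; exact (hpow 1).symm
  have e4 : (χ : G → ℂ) (x ^ 4) = (χ : G → ℂ) x := by rw [← e2]; exact (hpow 2).symm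
  have e6 : (χ : G → ℂ) (x ^ 6) = (χ : G → ℂ) x⁻¹ := by rw [hinv]
  have e5 : (χ : G → ℂ) (x ^ 5) = (χ : G → ℂ) x⁻¹ := by
    rw [← e6, hpow 6, show x ^ (2 * 6) = x ^ 5 by rw [show 2 * 6 = 7 + 5 by norm_num, pow_add, hx, one_mul]]
  have e3 : (χ : G → ℂ) (x ^ 3) = (χ : G → ℂ) x⁻¹ := by
    rw [← e5, hpow 5, show x ^ (2 * 5) = x ^ 3 by rw [show 2 * 5 = 7 + 3 by norm_num, pow_add, hx, one_mul]]
  have hz7 := hζ.pow_eq_one
  have hj := fun (j : ℕ) (hj : j < 7) => inversion hζ (X := fun m => (χ : G → ℂ) (x ^ m)) hd hj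
  have hexp : ∀ k : ℕ, ∑ m ∈ range 7, (χ : G → ℂ) (x ^ m) * ζ ^ (k * m) =
      (χ : G → ℂ) 1 + (χ : G → ℂ) x * (ζ ^ k + ζ ^ (2 * k) + ζ ^ (4 * k)) +
        (χ : G → ℂ) x⁻¹ * (ζ ^ (3 * k) + ζ ^ (5 * k) + ζ ^ (6 * k)) := by
    intro k
    simp only [Finset.sum_range_succ, Finset.sum_range_zero, e0, e1, e2, e3, e4, e5, e6]
    rw [mul_comm k 2, mul_comm k 3, mul_comm k 4, mul_comm k 5, mul_comm k 6]
    simp only [mul_zero, mul_one, pow_zero]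
    ring
  refine ⟨d 0, d 1, d 3, ?_, ?_, ?_⟩
  · rw [← hj 0 (by norm_num), hexp]
    have h3 : ζ ^ (7 - 0) = 1 := hz7
    have h4 : ∀ k : ℕ, ζ ^ (k * (7 - 0)) = 1 := by
      intro k
      rw [mul_comm, pow_mul, h3, one_pow]
    rw [h3, h4, h4, h4, h4, h4]
    ring
  · rw [← hj 1 (by norm_num), hexp]
    have h3 : ζ ^ (7 - 1) = ζ ^ 6 := rfl
    have h4 : ζ ^ (2 * (7 - 1)) = ζ ^ 5 := by
      rw [show 2 * (7 - 1) = 7 + 5 by norm_num, pow_add, hz7, one_mul]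
    have h5 : ζ ^ (4 * (7 - 1)) = ζ ^ 3 := by
      rw [show 4 * (7 - 1) = 7 * 3 + 3 by norm_num, pow_add, pow_mul, hz7, one_pow, one_mul]
    have h6 : ζ ^ (3 * (7 - 1)) = ζ ^ 4 := by
      rw [show 3 * (7 - 1) = 7 * 2 + 4 by norm_num, pow_add, pow_mul, hz7, one_pow, one_mul]
    have h7 : ζ ^ (5 * (7 - 1)) = ζ ^ 2 := by
      rw [show 5 * (7 - 1) = 7 * 4 + 2 by norm_num, pow_add, pow_mul, hz7, one_pow, one_mul]
    have h8 : ζ ^ (6 * (7 - 1)) = ζ := by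
      rw [show 6 * (7 - 1) = 7 * 5 + 1 by norm_num, pow_add, pow_mul, hz7, one_pow, one_mul, pow_one]
    rw [h3, h4, h5, h6, h7, h8]
    ring
  · rw [← hj 3 (by norm_num), hexp]
    have h3 : ζ ^ (7 - 3) = ζ ^ 4 := rfl
    have h4 : ζ ^ (2 * (7 - 3)) = ζ := by
      rw [show 2 * (7 - 3) = 7 + 1 by norm_num, pow_add, hz7, one_mul, pow_one]
    have h5 : ζ ^ (4 * (7 - 3)) = ζ ^ 2 := by
      rw [show 4 * (7 - 3) = 7 * 2 + 2 by norm_num, pow_add, pow_mul, hz7, one_pow, one_mul]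
    have h6 : ζ ^ (3 * (7 - 3)) = ζ ^ 5 := by
      rw [show 3 * (7 - 3) = 7 + 5 by norm_num, pow_add, hz7, one_mul]
    have h7 : ζ ^ (5 * (7 - 3)) = ζ ^ 6 := by
      rw [show 5 * (7 - 3) = 7 * 2 + 6 by norm_num, pow_add, pow_mul, hz7, one_pow, one_mul]
    have h8 : ζ ^ (6 * (7 - 3)) = ζ ^ 3 := by
      rw [show 6 * (7 - 3) = 7 * 3 + 3 by norm_num, pow_add, pow_mul, hz7, one_pow, one_mul]
    rw [h3, h4, h5, h6, h7, h8]
    ring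

end

/-- **The characters over `c` and the element `x`.** -/
theorem Loc.main [Fintype (IrrCharacter G)] {z x : G} {n : ℕ} (L : Loc z x n) {c : ℂ} (hc : c ^ n = 1) :
    ∃ s r : IrrCharacter G → ℤ, (∑ χ ∈ Lam z c, s χ ^ 2 = 14) ∧ (∑ χ ∈ Lam z c, r χ ^ 2 = 2) ∧
      (∀ χ, (2 : ℤ) ∣ s χ - r χ) ∧ (∑ χ ∈ Lam z c, s χ * (charDegree (χ : G → ℂ) : ℤ) = 0) ∧
      (∑ χ ∈ Lam z c, r χ * (charDegree (χ : G → ℂ) : ℤ) = 0) ∧
      (∀ χ : IrrCharacter G, (7 : ℤ) ∣ (charDegree (χ : G → ℂ) : ℤ) + 3 * s χ) := by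
  classical
  set ζ : ℂ := Complex.exp (2 * Real.pi * Complex.I / (7 : ℕ)) with hζd
  have hζ : IsPrimitiveRoot ζ 7 := Complex.isPrimitiveRoot_exp 7 (by norm_num)
  set u : ℂ := ζ + ζ ^ 2 + ζ ^ 4 with hu
  set v : ℂ := ζ ^ 3 + ζ ^ 5 + ζ ^ 6 with hv
  have huv : u + v = -1 := by
    have := zeta_sum hζ
    rw [hu, hv]
    linear_combination this
  have huv2 : u * v = 2 := by
    have h0 := zeta_sum hζ
    have h7 := hζ.pow_eq_one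
    rw [hu, hv]
    have e : (ζ + ζ ^ 2 + ζ ^ 4) * (ζ ^ 3 + ζ ^ 5 + ζ ^ 6) =
      ζ ^ 4 + ζ ^ 6 + ζ ^ 7 + ζ ^ 5 + ζ ^ 7 + ζ ^ 7 * ζ + ζ ^ 7 + ζ ^ 7 * ζ ^ 2 + ζ ^ 7 * ζ ^ 3 := by ring
    rw [e, h7]
    linear_combination h0
  choose a b e h1 h2 h3 using fun χ : IrrCharacter G => coeffs hζ L.hx L.h2 χ
  have hcinv : ∀ χ : IrrCharacter G, conj ((χ : G → ℂ) x) = (χ : G → ℂ) x⁻¹ := fun χ =>
    (Characters.Core.isCharacter_apply_inv (Characters.Core.isIrr_isCharacter χ.2) x).symm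
  have hn' : (n : ℂ) ≠ 0 := Nat.cast_ne_zero.2 L.hn
  -- the sums
  have S1 : ∑ χ ∈ Lam z c, (χ : G → ℂ) x * (χ : G → ℂ) x⁻¹ = 7 := by
    have h := orth L.hz L.hzn L.hn hc x x L.hself (IsConj.refl x)
    rw [L.hC] at h
    rw [← sum_congr rfl fun χ _ => by rw [← hcinv χ]]
    rw [h]
    push_cast
    field_simp
  have S2 : ∑ χ ∈ Lam z c, (χ : G → ℂ) x * (χ : G → ℂ) x = 0 := by
    have h := orth_zero L.hz L.hzn L.hn hc x x⁻¹ L.hinv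
    rw [← h]
    refine sum_congr rfl fun χ _ => ?_
    rw [← hcinv χ, Complex.conj_conj]
  have S3 : ∑ χ ∈ Lam z c, (χ : G → ℂ) x⁻¹ * (χ : G → ℂ) x⁻¹ = 0 := by
    have h := congrArg conj S2
    rw [map_sum, map_zero] at h
    rw [← h]
    refine sum_congr rfl fun χ _ => ?_
    rw [map_mul, hcinv χ]
  have S4 : ∑ χ ∈ Lam z c, (χ : G → ℂ) x * (charDegree (χ : G → ℂ) : ℂ) = 0 := by
    have h := orth_zero L.hz L.hzn L.hn hc x 1 (fun k hk hcj => L.hone k hk (by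
      rwa [isConj_comm, isConj_one_right] at hcj))
    rw [← h]
    refine sum_congr rfl fun χ _ => ?_
    rw [← charDegree_irr χ, Complex.conj_natCast]
  have S5 : ∑ χ ∈ Lam z c, (χ : G → ℂ) x⁻¹ * (charDegree (χ : G → ℂ) : ℂ) = 0 := by
    have h := congrArg conj S4
    rw [map_sum, map_zero] at h
    rw [← h]
    refine sum_congr rfl fun χ _ => ?_
    rw [map_mul, hcinv χ, Complex.conj_natCast]
  -- `δ₁ = a - b`, `δ₂ = a - e`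
  have d1 : ∀ χ : IrrCharacter G, 7 * ((a χ : ℂ) - b χ) = (χ : G → ℂ) x * (3 - v) + (χ : G → ℂ) x⁻¹ * (3 - u) := by
    intro χ
    linear_combination h1 χ - h2 χ
  have d2 : ∀ χ : IrrCharacter G, 7 * ((a χ : ℂ) - e χ) = (χ : G → ℂ) x * (3 - u) + (χ : G → ℂ) x⁻¹ * (3 - v) := by
    intro χ
    linear_combination h1 χ - h3 χ
  set s : IrrCharacter G → ℤ := fun χ => 2 * (a χ : ℤ) - b χ - e χ with hs
  set r : IrrCharacter G → ℤ := fun χ => (e χ : ℤ) - b χ with hr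
  have sC : ∀ χ : IrrCharacter G, ((s χ : ℤ) : ℂ) = (χ : G → ℂ) x + (χ : G → ℂ) x⁻¹ := by
    intro χ
    rw [hs]
    push_cast
    have : 7 * ((2 * (a χ : ℂ)) - b χ - e χ) = 7 * ((χ : G → ℂ) x + (χ : G → ℂ) x⁻¹) := by
      linear_combination d1 χ + d2 χ - ((χ : G → ℂ) x + (χ : G → ℂ) x⁻¹) * huv
    linear_combination this / 7
  have rC : ∀ χ : IrrCharacter G, 7 * ((r χ : ℤ) : ℂ) = ((χ : G → ℂ) x - (χ : G → ℂ) x⁻¹) * (u - v) := by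
    intro χ
    rw [hr]
    push_cast
    linear_combination d1 χ - d2 χ
  have huv3 : (u - v) ^ 2 = -7 := by
    linear_combination (u + v - 1) * huv - 4 * huv2
  refine ⟨s, r, ?_, ?_, ?_, ?_, ?_, ?_⟩
  · have h : ((∑ χ ∈ Lam z c, s χ ^ 2 : ℤ) : ℂ) = ((14 : ℤ) : ℂ) := by
      push_cast
      have : ∀ χ ∈ Lam z c, ((s χ : ℤ) : ℂ) ^ 2 = (χ : G → ℂ) x * (χ : G → ℂ) x +
          (χ : G → ℂ) x⁻¹ * (χ : G → ℂ) x⁻¹ + 2 * ((χ : G → ℂ) x * (χ : G → ℂ) x⁻¹) := by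
        intro χ _
        rw [sC]; ring
      rw [sum_congr rfl this, sum_add_distrib, sum_add_distrib, ← mul_sum, S1, S2, S3]
      norm_num
    exact_mod_cast h
  · have h : ((∑ χ ∈ Lam z c, r χ ^ 2 : ℤ) : ℂ) = ((2 : ℤ) : ℂ) := by
      push_cast
      have h49 : ∀ χ ∈ Lam z c, ((r χ : ℤ) : ℂ) ^ 2 = (-1 / 7) * ((χ : G → ℂ) x * (χ : G → ℂ) x +
          (χ : G → ℂ) x⁻¹ * (χ : G → ℂ) x⁻¹ - 2 * ((χ : G → ℂ) x * (χ : G → ℂ) x⁻¹)) := by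
        intro χ _
        have h5 : (7 * ((r χ : ℤ) : ℂ)) ^ 2 = ((χ : G → ℂ) x - (χ : G → ℂ) x⁻¹) ^ 2 * (-7) := by
          rw [rC χ, mul_pow, huv3]
        linear_combination h5 / 49
      rw [sum_congr rfl h49, ← mul_sum, sum_sub_distrib, sum_add_distrib, ← mul_sum, S1, S2, S3]
      norm_num
    exact_mod_cast h
  · intro χ
    refine ⟨(a χ : ℤ) - e χ, ?_⟩
    rw [hs, hr]
    ring
  · have h : ((∑ χ ∈ Lam z c, s χ * (charDegree (χ : G → ℂ) : ℤ) : ℤ) : ℂ) = ((0 : ℤ) : ℂ) := by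
      push_cast
      have : ∀ χ ∈ Lam z c, ((s χ : ℤ) : ℂ) * (charDegree (χ : G → ℂ) : ℂ) =
          (χ : G → ℂ) x * (charDegree (χ : G → ℂ) : ℂ) + (χ : G → ℂ) x⁻¹ * (charDegree (χ : G → ℂ) : ℂ) := by
        intro χ _
        rw [sC]; ring
      rw [sum_congr rfl this, sum_add_distrib, S4, S5, add_zero]
    exact_mod_cast h
  · have h : ((∑ χ ∈ Lam z c, r χ * (charDegree (χ : G → ℂ) : ℤ) : ℤ) : ℂ) = ((0 : ℤ) : ℂ) := by
      push_cast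
      have : ∀ χ ∈ Lam z c, ((r χ : ℤ) : ℂ) * (charDegree (χ : G → ℂ) : ℂ) =
          (u - v) / 7 * ((χ : G → ℂ) x * (charDegree (χ : G → ℂ) : ℂ) -
            (χ : G → ℂ) x⁻¹ * (charDegree (χ : G → ℂ) : ℂ)) := by
        intro χ _
        linear_combination (charDegree (χ : G → ℂ) : ℂ) / 7 * rC χ
      rw [sum_congr rfl this, ← mul_sum, sum_sub_distrib, S4, S5, sub_zero, mul_zero]
    exact_mod_cast h
  · intro χ
    refine ⟨a χ, ?_⟩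
    have h : ((((charDegree (χ : G → ℂ) : ℤ) + 3 * s χ : ℤ)) : ℂ) = ((7 * (a χ : ℤ) : ℤ) : ℂ) := by
      push_cast
      rw [sC, h1 χ, charDegree_irr]
      ring
    exact_mod_cast h

end Cfsg.Agent.H725.Seven
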