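import Cfsg.Agent.H794.PP
import Cfsg.Agent.H284.SepOrd
import Cfsg.Agent.H902.Nice
import Cfsg.Agent.H725.CodRed

/-!
# The classification in the form used for codegrees (helper725)

* `classes` : alternating, Lie type with its order and a character of degree `|S|_p`, sporadic or Tits;
* `iso_two`, `iso_three` : simple groups of the order of `PSL₂(q)`, `PSL₃(q)`.
-/

set_option autoImplicit false

namespace Cfsg.Agent.H725.Cls

open Cfsg Cfsg.Agent.OrdDiv Cfsg.Agent.H902 Cfsg.Agent.H902.Names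

universe u v

theorem spor_real' {S : Type u} [Group S] (h : IsSporadicGroup S ∨ Lie.IsoTits S) :
    ∃ x ∈ spor, OrdDiv.Real x.1 S := by
  have key : ∀ g ∈ spor.map (fun x => x.1), OrdDiv.Real g S → ∃ x ∈ spor, OrdDiv.Real x.1 S := by
    intro g hg hr
    obtain ⟨x, hx, rfl⟩ := List.mem_map.1 hg
    exact ⟨x, hx, hr⟩
  rcases h with h | h
  · rcases h with h | h | h | h | h | h | h | h | h | h | h | h | h | h | h | h | h | h | h | h |
      h | h | h | h | h | h
    · exact key .m11 (by decide) h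
    · exact key .m12 (by decide) h
    · exact key .m22 (by decide) h
    · exact key .m23 (by decide) h
    · exact key .m24 (by decide) h
    · exact key .j1 (by decide) h
    · exact key .j2 (by decide) h
    · exact key .j3 (by decide) h
    · exact key .j4 (by decide) h
    · exact key .co1 (by decide) h
    · exact key .co2 (by decide) h
    · exact key .co3 (by decide) h
    · exact key .mcl (by decide) h
    · exact key .hs (by decide) h
    · exact key .suz (by decide) h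
    · exact key .he (by decide) h
    · exact key .ru (by decide) h
    · exact key .on (by decide) h
    · exact key .ly (by decide) h
    · exact key .fi22 (by decide) h
    · exact key .fi23 (by decide) h
    · exact key .fi24 (by decide) h
    · exact key .hn (by decide) h
    · exact key .th (by decide) h
    · exact key .b (by decide) h
    · exact key .m (by decide) h
  · exact key .tits (by decide) h

theorem exists_st {p : ℕ} (hp : p.Prime) {S : Type u} [Group S] [Finite S] [IsSimpleGroup S]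
    (h : IsLieTypeChar p S) : ∃ χ : IrrCharacter S, charDegree (χ : S → ℂ) = Art.P p (Nat.card S) := by
  have := Fact.mk hp
  obtain ⟨χ, hχ, h1⟩ := H163.Steinberg.exists_irr_of_hasSplit (H794.PP.hasSplit_of_isLieTypeChar hp h)
  refine ⟨⟨χ, hχ⟩, ?_⟩
  obtain ⟨h2, -⟩ := h1 default
  have h3 : charDegree (χ : S → ℂ) = Nat.card (default : Sylow p S) := by
    unfold charDegree
    rw [h2, Complex.natCast_re, Nat.floor_natCast]
  rw [show ((⟨χ, hχ⟩ : IrrCharacter S) : S → ℂ) = χ from rfl, h3, Sylow.card_eq_multiplicity]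
  rfl

theorem classes (T : OrderTable.{u}) {S : Type u} [Group S] [Finite S] [IsSimpleGroup S]
    (hK : IsKnownSimple' S) (hna : ¬ IsMulCommutative S) :
    (∃ n, 5 ≤ n ∧ Nonempty (S ≃* alternatingGroup (Fin n)) ∧ 2 * Nat.card S = n.factorial) ∨
    (∃ p X f, Art.Real X p f (Nat.card S) ∧ ∃ χ : IrrCharacter S, charDegree (χ : S → ℂ) = Art.P p (Nat.card S)) ∨
    (∃ x ∈ spor, OrdDiv.Real x.1 S ∧ Nat.card S = x.2) := by
  rcases OddHalf.Known.classify' hna hK with h1 | ⟨p, hp, h1⟩ | h1 | h1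
  · obtain ⟨n, hn, ⟨e⟩⟩ := h1
    refine Or.inl ⟨n, hn, ⟨e⟩, ?_⟩
    have : Nontrivial (Fin n) := Fin.nontrivial_iff_two_le.2 (by omega)
    rw [Nat.card_congr e.toEquiv, two_mul_nat_card_alternatingGroup, Nat.card_eq_fintype_card, Fintype.card_perm,
      Fintype.card_fin]
  · obtain ⟨X, f, hX⟩ := H284.SepOrd.real_of_lie T hp h1
    exact Or.inr (Or.inl ⟨p, X, f, hX, exists_st hp h1⟩)
  · obtain ⟨x, hx, h2⟩ := spor_real' (Or.inr h1)
    exact Or.inr (Or.inr ⟨x, hx, h2, T.spor S x hx h2⟩)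
  · obtain ⟨x, hx, h2⟩ := spor_real' (Or.inl h1)
    exact Or.inr (Or.inr ⟨x, hx, h2, T.spor S x hx h2⟩)

/-! ### groups of the order of `PSL₂(q)`, `PSL₃(q)` -/

theorem real_of_oodd {S : Type u} [Group S] {m q : ℕ} (hm : 3 ≤ m) (hq : Odd q)
    (h : OrdDiv.Real (.oodd m q) S) : ∃ p f, p.Prime ∧ q = p ^ f ∧ Art.Real (.C m) p f (Nat.card S) := by
  obtain ⟨F, _, _, hF, ⟨e⟩⟩ := h
  obtain ⟨p, f, hp, hf, hF'⟩ := exists_pp F
  refine ⟨p, f, hp, by rw [← hF, hF'], ?_⟩
  rw [Nat.card_congr e.toEquiv]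
  exact oodd_real hp hf hF' hm (by rw [← hF', hF]; exact hq)

theorem real_of_psp {S : Type u} [Group S] {m q : ℕ} (hm : 3 ≤ m)
    (h : OrdDiv.Real (.psp m q) S) : ∃ p f, p.Prime ∧ q = p ^ f ∧ Art.Real (.C m) p f (Nat.card S) := by
  obtain ⟨F, _, _, hF, ⟨e⟩⟩ := h
  obtain ⟨p, f, hp, hf, hF'⟩ := exists_pp F
  refine ⟨p, f, hp, by rw [← hF, hF'], ?_⟩
  rw [Nat.card_congr e.toEquiv]
  exact psp_real hp hf hF' (by omega) (by omega)

theorem not_both {n m p f p' f' M : ℕ} (h : Art.Real (.L n) p f M) (h' : Art.Real (.C m) p' f' M) (hm : 3 ≤ m)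
    (hodd : Odd (p' ^ f')) : False := by
  have key : ∀ N : ℕ, M = N → N < 3 ^ 9 * 2 → False := by
    rintro N rfl hN
    have h1 := h'.P_self
    have h2 : (p' ^ f') ^ Art.NN (.C m) ∣ M := by
      rw [← h1]
      exact Nat.ordProj_dvd M p'
    have h3 : 3 ≤ p' ^ f' := by
      have := h'.q_ge
      obtain ⟨k, hk⟩ := hodd
      omega
    have h4 : 9 ≤ Art.NN (.C m) := by
      change 9 ≤ m ^ 2
      nlinarith
    have h5 : 3 ^ 9 ≤ (p' ^ f') ^ Art.NN (.C m) :=
      (Nat.pow_le_pow_left h3 9).trans (Nat.pow_le_pow_right (by omega) h4)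
    have h6 : M ≠ 0 := h'.M_ne
    obtain ⟨c, hc⟩ := h2
    have hc1 : c = 1 := by
      have : c ≠ 0 := by rintro rfl; exact h6 (by rw [hc, mul_zero])
      by_contra hne
      have h7 : 3 ^ 9 * 2 ≤ M := by
        rw [hc]; exact Nat.mul_le_mul h5 (by omega)
      omega
    have h8 := h'.eq
    rw [hc, hc1, mul_one, mul_comm] at h8
    have h9 := Nat.eq_of_mul_eq_mul_left (Nat.pow_pos (by omega)) h8
    have h10 : Art.dd (.C m) (p' ^ f') ≤ 2 := Nat.gcd_le_left _ (by norm_num)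
    have h11 : (p' ^ f') ^ 2 - 1 ∣ Art.num (.C m) (p' ^ f') := by
      change _ ∣ ∏ i ∈ Finset.range m, ((p' ^ f') ^ (2 * (i + 1)) - 1)
      exact Finset.dvd_prod_of_mem (fun i => (p' ^ f') ^ (2 * (i + 1)) - 1) (Finset.mem_range.2 (by omega : 0 < m))
    rw [← h9] at h11
    have h12 := Nat.le_of_dvd (Nat.pos_of_ne_zero h'.dd_ne) h11
    have h13 : 3 ^ 2 ≤ (p' ^ f') ^ 2 := Nat.pow_le_pow_left h3 2
    omega
  rcases eq_or_ne p p' with rfl | hne
  · rcases Art.same_char h h' with h1 | h1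
    · exact absurd h1.1 (by simp)
    · exact key _ h1 (by norm_num)
  · rcases Art.cross_char h h' hne with h1 | h1 | h1
    · exact key _ h1 (by norm_num)
    · exact key _ h1 (by norm_num)
    · exact key _ h1 (by norm_num)

/-- A simple group `S` of the order of the simple group `L = PSL_n(F)`. -/
theorem iso_of_card (T : OrderTable.{u}) (T' : OrderTable.{v}) {S : Type u} [Group S] [Finite S] [IsSimpleGroup S]
    (hK : IsKnownSimple' S) (hna : ¬ IsMulCommutative S) {L : Type v} [Group L] [Finite L] [IsSimpleGroup L]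
    (hKL : IsKnownSimple' L) (hnaL : ¬ IsMulCommutative L) {n p f : ℕ}
    (hL : Art.Real (.L n) p f (Nat.card L)) (hc : Nat.card S = Nat.card L) :
    Nonempty (S ≃* L) ∨ (Nat.card L = 20160 ∧ (OrdDiv.Real (.alt 8) S ∨ OrdDiv.Real (.psl 3 4) S)) := by
  have hna' : ¬ ∀ a b : S, a * b = b * a := fun h => hna ⟨⟨h⟩⟩
  have hnaL' : ¬ ∀ a b : L, a * b = b * a := fun h => hnaL ⟨⟨h⟩⟩
  obtain ⟨g, hg, hn⟩ := exists_nice T hK hna'
  obtain ⟨g', hg', hn'⟩ := exists_nice T' hKL hnaL'
  rw [← hc] at hn'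
  have h20 : OrdDiv.Real (.alt 8) S ∨ OrdDiv.Real (.alt 8) L → Nat.card L = 20160 := by
    rintro (⟨⟨e⟩⟩ | ⟨⟨e⟩⟩)
    · rw [← hc, Nat.card_congr e.toEquiv, nat_card_alternatingGroup, Nat.card_eq_fintype_card, Fintype.card_fin]
      rfl
    · rw [Nat.card_congr e.toEquiv, nat_card_alternatingGroup, Nat.card_eq_fintype_card, Fintype.card_fin]
      rfl
  rcases nice_cmp hn hn' with rfl | ⟨rfl, rfl⟩ | ⟨rfl, rfl⟩ | ⟨m, q, hm, hq, rfl, rfl⟩ | ⟨m, q, hm, hq, rfl, rfl⟩
  · exact Or.inl (Iso.real_unique _ hg hg')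
  · exact Or.inr ⟨h20 (Or.inl hg), Or.inl hg⟩
  · exact Or.inr ⟨h20 (Or.inr hg'), Or.inr hg⟩
  · exfalso
    obtain ⟨p', f', -, rfl, h1⟩ := real_of_oodd hm hq hg'
    exact not_both hL h1 hm hq
  · exfalso
    obtain ⟨p', f', -, rfl, h1⟩ := real_of_psp hm hg'
    exact not_both hL h1 hm hq

end Cfsg.Agent.H725.Cls
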