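import Cfsg.Agent.H725.SimTwo
import Cfsg.Agent.H725.SimpleCls
import Cfsg.Agent.H677.OrdAltSpor

/-!
# Simple groups with codegrees among those of `SL₂(q)` (helper725)
-/

set_option autoImplicit false

namespace Cfsg.Agent.H725.SimTwo

open Cfsg Cfsg.Agent.H725.Cod Cfsg.Agent.H725.SLFacts Cfsg.Agent.OrdDiv
open Cfsg.Agent.H686.CharKit Cfsg.Agent.H677.CodPrime Cfsg.Agent.H677.CodMultiset

universe u v

theorem mono {m q : ℕ} (h : m ≤ q) : m * (m ^ 2 - 1) ≤ q * (q ^ 2 - 1) :=
  Nat.mul_le_mul h (Nat.sub_le_sub_right (Nat.pow_le_pow_left h 2) 1)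

/-- `4 x` is not `q (q² - 1)` for a sporadic order `x` -/
theorem spor_num : ∀ x ∈ spor, ∃ m, m * (m ^ 2 - 1) < 4 * x.2 ∧ 4 * x.2 < (m + 1) * ((m + 1) ^ 2 - 1) := by
  intro x hx
  simp only [spor, List.mem_cons, List.not_mem_nil, or_false] at hx
  rcases hx with rfl | rfl | rfl | rfl | rfl | rfl | rfl | rfl | rfl | rfl | rfl | rfl | rfl | rfl | rfl | rfl | rfl |
    rfl | rfl | rfl | rfl | rfl | rfl | rfl | rfl | rfl | rfl
  · exact ⟨415, by norm_num, by norm_num⟩
  · exact ⟨31, by norm_num, by norm_num⟩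
  · exact ⟨72, by norm_num, by norm_num⟩
  · exact ⟨121, by norm_num, by norm_num⟩
  · exact ⟨344, by norm_num, by norm_num⟩
  · exact ⟨993, by norm_num, by norm_num⟩
  · exact ⟨88, by norm_num, by norm_num⟩
  · exact ⟨134, by norm_num, by norm_num⟩
  · exact ⟨585, by norm_num, by norm_num⟩
  · exact ⟨7027796, by norm_num, by norm_num⟩
  · exact ⟨2552546, by norm_num, by norm_num⟩
  · exact ⟨55311, by norm_num, by norm_num⟩
  · exact ⟨12563, by norm_num, by norm_num⟩
  · exact ⟨1531, by norm_num, by norm_num⟩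
  · exact ⟨561, by norm_num, by norm_num⟩
  · exact ⟨12149, by norm_num, by norm_num⟩
  · exact ⟨2526, by norm_num, by norm_num⟩
  · exact ⟨8357, by norm_num, by norm_num⟩
  · exact ⟨12261, by norm_num, by norm_num⟩
  · exact ⟨591606, by norm_num, by norm_num⟩
  · exact ⟨63681, by norm_num, by norm_num⟩
  · exact ⟨2538491, by norm_num, by norm_num⟩
  · exact ⟨171234642, by norm_num, by norm_num⟩
  · exact ⟨102981, by norm_num, by norm_num⟩
  · exact ⟨713338, by norm_num, by norm_num⟩
  · exact ⟨255193373378, by norm_num, by norm_num⟩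
  · exact ⟨1478518986444697764, by norm_num, by norm_num⟩

theorem spor_no {x : Grp × ℕ} (hx : x ∈ spor) {q : ℕ} (h : 4 * x.2 = q * (q ^ 2 - 1)) : False := by
  obtain ⟨m, h1, h2⟩ := spor_num x hx
  rcases Nat.lt_or_ge q (m + 1) with h3 | h3
  · have := mono (Nat.lt_succ_iff.1 h3)
    omega
  · have := mono h3
    omega

theorem alt_no {N n p f : ℕ} (hp : p.Prime) (hodd : Odd (p ^ f)) (hn : 5 ≤ n)
    (h2 : 2 * N = n.factorial) (h : 4 * N = p ^ f * ((p ^ f) ^ 2 - 1)) : False := by
  have hN : N ≠ 0 := by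
    rintro rfl
    exact (Nat.factorial_pos n).ne h2
  have hq : 0 < p ^ f := Nat.pow_pos hp.pos
  have h1 : p ^ f ∣ N := by
    have h3 : p ^ f ∣ 4 * N := ⟨_, h⟩
    refine Nat.Coprime.dvd_of_dvd_mul_left ?_ h3
    exact Nat.Coprime.pow_right 2 (Nat.coprime_two_right.2 hodd)
  have h3 : f ≤ N.factorization p := (hp.pow_dvd_iff_le_factorization hN).1 h1
  have h4 : N < (p ^ (N.factorization p)) ^ 3 := by
    have h5 : (p ^ f) ^ 3 ≤ (p ^ (N.factorization p)) ^ 3 :=
      Nat.pow_le_pow_left (Nat.pow_le_pow_right hp.pos h3) 3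
    have h6 : p ^ f * ((p ^ f) ^ 2 - 1) < (p ^ f) ^ 3 := by
      rw [show (p ^ f) ^ 3 = p ^ f * (p ^ f) ^ 2 by ring]
      have h7 : 0 < (p ^ f) ^ 2 := Nat.pow_pos hq
      exact Nat.mul_lt_mul_of_pos_left (by omega) hq
    omega
  have h5 : n ≤ 10 := by
    rcases H677.OrdAltSpor.small hp hn h2 h4 with ⟨rfl, h5⟩ | ⟨-, h5⟩ | ⟨-, h5⟩
    · exfalso
      have hf : f = 0 := by
        by_contra hf
        exact (Nat.not_odd_iff_even.2 ((Nat.even_pow.2 ⟨even_two, hf⟩))) hodd
      rw [hf] at h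
      norm_num at h
      exact hN h
    · exact h5
    · omega
  have h6 : p ^ f * ((p ^ f) ^ 2 - 1) = 2 * n.factorial := by omega
  generalize p ^ f = q at h6
  have key : ∀ m, m * (m ^ 2 - 1) < 2 * n.factorial → 2 * n.factorial < (m + 1) * ((m + 1) ^ 2 - 1) → False := by
    intro m h7 h8
    rcases Nat.lt_or_ge q (m + 1) with h9 | h9
    · have := mono (Nat.lt_succ_iff.1 h9)
      omega
    · have := mono h9
      omega
  interval_cases n
  · exact key 6 (by decide) (by decide)
  · exact key 11 (by decide) (by decide)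
  · exact key 21 (by decide) (by decide)
  · exact key 43 (by decide) (by decide)
  · exact key 89 (by decide +kernel) (by decide +kernel)
  · exact key 193 (by decide +kernel) (by decide +kernel)

theorem psl_nonab {F : Type} [Field F] [Fintype F] (h5 : 5 ≤ Fintype.card F) :
    ¬ IsMulCommutative (Matrix.ProjectiveSpecialLinearGroup (Fin 2) F) :=
  (qs_two (F := F) (by omega)).quotient_nonabelian

theorem simOK_two (T : OrderTable.{u}) (T' : OrderTable.{0})
    (hK : ∀ (S : Type u) [Group S] [Finite S] [IsSimpleGroup S], IsKnownSimple' S)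
    {F : Type} [Field F] [Fintype F] (h5 : 5 ≤ Fintype.card F) :
    SimOK.{u, 0} (Matrix.SpecialLinearGroup (Fin 2) F) := by
  intro S _ _ _ hS
  have hQ := qs_two (F := F) (by omega)
  obtain ⟨p, f, hp, hf, hF⟩ := exists_pp F
  have hna := hS.nonabelian hQ
  have hsim : IsSimpleGroup (Matrix.ProjectiveSpecialLinearGroup (Fin 2) F) := hQ.simple
  have hidx := index_two (F := F)
  obtain ⟨h1, h2⟩ := order_two h5 hS
  rcases h1 with h1 | ⟨h1, hodd⟩
  · -- equal orders
    have hreal : H902.Art.Real (.L 2) p f (Nat.card (Matrix.ProjectiveSpecialLinearGroup (Fin 2) F)) :=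
      H902.Names.psl_real hp hf hF le_rfl (by rw [← hF]; omega)
    have hKL : IsKnownSimple' (Matrix.ProjectiveSpecialLinearGroup (Fin 2) F) :=
      Or.inr (Or.inr (Or.inl ⟨F, _, _, 2, le_rfl, fun _ => by omega, ⟨MulEquiv.refl _⟩⟩))
    rcases Cls.iso_of_card T T' (hK S) hna hKL (psl_nonab h5) hreal h1 with ⟨⟨e⟩⟩ | ⟨h3, -⟩
    · exact Or.inr ⟨e⟩
    · exfalso
      have h4 : (Subgroup.center (Matrix.SpecialLinearGroup (Fin 2) F)).index = 20160 := h3
      rw [h4] at hidx
      have hg : Nat.gcd 2 (Fintype.card F - 1) = 1 ∨ Nat.gcd 2 (Fintype.card F - 1) = 2 :=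
        (Nat.dvd_prime Nat.prime_two).1 (Nat.gcd_dvd_left _ _)
      have key : ∀ m N, m * (m ^ 2 - 1) < N → N < (m + 1) * ((m + 1) ^ 2 - 1) →
          N ≠ Fintype.card F * (Fintype.card F ^ 2 - 1) := by
        intro m N h7 h8 h9
        rcases Nat.lt_or_ge (Fintype.card F) (m + 1) with h10 | h10
        · have := mono (Nat.lt_succ_iff.1 h10)
          omega
        · have := mono h10
          omega
      rcases hg with hg | hg
      · rw [hg] at hidx
        exact key 27 _ (by norm_num) (by norm_num) hidx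
      · rw [hg] at hidx
        exact key 34 _ (by norm_num) (by norm_num) hidx
  · exfalso
    have hg : Nat.gcd 2 (Fintype.card F - 1) = 2 := by
      apply Nat.gcd_eq_left
      obtain ⟨k, hk⟩ := hodd
      omega
    rw [hg] at hidx
    rcases Cls.classes T (hK S) hna with ⟨n, hn, -, h3⟩ | ⟨ℓ, X, g, h3, χ, hχ⟩ | ⟨x, hx, -, h3⟩
    · rw [hF] at h1 hodd
      exact alt_no hp hodd hn h3 h1
    · have h4 := h3.lt_cube
      rw [← hχ] at h4
      have h5' : χ ≠ one S := by
        rintro rfl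
        rw [charDegree_one, one_pow] at h4
        have : 0 < Nat.card S := Nat.card_pos
        omega
      obtain ⟨t, ht, hD⟩ := h2 χ h5'
      have ht2 : t = 2 := by
        have h6 : Nat.card S * t = Nat.card S * 2 := by rw [ht]; omega
        exact Nat.eq_of_mul_eq_mul_left Nat.card_pos h6
      rw [ht2] at hD
      have h7 : 2 * charDegree (χ : S → ℂ) ≤ Fintype.card F + 1 := by
        rcases hD with h8 | ⟨i, hi, h8⟩
        · omega
        · have : 2 * charDegree (χ : S → ℂ) ≤ i * (2 * charDegree (χ : S → ℂ)) :=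
            Nat.le_mul_of_pos_left _ (by omega)
          omega
      have h8 : (2 * charDegree (χ : S → ℂ)) ^ 3 ≤ (Fintype.card F + 1) ^ 3 := Nat.pow_le_pow_left h7 3
      have h9 : (2 * charDegree (χ : S → ℂ)) ^ 3 = 8 * charDegree (χ : S → ℂ) ^ 3 := by ring
      obtain ⟨a, ha⟩ : ∃ a, Fintype.card F = a + 5 := ⟨Fintype.card F - 5, by omega⟩
      rw [ha] at h8 h1
      have e1 : (a + 5) ^ 2 - 1 = a ^ 2 + 10 * a + 24 := by
        have : (a + 5) ^ 2 = a ^ 2 + 10 * a + 24 + 1 := by ring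
        rw [this, Nat.add_sub_cancel]
      rw [e1] at h1
      nlinarith
    · rw [h3] at h1
      exact spor_no hx h1

end Cfsg.Agent.H725.SimTwo
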