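import Cfsg.Agent.H725.ThreeNum
import Cfsg.Agent.H539.PartCount
import Cfsg.Agent.S4198

/-!
# Orders of alternating groups and `q³(q² - 1)(q³ - 1)` (helper725)
-/

set_option autoImplicit false

namespace Cfsg.Agent.H725.ThreeNum

/-- `n`, `n!`, `3 fib (n + 1) n!` for `5 ≤ n ≤ 48` -/
def altTbl : List (ℕ × ℕ × ℕ) :=
  (List.range 44).map fun i => (i + 5, (i + 5).factorial, 3 * Nat.fib (i + 6) * (i + 5).factorial)

def altChk (L q : ℕ) (l : List (ℕ × ℕ × ℕ)) : Bool :=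
  l.all fun x => Nat.ble x.2.2 L || (!(Nat.beq (L % x.2.1) 0) || (Nat.beq q 4 && (Nat.beq x.1 7 || Nat.beq x.1 8)))

theorem altChk_all : (List.range 49).all (fun p => (List.range 31).all fun f => Nat.ble p 1 || Nat.beq f 0 ||
    altChk (2 * LL (p ^ f)) (p ^ f) altTbl) = true := by
  decide +kernel

theorem alt_fin {p f n : ℕ} (hp : 2 ≤ p) (hp' : p ≤ 48) (hf : 1 ≤ f) (hf' : f ≤ 30) (hn : 5 ≤ n) (hn' : n ≤ 48)
    (h1 : 2 * LL (p ^ f) < 3 * Nat.fib (n + 1) * n.factorial) (h2 : n.factorial ∣ 2 * LL (p ^ f)) :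
    p ^ f = 4 ∧ (n = 7 ∨ n = 8) := by
  have h := altChk_all
  rw [List.all_eq_true] at h
  have h3 := h p (List.mem_range.2 (by omega))
  rw [List.all_eq_true] at h3
  have h4 := h3 f (List.mem_range.2 (by omega))
  simp only [Bool.or_eq_true, Nat.ble_eq, Nat.beq_eq] at h4
  rcases h4 with (h4 | h4) | h4
  · omega
  · omega
  · unfold altChk at h4
    rw [List.all_eq_true] at h4
    have h5 := h4 (n, n.factorial, 3 * Nat.fib (n + 1) * n.factorial) (by
      unfold altTbl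
      rw [List.mem_map]
      refine ⟨n - 5, List.mem_range.2 (by omega), ?_⟩
      rw [show n - 5 + 5 = n by omega, show n - 5 + 6 = n + 1 by omega])
    simp only [Bool.or_eq_true, Bool.and_eq_true, Bool.not_eq_true', Nat.ble_eq, Nat.beq_eq] at h5
    rcases h5 with h5 | h5 | h5
    · omega
    · exfalso
      rw [Nat.mod_eq_zero_of_dvd h2] at h5
      exact absurd h5 (by decide)
    · exact h5

theorem pow_v_le {p n : ℕ} (hp : p.Prime) (hn : 1 ≤ n) : p ^ (n.factorial.factorization p) ≤ 2 ^ (n - 1) := by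
  have := Fact.mk hp
  have h1 := sub_one_mul_padicValNat_factorial (p := p) n
  rw [← Nat.factorization_def _ hp] at h1
  have h2 : 1 ≤ (p.digits n).sum := by
    by_contra h
    have h3 : (p.digits n).sum = 0 := by omega
    rw [List.sum_eq_zero_iff] at h3
    have h4 : p.digits n ≠ [] := Nat.digits_ne_nil_iff_ne_zero.2 (by omega)
    have h5 := h3 _ (List.getLast_mem h4)
    exact Nat.getLast_digit_ne_zero p (by omega) h5
  have h3 : (p - 1) * n.factorial.factorization p ≤ n - 1 := by omega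
  have h4 : p ≤ 2 ^ (p - 1) := by
    have := Nat.lt_two_pow_self (n := p - 1)
    have := hp.two_le
    omega
  calc p ^ (n.factorial.factorization p) ≤ (2 ^ (p - 1)) ^ (n.factorial.factorization p) :=
        Nat.pow_le_pow_left h4 _
    _ = 2 ^ ((p - 1) * n.factorial.factorization p) := (pow_mul _ _ _).symm
    _ ≤ 2 ^ (n - 1) := Nat.pow_le_pow_right (by norm_num) h3

theorem fact_big {n : ℕ} (hn : 49 ≤ n) : 2 ^ (13 * n - 15) ≤ n.factorial ^ 3 := by
  induction n, hn using Nat.le_induction with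
  | base => decide +kernel
  | succ n hn ih =>
    rw [Nat.factorial_succ, mul_pow, show 13 * (n + 1) - 15 = 13 + (13 * n - 15) by omega, pow_add]
    refine Nat.mul_le_mul ?_ ih
    calc 2 ^ 13 ≤ 50 ^ 3 := by norm_num
      _ ≤ (n + 1) ^ 3 := Nat.pow_le_pow_left (by omega) 3

/-- alternating groups -/
theorem alt_num {p f n N t k : ℕ} (hp : p.Prime) (hf : 1 ≤ f) (hn : 5 ≤ n) (h2 : 2 * N = n.factorial)
    (hpN : p ∣ N) (ht : t < k) (hk : k ≤ Nat.fib (n + 1)) (hk' : k ≤ 2 ^ (n - 2))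
    (hL : Nat.gcd 3 (p ^ f - 1) * (N * t) = LL (p ^ f)) : p ^ f = 4 ∧ (n = 7 ∨ n = 8) := by
  have hq : 2 ≤ p ^ f := hp.two_le.trans (Nat.le_self_pow (by omega) p)
  have hL0 := LL_pos hq
  have ht0 : t ≠ 0 := by rintro rfl; rw [mul_zero, mul_zero] at hL; omega
  have hN0 : N ≠ 0 := by rintro rfl; rw [zero_mul, mul_zero] at hL; omega
  -- `q³ ≤ 2 ^ (n - 1) * t`
  have hcop : Nat.Coprime ((p ^ f) ^ 3) (Nat.gcd 3 (p ^ f - 1)) := by
    apply Nat.Coprime.pow_left
    have h3 : Nat.gcd (p ^ f) (Nat.gcd 3 (p ^ f - 1)) ∣ 1 := by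
      have h4 : Nat.gcd (p ^ f) (Nat.gcd 3 (p ^ f - 1)) ∣ p ^ f := Nat.gcd_dvd_left _ _
      have h5 : Nat.gcd (p ^ f) (Nat.gcd 3 (p ^ f - 1)) ∣ p ^ f - 1 :=
        (Nat.gcd_dvd_right _ _).trans (Nat.gcd_dvd_right _ _)
      have h6 := Nat.dvd_sub h4 h5
      rwa [Nat.sub_sub_self (by omega)] at h6
    exact Nat.dvd_one.1 h3
  have h3 : (p ^ f) ^ 3 ∣ N * t := by
    refine hcop.dvd_of_dvd_mul_left ?_
    rw [hL]
    unfold LL
    exact (dvd_mul_right _ _).mul_right _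
  have h4 : (p ^ f) ^ 3 ≤ 2 ^ (n - 1) * t := by
    rw [← pow_mul] at h3 ⊢
    have h5 := (hp.pow_dvd_iff_le_factorization (Nat.mul_ne_zero hN0 ht0)).1 h3
    rw [Nat.factorization_mul hN0 ht0, Finsupp.add_apply] at h5
    calc p ^ (f * 3) ≤ p ^ (N.factorization p + t.factorization p) := Nat.pow_le_pow_right hp.pos h5
      _ = p ^ (N.factorization p) * p ^ (t.factorization p) := pow_add _ _ _
      _ ≤ 2 ^ (n - 1) * t := by
        refine Nat.mul_le_mul ?_ (Nat.ordProj_le p ht0)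
        refine le_trans (Nat.pow_le_pow_right hp.pos ?_) (pow_v_le hp (n := n) (by omega))
        rw [← h2]
        exact (Nat.factorization_le_iff_dvd hN0 (by omega)).2 (dvd_mul_left _ _) p
  have ht' : t ≤ 2 ^ (n - 2) := by omega
  have hNt : N * t ≤ LL (p ^ f) := by
    rw [← hL]
    have : 0 < Nat.gcd 3 (p ^ f - 1) := Nat.gcd_pos_of_pos_left _ (by norm_num)
    exact Nat.le_mul_of_pos_left _ this
  have hn48 : n ≤ 48 := by
    by_contra hcon
    have h5 := fact_big (n := n) (by omega)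
    have h6 : (N * t) ^ 3 < (2 ^ (n - 1) * t) ^ 8 := by
      calc (N * t) ^ 3 ≤ LL (p ^ f) ^ 3 := Nat.pow_le_pow_left hNt 3
        _ < ((p ^ f) ^ 8) ^ 3 := Nat.pow_lt_pow_left (LL_lt_pow hq) (by norm_num)
        _ = ((p ^ f) ^ 3) ^ 8 := by ring
        _ ≤ _ := Nat.pow_le_pow_left h4 8
    have h7 : N ^ 3 < (2 ^ (n - 1)) ^ 8 * t ^ 5 := by
      have h8 : t ^ 3 * N ^ 3 < t ^ 3 * ((2 ^ (n - 1)) ^ 8 * t ^ 5) := by
        calc t ^ 3 * N ^ 3 = (N * t) ^ 3 := by ring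
          _ < (2 ^ (n - 1) * t) ^ 8 := h6
          _ = _ := by ring
      exact Nat.lt_of_mul_lt_mul_left h8
    have h8 : (2 ^ (n - 1)) ^ 8 * t ^ 5 ≤ 2 ^ (13 * n - 18) := by
      calc (2 ^ (n - 1)) ^ 8 * t ^ 5 ≤ (2 ^ (n - 1)) ^ 8 * (2 ^ (n - 2)) ^ 5 :=
            Nat.mul_le_mul_left _ (Nat.pow_le_pow_left ht' 5)
        _ = 2 ^ (13 * n - 18) := by
          rw [← pow_mul, ← pow_mul, ← pow_add]
          congr 1
          omega
    have h9 : n.factorial ^ 3 = 8 * N ^ 3 := by rw [← h2]; ring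
    have h10 : 2 ^ (13 * n - 15) = 8 * 2 ^ (13 * n - 18) := by
      rw [show (8 : ℕ) = 2 ^ 3 by norm_num, ← pow_add]
      congr 1
      omega
    omega
  have hpn : p ≤ 48 := by
    have h5 : p ∣ n.factorial := by rw [← h2]; exact hpN.mul_left 2
    have := (hp.dvd_factorial).1 h5
    omega
  have hf30 : f ≤ 30 := by
    by_contra hcon
    have h5 : 2 ^ 93 ≤ (p ^ f) ^ 3 := by
      calc 2 ^ 93 = (2 ^ 31) ^ 3 := by norm_num
        _ ≤ (p ^ f) ^ 3 := Nat.pow_le_pow_left ((Nat.pow_le_pow_right (by norm_num) (by omega)).trans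
          (Nat.pow_le_pow_left hp.two_le f)) 3
    have h6 : 2 ^ (n - 1) * t < 2 ^ 93 := by
      calc 2 ^ (n - 1) * t < 2 ^ (n - 1) * 2 ^ (n - 2) :=
            Nat.mul_lt_mul_of_pos_left (by omega) (by positivity)
        _ ≤ 2 ^ 47 * 2 ^ 46 := Nat.mul_le_mul (Nat.pow_le_pow_right (by norm_num) (by omega))
            (Nat.pow_le_pow_right (by norm_num) (by omega))
        _ = 2 ^ 93 := by norm_num
    omega
  refine alt_fin hp.two_le hpn hf hf30 hn hn48 ?_ ?_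
  · rw [← hL]
    have hg : Nat.gcd 3 (p ^ f - 1) ≤ 3 := Nat.gcd_le_left _ (by norm_num)
    calc 2 * (Nat.gcd 3 (p ^ f - 1) * (N * t)) = Nat.gcd 3 (p ^ f - 1) * (2 * N) * t := by ring
      _ ≤ 3 * (2 * N) * t := Nat.mul_le_mul_right _ (Nat.mul_le_mul_right _ hg)
      _ = 3 * n.factorial * t := by rw [h2]
      _ < 3 * n.factorial * Nat.fib (n + 1) :=
        Nat.mul_lt_mul_of_pos_left (by omega) (by have := Nat.factorial_pos n; omega)
      _ = _ := by ring
  · rw [← hL, ← h2]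
    exact ⟨Nat.gcd 3 (p ^ f - 1) * t, by ring⟩

end Cfsg.Agent.H725.ThreeNum
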