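import Cfsg.Agent.H725.ThreeCross
import Cfsg.Agent.H902.Facts

/-!
# Orders of simple groups of Lie type and `q³(q² - 1)(q³ - 1)` (helper725)
-/

set_option autoImplicit false

namespace Cfsg.Agent.H725.ThreeNum

open Cfsg.Agent.H902 Cfsg.Agent.H902.Art

theorem real_L2 {ℓ g N : ℕ} (h : Real (.L 2) ℓ g N) : 4 ≤ ℓ ^ g ∧ P ℓ N = ℓ ^ g ∧
    Nat.gcd 2 (ℓ ^ g - 1) * N = ℓ ^ g * ((ℓ ^ g) ^ 2 - 1) := by
  refine ⟨h.ok.2 rfl, ?_, ?_⟩
  · have h1 := h.P_self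
    have h2 : NN (.L 2) = 1 := rfl
    rw [h2, pow_one] at h1
    exact h1
  · have h1 := h.eq
    have h2 : NN (.L 2) = 1 := rfl
    have h3 : num (.L 2) (ℓ ^ g) = (ℓ ^ g) ^ 2 - 1 := by
      change ∏ i ∈ Finset.range 1, ((ℓ ^ g) ^ (i + 2) - 1) = _
      rw [Finset.prod_range_one]
    rw [h2, pow_one, h3] at h1
    exact h1

theorem NN_no {X : Sh} {p f : ℕ} (h : Ok X p f) (hN : NN X = 1 ∨ NN X = 5) : X = .L 2 := by
  cases X with
  | L n =>
    obtain ⟨h1, -⟩ := h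
    change n * (n - 1) / 2 = 1 ∨ n * (n - 1) / 2 = 5 at hN
    rcases Nat.lt_or_ge n 5 with h2 | h2
    · interval_cases n
      · rfl
      · omega
      · omega
    · exfalso
      obtain ⟨k, rfl⟩ : ∃ k, n = k + 5 := ⟨n - 5, by omega⟩
      have h3 : (k + 5) * (k + 5 - 1) = k ^ 2 + 9 * k + 20 := by
        rw [show k + 5 - 1 = k + 4 by omega]; ring
      rw [h3] at hN
      omega
  | C m =>
    exfalso
    obtain ⟨h1, -⟩ := h
    change m ^ 2 = 1 ∨ m ^ 2 = 5 at hN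
    rcases Nat.lt_or_ge m 3 with h2 | h2
    · have : m = 2 := by omega
      subst this
      omega
    · have : 3 ^ 2 ≤ m ^ 2 := Nat.pow_le_pow_left h2 2
      omega
  | U n =>
    exfalso
    obtain ⟨h1, -⟩ := h
    change n * (n - 1) / 2 = 1 ∨ n * (n - 1) / 2 = 5 at hN
    rcases Nat.lt_or_ge n 5 with h2 | h2
    · interval_cases n
      · omega
      · omega
    · obtain ⟨k, rfl⟩ : ∃ k, n = k + 5 := ⟨n - 5, by omega⟩
      have h3 : (k + 5) * (k + 5 - 1) = k ^ 2 + 9 * k + 20 := by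
        rw [show k + 5 - 1 = k + 4 by omega]; ring
      rw [h3] at hN
      omega
  | D m =>
    exfalso
    have h1 : 4 ≤ m := h
    change m * (m - 1) = 1 ∨ m * (m - 1) = 5 at hN
    have : 4 * 3 ≤ m * (m - 1) := Nat.mul_le_mul h1 (by omega)
    omega
  | DD m =>
    exfalso
    have h1 : 4 ≤ m := h
    change m * (m - 1) = 1 ∨ m * (m - 1) = 5 at hN
    have : 4 * 3 ≤ m * (m - 1) := Nat.mul_le_mul h1 (by omega)
    omega
  | G2 => exact absurd hN (by decide)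
  | F4 => exact absurd hN (by decide)
  | E6 => exact absurd hN (by decide)
  | E7 => exact absurd hN (by decide)
  | E8 => exact absurd hN (by decide)
  | TE6 => exact absurd hN (by decide)
  | TD4 => exact absurd hN (by decide)
  | Sz => exact absurd hN (by decide)
  | Ree => exact absurd hN (by decide)
  | TF4 => exact absurd hN (by decide)

/-- `(q² - 1)(q³ - 1)` in terms of `y = q - 1` -/
def mm (y : ℕ) : ℕ := y ^ 2 * (y + 2) * ss y

theorem mm_eq (y : ℕ) : ((y + 1) ^ 2 - 1) * ((y + 1) ^ 3 - 1) = mm y := by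
  have h := RPart.fact_form (q := y + 1) (by omega)
  rw [h, Nat.add_sub_cancel]
  unfold mm ss
  ring

theorem two_mm {y : ℕ} (hy : 1 ≤ y) : (y + 1) ^ 5 ≤ 2 * mm y := by
  obtain ⟨z, rfl⟩ : ∃ z, y = z + 1 := ⟨y - 1, by omega⟩
  have : 2 * mm (z + 1) = (z + 1 + 1) ^ 5 + (1 * z ^ 5 + 10 * z ^ 4 + 38 * z ^ 3 + 66 * z ^ 2 + 48 * z + 10) := by
    unfold mm ss; ring
  omega

theorem big_mm {y : ℕ} (hy : 15 ≤ y) : 20 * (y + 1) ^ 5 ≤ 21 * mm y := by
  obtain ⟨z, rfl⟩ : ∃ z, y = z + 15 := ⟨y - 15, by omega⟩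
  have : 21 * mm (z + 15) = 20 * (z + 15 + 1) ^ 5 + (1 * z ^ 5 + 80 * z ^ 4 + 2539 * z ^ 3 + 39931 * z ^ 2 +
      310880 * z + 957205) := by
    unfold mm ss; ring
  omega

/-- the same characteristic -/
theorem same {X : Sh} {p f g N t : ℕ} (hf : 1 ≤ f) (h : Real X p g N) (hst : t * P p N = (p ^ f) ^ 3)
    (hL : Nat.gcd 3 (p ^ f - 1) * (N * t) = LL (p ^ f)) : t = 1 := by
  have hp := h.hp
  have hq : 2 ≤ p ^ f := hp.two_le.trans (Nat.le_self_pow (by omega) p)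
  have hQ0 : 0 < P p N := P_pos hp
  have hg : Nat.gcd 3 (p ^ f - 1) = 1 ∨ Nat.gcd 3 (p ^ f - 1) = 3 :=
    (Nat.dvd_prime Nat.prime_three).1 (Nat.gcd_dvd_left _ _)
  obtain ⟨c, hc⟩ := P_dvd p N
  have ht0 : 0 < t := by
    rcases Nat.eq_zero_or_pos t with h' | h'
    · rw [h', zero_mul] at hst
      exact absurd hst (Nat.pow_pos (by omega)).ne
    · exact h'
  have hdc : Nat.gcd 3 (p ^ f - 1) * c = ((p ^ f) ^ 2 - 1) * ((p ^ f) ^ 3 - 1) := by
    have h1 : (p ^ f) ^ 3 * (Nat.gcd 3 (p ^ f - 1) * c) = (p ^ f) ^ 3 * (((p ^ f) ^ 2 - 1) * ((p ^ f) ^ 3 - 1)) := by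
      rw [← mul_assoc ((p ^ f) ^ 3) ((p ^ f) ^ 2 - 1)]
      change _ = LL (p ^ f)
      rw [← hL, ← hst]
      have h2 : N * t = t * P p N * c := by
        calc N * t = (P p N * c) * t := by rw [← hc]
          _ = t * P p N * c := by ring
      rw [h2]
      ring
    exact Nat.eq_of_mul_eq_mul_left (Nat.pow_pos (by omega)) h1
  obtain ⟨y, hy⟩ : ∃ y, p ^ f = y + 1 := ⟨p ^ f - 1, by omega⟩
  have hdc' : Nat.gcd 3 y * c = mm y := by
    rw [hy, mm_eq, Nat.add_sub_cancel] at hdc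
    exact hdc
  by_cases hX : X = .L 2
  · -- `PSL₂`
    exfalso
    subst hX
    obtain ⟨h4, h5, h6⟩ := real_L2 h
    rw [h5] at hc hst
    have h7 : Nat.gcd 2 (p ^ g - 1) * c = (p ^ g) ^ 2 - 1 := by
      have h8 : p ^ g * (Nat.gcd 2 (p ^ g - 1) * c) = p ^ g * ((p ^ g) ^ 2 - 1) := by
        rw [← h6]
        calc p ^ g * (Nat.gcd 2 (p ^ g - 1) * c) = Nat.gcd 2 (p ^ g - 1) * (p ^ g * c) := by ring
          _ = _ := by rw [← hc]
      exact Nat.eq_of_mul_eq_mul_left (by omega) h8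
    have he : Nat.gcd 2 (p ^ g - 1) = 1 ∨ Nat.gcd 2 (p ^ g - 1) = 2 :=
      (Nat.dvd_prime Nat.prime_two).1 (Nat.gcd_dvd_left _ _)
    have h9 : Nat.gcd 3 (p ^ f - 1) * ((p ^ g) ^ 2 - 1) =
        Nat.gcd 2 (p ^ g - 1) * (((p ^ f) ^ 2 - 1) * ((p ^ f) ^ 3 - 1)) := by
      rw [← h7, ← hdc]
      ring
    rcases Nat.lt_or_ge g f with h10 | h10
    · have h11 : p ^ g < p ^ f := Nat.pow_lt_pow_right hp.one_lt h10
      have h12 : (p ^ g) ^ 2 < (p ^ f) ^ 2 := Nat.pow_lt_pow_left h11 (by norm_num)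
      have h13 : 0 < (p ^ g) ^ 2 := Nat.pow_pos (by omega)
      have h14 : 2 ^ 3 ≤ (p ^ f) ^ 3 := Nat.pow_le_pow_left hq 3
      have h15 : ((p ^ f) ^ 2 - 1) * 7 ≤ ((p ^ f) ^ 2 - 1) * ((p ^ f) ^ 3 - 1) := Nat.mul_le_mul_left _ (by omega)
      rcases hg with hg | hg <;> rcases he with he | he <;> rw [hg, he] at h9 <;> omega
    · have h11 : (p ^ f) ^ 2 ∣ (p ^ g) ^ 2 := pow_dvd_pow_of_dvd (pow_dvd_pow p h10) 2
      have h12 : ((p ^ f) ^ 2 - 1) * ((p ^ f) ^ 3 - 1) + (p ^ f) ^ 2 + (p ^ f) ^ 3 = (p ^ f) ^ 5 + 1 := by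
        have h13 : 1 ≤ (p ^ f) ^ 2 := Nat.one_le_pow _ _ (by omega)
        have h14 : 1 ≤ (p ^ f) ^ 3 := Nat.one_le_pow _ _ (by omega)
        obtain ⟨a, ha⟩ : ∃ a, (p ^ f) ^ 2 = a + 1 := ⟨_, (Nat.sub_add_cancel h13).symm⟩
        obtain ⟨b, hb⟩ : ∃ b, (p ^ f) ^ 3 = b + 1 := ⟨_, (Nat.sub_add_cancel h14).symm⟩
        have h15 : (p ^ f) ^ 5 = (p ^ f) ^ 2 * (p ^ f) ^ 3 := by ring
        rw [h15, ha, hb, Nat.add_sub_cancel, Nat.add_sub_cancel]
        ring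
      have h13 : Nat.gcd 3 (p ^ f - 1) * (p ^ g) ^ 2 + Nat.gcd 2 (p ^ g - 1) * ((p ^ f) ^ 2 + (p ^ f) ^ 3) =
          Nat.gcd 2 (p ^ g - 1) * (p ^ f) ^ 5 + (Nat.gcd 3 (p ^ f - 1) + Nat.gcd 2 (p ^ g - 1)) := by
        have h14 : 1 ≤ (p ^ g) ^ 2 := Nat.one_le_pow _ _ (by omega)
        obtain ⟨a, ha⟩ : ∃ a, (p ^ g) ^ 2 = a + 1 := ⟨_, (Nat.sub_add_cancel h14).symm⟩
        rw [ha, Nat.add_sub_cancel] at h9
        calc Nat.gcd 3 (p ^ f - 1) * (p ^ g) ^ 2 + Nat.gcd 2 (p ^ g - 1) * ((p ^ f) ^ 2 + (p ^ f) ^ 3)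
            = Nat.gcd 3 (p ^ f - 1) * a + Nat.gcd 3 (p ^ f - 1) +
              Nat.gcd 2 (p ^ g - 1) * ((p ^ f) ^ 2 + (p ^ f) ^ 3) := by rw [ha]; ring
          _ = Nat.gcd 2 (p ^ g - 1) * (((p ^ f) ^ 2 - 1) * ((p ^ f) ^ 3 - 1) + (p ^ f) ^ 2 + (p ^ f) ^ 3) +
              Nat.gcd 3 (p ^ f - 1) := by rw [h9]; ring
          _ = _ := by rw [h12]; ring
      have h14 : (p ^ f) ^ 2 ∣ Nat.gcd 2 (p ^ g - 1) * (p ^ f) ^ 5 +
          (Nat.gcd 3 (p ^ f - 1) + Nat.gcd 2 (p ^ g - 1)) := by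
        rw [← h13]
        refine dvd_add (h11.mul_left _) (Dvd.dvd.mul_left (dvd_add dvd_rfl (pow_dvd_pow _ (by norm_num))) _)
      have h15 : (p ^ f) ^ 2 ∣ Nat.gcd 3 (p ^ f - 1) + Nat.gcd 2 (p ^ g - 1) :=
        (Nat.dvd_add_right (Dvd.dvd.mul_left (pow_dvd_pow _ (by norm_num)) _)).1 h14
      have h16 := Nat.le_of_dvd (by rcases hg with hg | hg <;> rw [hg] <;> omega) h15
      have h17 : p ^ f = 2 := by
        by_contra hne
        have : 3 ^ 2 ≤ (p ^ f) ^ 2 := Nat.pow_le_pow_left (by omega) 2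
        rcases hg with hg | hg <;> rcases he with he | he <;> rw [hg, he] at h16 <;> omega
      rw [h17] at h15 h16
      have hg1 : Nat.gcd 3 (2 - 1) = 1 := by norm_num
      rw [hg1] at h16
      rcases he with he | he <;> rw [he] at h16 <;> omega
  · have hcube := h.cube hX
    have hc3 : c ^ 3 ≤ P p N ^ 5 := by
      have h1 : P p N ^ 3 * c ^ 3 ≤ P p N ^ 3 * P p N ^ 5 := by
        calc P p N ^ 3 * c ^ 3 = (P p N * c) ^ 3 := by ring
          _ = N ^ 3 := by rw [← hc]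
          _ ≤ P p N ^ 8 := hcube
          _ = P p N ^ 3 * P p N ^ 5 := by ring
      exact Nat.le_of_mul_le_mul_left h1 (Nat.pow_pos hQ0)
    by_contra ht1
    -- `t` is a power of `p`
    have htd : t ∣ p ^ (f * 3) := by rw [pow_mul, ← hst]; exact dvd_mul_right _ _
    obtain ⟨k, -, hk⟩ := (Nat.dvd_prime_pow hp).1 htd
    have hk0 : k ≠ 0 := by rintro rfl; exact ht1 (by rw [hk, pow_zero])
    have hpt : p ≤ t := by rw [hk]; exact Nat.le_self_pow hk0 p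
    have hm3 : mm y ^ 3 * t ^ 5 ≤ Nat.gcd 3 y ^ 3 * ((y + 1) ^ 5) ^ 3 := by
      rw [← hdc']
      calc (Nat.gcd 3 y * c) ^ 3 * t ^ 5 = Nat.gcd 3 y ^ 3 * (c ^ 3 * t ^ 5) := by ring
        _ ≤ Nat.gcd 3 y ^ 3 * (P p N ^ 5 * t ^ 5) := Nat.mul_le_mul_left _ (Nat.mul_le_mul_right _ hc3)
        _ = Nat.gcd 3 y ^ 3 * (t * P p N) ^ 5 := by ring
        _ = Nat.gcd 3 y ^ 3 * ((y + 1) ^ 5) ^ 3 := by rw [hst, hy]; ring
    have hy1 : 1 ≤ y := by omega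
    have h2 := Nat.pow_le_pow_left (two_mm hy1) 3
    have h2' : (2 * mm y) ^ 3 = 8 * mm y ^ 3 := by ring
    have hm0 : 0 < mm y ^ 3 := by
      apply Nat.pow_pos
      unfold mm ss
      positivity
    rw [hy, Nat.add_sub_cancel] at hg
    have ht2 : 2 ≤ t := hp.two_le.trans hpt
    rcases hg with hg | hg
    · rw [hg, one_pow, one_mul] at hm3
      have h3 : mm y ^ 3 * 2 ^ 5 ≤ mm y ^ 3 * t ^ 5 := Nat.mul_le_mul_left _ (Nat.pow_le_pow_left ht2 5)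
      norm_num at h3
      omega
    · rw [hg] at hm3
      rcases Nat.lt_or_ge t 3 with ht3 | ht3
      swap
      · have h3 : mm y ^ 3 * 3 ^ 5 ≤ mm y ^ 3 * t ^ 5 := Nat.mul_le_mul_left _ (Nat.pow_le_pow_left ht3 5)
        norm_num at h3 hm3
        omega
      have ht2' : t = 2 := by omega
      have hp2 : p = 2 := by have := hp.two_le; omega
      rw [ht2'] at hm3 hst
      rcases Nat.lt_or_ge y 15 with hy15 | hy15
      swap
      · have h3 := Nat.pow_le_pow_left (big_mm hy15) 3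
        have h3' : (21 * mm y) ^ 3 = 9261 * mm y ^ 3 := by ring
        have h3'' : (20 * (y + 1) ^ 5) ^ 3 = 8000 * ((y + 1) ^ 5) ^ 3 := by ring
        norm_num at hm3
        omega
      have h3y : 3 ∣ y := by rw [← hg]; exact Nat.gcd_dvd_right _ _
      have hy4 : y = 3 := by
        rw [hp2] at hy
        have hf4 : f < 4 := by
          by_contra hcon
          have : 2 ^ 4 ≤ 2 ^ f := Nat.pow_le_pow_right (by norm_num) (by omega)
          omega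
        interval_cases f
        · omega
        · omega
        · omega
      have hP : P p N = 32 := by
        rw [hy, hy4] at hst
        omega
      rw [h.P_self, hp2, ← pow_mul] at hP
      have h5 : g * NN X = 5 := Nat.pow_right_injective (le_refl 2) (show 2 ^ (g * NN X) = 2 ^ 5 by
        rw [hP])
      have h6 : NN X = 1 ∨ NN X = 5 := (Nat.dvd_prime (by norm_num)).1 ⟨g, by rw [mul_comm]; exact h5.symm⟩
      exact hX (NN_no h.ok h6)

/-- cross characteristic -/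
theorem cross {X : Sh} {p f ℓ g N t : ℕ} (hp : p.Prime) (hf : 1 ≤ f) (hne : ℓ ≠ p) (h : Real X ℓ g N)
    (hb : t * P ℓ N ^ 2 < N) (hL : Nat.gcd 3 (p ^ f - 1) * (N * t) = LL (p ^ f)) : t = 1 := by
  have hℓ := h.hp
  have hQ0 : 0 < P ℓ N := P_pos hℓ
  obtain ⟨c, hc⟩ := P_dvd ℓ N
  have htQ : t * P ℓ N < c := by
    have h1 : P ℓ N * (t * P ℓ N) < P ℓ N * c := by
      calc P ℓ N * (t * P ℓ N) = t * P ℓ N ^ 2 := by ring
        _ < N := hb
        _ = P ℓ N * c := hc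
    exact Nat.lt_of_mul_lt_mul_left h1
  by_cases hX : X = .L 2
  · subst hX
    obtain ⟨h4, h5, h6⟩ := real_L2 h
    rw [h5] at hc htQ
    have h7 : Nat.gcd 2 (ℓ ^ g - 1) * c = (ℓ ^ g) ^ 2 - 1 := by
      have h8 : ℓ ^ g * (Nat.gcd 2 (ℓ ^ g - 1) * c) = ℓ ^ g * ((ℓ ^ g) ^ 2 - 1) := by
        rw [← h6]
        calc ℓ ^ g * (Nat.gcd 2 (ℓ ^ g - 1) * c) = Nat.gcd 2 (ℓ ^ g - 1) * (ℓ ^ g * c) := by ring
          _ = _ := by rw [← hc]
      exact Nat.eq_of_mul_eq_mul_left (by omega) h8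
    by_cases hℓ2 : ℓ = 2
    · exfalso
      subst hℓ2
      have h8 : Nat.gcd 2 (2 ^ g - 1) = 1 := by
        rcases (Nat.dvd_prime Nat.prime_two).1 (Nat.gcd_dvd_left 2 (2 ^ g - 1)) with h9 | h9
        · exact h9
        · exfalso
          have h10 : 2 ∣ 2 ^ g - 1 := by
            have h12 := Nat.gcd_dvd_right 2 (2 ^ g - 1)
            rwa [h9] at h12
          have h11 : 2 ∣ 2 ^ g := dvd_pow_self 2 (by have := h.hf; omega)
          omega
      rw [h8, one_mul] at h7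
      exact cross_L2_even hp hf hne rfl h4 hc h7 htQ rfl hL
    · have h8 : Nat.gcd 2 (ℓ ^ g - 1) = 2 := by
        apply Nat.gcd_eq_left
        have h9 : Odd (ℓ ^ g) := (hℓ.odd_of_ne_two hℓ2).pow
        obtain ⟨k, hk⟩ := h9
        omega
      rw [h8] at h7
      exact cross_L2_odd hp hf hℓ hne hℓ2 rfl h4 hc h7 htQ rfl hL
  · have hcube := h.cube hX
    have hc3 : c ^ 3 ≤ P ℓ N ^ 5 := by
      have h1 : P ℓ N ^ 3 * c ^ 3 ≤ P ℓ N ^ 3 * P ℓ N ^ 5 := by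
        calc P ℓ N ^ 3 * c ^ 3 = (P ℓ N * c) ^ 3 := by ring
          _ = N ^ 3 := by rw [← hc]
          _ ≤ P ℓ N ^ 8 := hcube
          _ = P ℓ N ^ 3 * P ℓ N ^ 5 := by ring
      exact Nat.le_of_mul_le_mul_left h1 (Nat.pow_pos hQ0)
    exact cross_nonL2 hp hf hℓ hne rfl hc hc3 htQ rfl hL

end Cfsg.Agent.H725.ThreeNum
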