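import Cfsg.Agent.H725.ThreeCross
import Cfsg.Agent.OrdDiv.Main

/-!
# Orders of sporadic groups and `q³(q² - 1)(q³ - 1)` (helper725)
-/

set_option autoImplicit false

namespace Cfsg.Agent.H725.ThreeNum

/-- `(3, q - 1) N` does not divide `q³(q² - 1)(q³ - 1)`, except for `J₁` -/
def good (N q : ℕ) : Bool :=
  Nat.ble q 1 || !(Nat.beq (LL q % (Nat.gcd 3 (q - 1) * N)) 0) || (Nat.beq N 175560 && Nat.beq q 11)

/-- all candidates `q < B` -/
def sporChk (N e B : ℕ) : Bool :=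
  Nat.ble (3 * N * N) (4 * LL B) && Nat.beq (N % 2 ^ e) 0 && Nat.ble 3 e &&
    ((List.range (B / 2 ^ (e / 2) + 1)).all fun j => good N (1 + 2 ^ (e / 2) * j)) &&
    ((List.range (B / 2 ^ (e - 2) + 2)).all fun j => good N (2 ^ (e - 2) * j - 1)) &&
    ((List.range (Nat.log2 B + 1)).all fun f => good N (2 ^ f))

/-- `|G|`, the exponent of two, a bound for `q` -/
def sporTbl : List (ℕ × ℕ × ℕ) :=
  [(17971200, 11, 63),
    (7920, 4, 10),
    (95040, 6, 17),
    (443520, 7, 25),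
    (10200960, 7, 55),
    (244823040, 10, 121),
    (175560, 3, 20),
    (604800, 7, 27),
    (50232960, 7, 82),
    (86775571046077562880, 21, 93107),
    (4157776806543360000, 21, 43562),
    (42305421312000, 18, 2461),
    (495766656000, 10, 810),
    (898128000, 7, 168),
    (44352000, 9, 79),
    (448345497600, 13, 790),
    (4030387200, 10, 244),
    (145926144000, 14, 597),
    (460815505920, 9, 795),
    (51765179004000000, 8, 14551),
    (64561751654400, 17, 2735),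
    (4089470473293004800, 18, 43381),
    (1255205709190661721292800, 21, 1021084),
    (273030912000000, 14, 3922),
    (90745943887872000, 15, 16744),
    (4154781481226426191177580544000000, 41, 244917437)]

theorem sporChk_all : (sporTbl.all fun x => sporChk x.1 x.2.1 x.2.2) = true := by
  decide +kernel

/-- the order of the monster -/
def MM : ℕ := 808017424794512875886459904961710757005754368000000000

def mChk : Bool :=
  Nat.ble (3 * MM * MM) (4 * LL 28922633844248) && Nat.beq (MM % (2 ^ 46 * 3 ^ 20)) 0 &&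
    ((List.range 60).all fun j => good MM (1 + 495338913792 * j)) &&
    ((List.range 8297).all fun j => good MM (3486784401 * j - 1)) &&
    ((List.range 4).all fun j => good MM (17592186044416 * j - 1)) &&
    ((List.range 46).all fun f => good MM (2 ^ f)) &&
    ((List.range 30).all fun f => good MM (3 ^ f))

theorem mChk_true : mChk = true := by
  decide +kernel

theorem LL_mono {a b : ℕ} (h : a ≤ b) : LL a ≤ LL b :=
  Nat.mul_le_mul (Nat.mul_le_mul (Nat.pow_le_pow_left h 3) (Nat.sub_le_sub_right (Nat.pow_le_pow_left h 2) 1))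
    (Nat.sub_le_sub_right (Nat.pow_le_pow_left h 3) 1)

theorem lt_of_LL {q B N : ℕ} (h : 3 * N * N ≤ 4 * LL B) (h2 : 4 * LL q < 3 * N * N) : q < B := by
  by_contra hcon
  have := LL_mono (Nat.le_of_not_lt hcon)
  omega

theorem sieve_two {q e : ℕ} (hq : 2 ≤ q) (he : 3 ≤ e) (hodd : ¬ 2 ∣ q) (h : 2 ^ e ∣ LL q) :
    2 ^ (e / 2) ∣ q - 1 ∨ 2 ^ (e - 2) ∣ q + 1 := by
  have hcop : Nat.Coprime (2 ^ e) (q ^ 3) := by
    apply Nat.Coprime.pow
    exact (Nat.Prime.coprime_iff_not_dvd Nat.prime_two).2 hodd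
  have h0 : 2 ^ e ∣ (q ^ 2 - 1) * (q ^ 3 - 1) := by
    have h1 : 2 ^ e ∣ q ^ 3 * ((q ^ 2 - 1) * (q ^ 3 - 1)) := by
      rw [← mul_assoc]
      exact h
    exact hcop.dvd_of_dvd_mul_left h1
  rcases RPart.cases hq Nat.prime_two h0 with ⟨-, h1⟩ | ⟨-, h1, h2⟩ | ⟨h1, -⟩ | ⟨h1, -⟩ | ⟨h1, -⟩ | ⟨h1, -⟩
  · right
    have h2 : 2 ^ e = 4 * 2 ^ (e - 2) := by
      rw [show (4 : ℕ) = 2 ^ 2 by norm_num, ← pow_add]
      congr 1
      omega
    rw [h2] at h1
    exact Nat.dvd_of_mul_dvd_mul_left (by norm_num) h1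
  · left
    have hy : q - 1 ≠ 0 := by omega
    have h3 : 2 ^ (e - 1) ∣ (q - 1) ^ 2 := by
      have h4 : 2 ^ e = 2 * 2 ^ (e - 1) := by
        rw [← pow_succ']
        congr 1
        omega
      rw [h4] at h2
      exact Nat.dvd_of_mul_dvd_mul_left (by norm_num) h2
    have h4 := (Nat.prime_two.pow_dvd_iff_le_factorization (pow_ne_zero 2 hy)).1 h3
    rw [Nat.factorization_pow, Finsupp.smul_apply, smul_eq_mul] at h4
    exact (Nat.prime_two.pow_dvd_iff_le_factorization hy).2 (by omega)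
  · omega
  · exact absurd rfl h1
  · exact absurd rfl h1
  · exact absurd rfl h1

theorem sieve_three {p f L a : ℕ} (hp : p.Prime) (hf : 1 ≤ f) (hne : 3 ≠ p) (ha : 1 ≤ a)
    (hQ : 3 ^ (2 * a) ∣ L) (hL : Nat.gcd 3 (p ^ f - 1) * L = LL (p ^ f)) :
    3 ^ a ∣ p ^ f - 1 ∨ 3 ^ (2 * a) ∣ p ^ f + 1 := by
  have hq : 2 ≤ p ^ f := hp.two_le.trans (Nat.le_self_pow (by omega) p)
  rcases Q_cases hp hf Nat.prime_three hne hQ hL with ⟨h1, -⟩ | ⟨h1, -⟩ | ⟨-, -, h1⟩ | ⟨-, h1⟩ | ⟨-, h1⟩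
  · omega
  · omega
  · left
    rw [mul_comm 2 a, pow_mul] at h1
    exact (Nat.pow_dvd_pow_iff two_ne_zero).1 h1
  · exact Or.inr h1
  · exfalso
    have h2 : 3 ∣ (p ^ f) ^ 2 + p ^ f + 1 := by
      refine dvd_trans ?_ h1
      exact (dvd_pow_self 3 (by omega)).mul_left _
    have h3 : p ^ f % 3 = 1 := by
      have h4 : p ^ f % 3 = 0 ∨ p ^ f % 3 = 1 ∨ p ^ f % 3 = 2 := by omega
      rcases h4 with h4 | h4 | h4
      · exfalso
        have := Nat.dvd_iff_mod_eq_zero.1 h2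
        simp [Nat.add_mod, Nat.pow_mod, h4] at this
      · exact h4
      · exfalso
        have := Nat.dvd_iff_mod_eq_zero.1 h2
        simp [Nat.add_mod, Nat.pow_mod, h4] at this
    obtain ⟨k, hk⟩ : ∃ k, p ^ f = 3 * k + 1 := ⟨p ^ f / 3, by omega⟩
    have hg : Nat.gcd 3 (p ^ f - 1) = 3 := Nat.gcd_eq_left ⟨k, by omega⟩
    rw [hg] at h1
    have h5 : 9 ∣ (p ^ f) ^ 2 + p ^ f + 1 := by
      refine dvd_trans ?_ h1
      have : (9 : ℕ) = 3 * 3 := by norm_num
      rw [this]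
      exact Nat.mul_dvd_mul_left 3 (dvd_pow_self 3 (by omega))
    rw [hk] at h5
    have h6 : (3 * k + 1) ^ 2 + (3 * k + 1) + 1 = 9 * (k ^ 2 + k) + 3 := by ring
    rw [h6] at h5
    omega

theorem good_elim {N q : ℕ} (h : good N q = true) (hq : 2 ≤ q) (hd : Nat.gcd 3 (q - 1) * N ∣ LL q) :
    N = 175560 ∧ q = 11 := by
  unfold good at h
  simp only [Bool.or_eq_true, Bool.and_eq_true, Bool.not_eq_true', Nat.ble_eq, Nat.beq_eq] at h
  rcases h with (h | h) | h
  · omega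
  · exfalso
    rw [Nat.mod_eq_zero_of_dvd hd] at h
    exact absurd h (by decide)
  · exact h

theorem MM_dvd : 2 ^ 46 * 3 ^ 20 ∣ MM := by
  refine Nat.dvd_of_mod_eq_zero ?_
  decide +kernel

theorem m_all : 3 * MM * MM ≤ 4 * LL 28922633844248 ∧ (∀ j < 60, good MM (1 + 495338913792 * j) = true) ∧
    (∀ j < 8297, good MM (3486784401 * j - 1) = true) ∧ (∀ j < 4, good MM (17592186044416 * j - 1) = true) ∧
    (∀ f < 46, good MM (2 ^ f) = true) ∧ (∀ f < 30, good MM (3 ^ f) = true) := by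
  have h1 := mChk_true
  unfold mChk at h1
  simp only [Bool.and_eq_true, Nat.ble_eq, List.all_eq_true, List.mem_range] at h1
  obtain ⟨⟨⟨⟨⟨⟨h2, -⟩, h4⟩, h5⟩, h6⟩, h7⟩, h8⟩ := h1
  exact ⟨h2, h4, h5, h6, h7, h8⟩

theorem MM_eq : MM = 808017424794512875886459904961710757005754368000000000 := rfl

theorem MM_ne : MM ≠ 175560 := by decide +kernel

attribute [irreducible] MM

theorem ar1 {q j : ℕ} (hB : q < 28922633844248) (hj : q = 1 + 495338913792 * j) : j < 60 := by omega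
theorem ar2 {q j : ℕ} (hB : q < 28922633844248) (hj : q + 1 = 3486784401 * j) : j < 8297 := by omega
theorem ar3 {q j : ℕ} (hB : q < 28922633844248) (hj : q + 1 = 17592186044416 * j) : j < 4 := by omega
theorem ar4 {f : ℕ} (hB : 2 ^ f < 28922633844248) : f < 46 := by
  by_contra hcon
  have : 2 ^ 46 ≤ 2 ^ f := Nat.pow_le_pow_right (by norm_num) (by omega)
  norm_num at this
  omega
theorem ar5 {f : ℕ} (hB : 3 ^ f < 28922633844248) : f < 30 := by
  by_contra hcon
  have : 3 ^ 30 ≤ 3 ^ f := Nat.pow_le_pow_right (by norm_num) (by omega)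
  norm_num at this
  omega
theorem ar6 {q j : ℕ} (hj : q - 1 = 495338913792 * j) (hq : 2 ≤ q) : q = 1 + 495338913792 * j := by omega

/-- the monster -/
theorem m_num {p f t : ℕ} (hp : p.Prime) (hf : 1 ≤ f) (hL : Nat.gcd 3 (p ^ f - 1) * (MM * t) = LL (p ^ f))
    (hd : Nat.gcd 3 (p ^ f - 1) * MM ∣ LL (p ^ f)) (hbd : 4 * LL (p ^ f) < 3 * MM * MM) : False := by
  have hq : 2 ≤ p ^ f := hp.two_le.trans (Nat.le_self_pow (by omega) p)
  obtain ⟨h2, h4, h5, h6, h7, h8⟩ := m_all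
  have hB : p ^ f < 28922633844248 := lt_of_LL h2 hbd
  clear h2 hbd
  have hge : ∀ q, q = p ^ f → good MM q = true → False := by
    intro q hq' hg
    rw [← hq'] at hq hd
    exact MM_ne (good_elim hg hq hd).1
  by_cases hp2 : p = 2
  · subst hp2
    exact hge (2 ^ f) rfl (h7 f (ar4 hB))
  by_cases hp3 : p = 3
  · subst hp3
    exact hge (3 ^ f) rfl (h8 f (ar5 hB))
  have hodd : ¬ 2 ∣ p ^ f := fun h8 =>
    hp2 ((Nat.prime_dvd_prime_iff_eq Nat.prime_two hp).1 (Nat.prime_two.dvd_of_dvd_pow h8)).symm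
  have h9 : 2 ^ 46 ∣ LL (p ^ f) := (((dvd_mul_right _ _).trans MM_dvd).mul_left _).trans hd
  have h10 : 3 ^ (2 * 10) ∣ MM * t := ((dvd_mul_left (3 ^ 20) (2 ^ 46)).trans MM_dvd).mul_right t
  have e1 : (2 : ℕ) ^ (46 / 2) * 3 ^ 10 = 495338913792 := by norm_num
  have e2 : (3 : ℕ) ^ (2 * 10) = 3486784401 := by norm_num
  have e3 : (2 : ℕ) ^ (46 - 2) = 17592186044416 := by norm_num
  have ht := sieve_two hq (by norm_num) hodd h9
  have hth := sieve_three hp hf (Ne.symm hp3) (by norm_num) h10 hL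
  rw [e2] at hth
  rw [e3] at ht
  rcases ht with ha | ⟨j, hj⟩
  · rcases hth with hb' | ⟨j, hj⟩
    · have h11 : 2 ^ (46 / 2) * 3 ^ 10 ∣ p ^ f - 1 :=
        Nat.Coprime.mul_dvd_of_dvd_of_dvd (by norm_num) ha hb'
      rw [e1] at h11
      obtain ⟨j, hj⟩ := h11
      have hj' := ar6 hj hq
      exact hge _ hj'.symm (h4 j (ar1 hB hj'))
    · exact hge (3486784401 * j - 1) (Nat.sub_eq_of_eq_add hj.symm) (h5 j (ar2 hB hj))
  · exact hge (17592186044416 * j - 1) (Nat.sub_eq_of_eq_add hj.symm) (h6 j (ar3 hB hj))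

/-- sporadic groups -/
theorem spor_num {x : OrdDiv.Grp × ℕ} (hx : x ∈ OrdDiv.spor) {p f t : ℕ} (hp : p.Prime) (hf : 1 ≤ f)
    (hb : 4 * t < x.2) (hL : Nat.gcd 3 (p ^ f - 1) * (x.2 * t) = LL (p ^ f)) :
    x.2 = 175560 ∧ p ^ f = 11 := by
  have hq : 2 ≤ p ^ f := hp.two_le.trans (Nat.le_self_pow (by omega) p)
  have hd : Nat.gcd 3 (p ^ f - 1) * x.2 ∣ LL (p ^ f) := ⟨t, by rw [← hL]; ring⟩
  have hbd : 4 * LL (p ^ f) < 3 * x.2 * x.2 := by
    have hg : Nat.gcd 3 (p ^ f - 1) ≤ 3 := Nat.gcd_le_left _ (by norm_num)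
    have hx0 : 0 < x.2 := by omega
    rw [← hL]
    calc 4 * (Nat.gcd 3 (p ^ f - 1) * (x.2 * t)) = Nat.gcd 3 (p ^ f - 1) * (x.2 * (4 * t)) := by ring
      _ ≤ 3 * (x.2 * (4 * t)) := Nat.mul_le_mul_right _ hg
      _ = 3 * x.2 * (4 * t) := by ring
      _ < 3 * x.2 * x.2 := Nat.mul_lt_mul_of_pos_left hb (by omega)
  have hsmall : ∀ e B, (x.2, e, B) ∈ sporTbl → x.2 = 175560 ∧ p ^ f = 11 := by
    intro e B hmem
    have h := sporChk_all
    rw [List.all_eq_true] at h
    have h1 := h _ hmem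
    unfold sporChk at h1
    simp only [Bool.and_eq_true, Nat.ble_eq, Nat.beq_eq, List.all_eq_true, List.mem_range] at h1
    obtain ⟨⟨⟨⟨⟨h2, h3⟩, h4⟩, h5⟩, h6⟩, h7⟩ := h1
    have hB : p ^ f < B := lt_of_LL h2 hbd
    by_cases hp2 : p = 2
    · subst hp2
      have h8 : f < Nat.log2 B + 1 := by
        have h9 : 2 ^ f ≤ B := by omega
        have h10 : f ≤ Nat.log 2 B := Nat.le_log_of_pow_le (by norm_num) h9
        rw [Nat.log2_eq_log_two]
        omega
      exact good_elim (h7 f h8) hq hd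
    · have hodd : ¬ 2 ∣ p ^ f := fun h8 =>
        hp2 ((Nat.prime_dvd_prime_iff_eq Nat.prime_two hp).1 (Nat.prime_two.dvd_of_dvd_pow h8)).symm
      have h8 : 2 ^ e ∣ LL (p ^ f) := by
        have h9 : 2 ^ e ∣ x.2 := Nat.dvd_of_mod_eq_zero h3
        exact (h9.mul_left _).trans hd
      rcases sieve_two hq h4 hodd h8 with ⟨j, hj⟩ | ⟨j, hj⟩
      · have h9 : p ^ f = 1 + 2 ^ (e / 2) * j := by omega
        rw [h9] at hq hd hB ⊢
        refine good_elim (h5 j ?_) hq hd
        have h10 : 2 ^ (e / 2) * j ≤ B := by omega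
        have := (Nat.le_div_iff_mul_le (Nat.pow_pos (by norm_num : 0 < 2))).2 (le_of_eq_of_le (mul_comm _ _) h10)
        omega
      · have h9 : p ^ f = 2 ^ (e - 2) * j - 1 := by omega
        rw [h9] at hq hd hB ⊢
        refine good_elim (h6 j ?_) hq hd
        have h10 : 2 ^ (e - 2) * j ≤ B := by omega
        have := (Nat.le_div_iff_mul_le (Nat.pow_pos (by norm_num : 0 < 2))).2 (le_of_eq_of_le (mul_comm _ _) h10)
        omega
  have hbig : x.2 = MM → x.2 = 175560 ∧ p ^ f = 11 := by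
    intro hxM
    rw [hxM] at hd hbd hL
    exact (m_num hp hf hL hd hbd).elim
  simp only [OrdDiv.spor, List.mem_cons, List.not_mem_nil, or_false] at hx
  rcases hx with rfl | rfl | rfl | rfl | rfl | rfl | rfl | rfl | rfl | rfl | rfl | rfl | rfl | rfl | rfl | rfl | rfl |
    rfl | rfl | rfl | rfl | rfl | rfl | rfl | rfl | rfl | rfl
  · exact hsmall 11 63 (by decide)
  · exact hsmall 4 10 (by decide)
  · exact hsmall 6 17 (by decide)
  · exact hsmall 7 25 (by decide)
  · exact hsmall 7 55 (by decide)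
  · exact hsmall 10 121 (by decide)
  · exact hsmall 3 20 (by decide)
  · exact hsmall 7 27 (by decide)
  · exact hsmall 7 82 (by decide)
  · exact hsmall 21 93107 (by decide)
  · exact hsmall 21 43562 (by decide)
  · exact hsmall 18 2461 (by decide)
  · exact hsmall 10 810 (by decide)
  · exact hsmall 7 168 (by decide)
  · exact hsmall 9 79 (by decide)
  · exact hsmall 13 790 (by decide)
  · exact hsmall 10 244 (by decide)
  · exact hsmall 14 597 (by decide)
  · exact hsmall 9 795 (by decide)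
  · exact hsmall 8 14551 (by decide)
  · exact hsmall 17 2735 (by decide)
  · exact hsmall 18 43381 (by decide)
  · exact hsmall 21 1021084 (by decide)
  · exact hsmall 14 3922 (by decide)
  · exact hsmall 15 16744 (by decide)
  · exact hsmall 41 244917437 (by decide)
  · exact hbig MM_eq.symm

end Cfsg.Agent.H725.ThreeNum
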