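import Cfsg.Agent.H725.ThreeBasic
import Cfsg.Agent.H725.ThreeLie
import Cfsg.Agent.H725.ThreeAlt
import Cfsg.Agent.H725.ThreeSpor
import Cfsg.Agent.H725.SimpleCls
import Cfsg.Agent.H525.AltK
import Cfsg.Agent.M23.SylowTools
import Cfsg.Agent.SmallSimple.BurnsideNC

/-!
# Simple groups with codegrees among those of `SL₃(q)` (helper725)
-/

set_option autoImplicit false

namespace Cfsg.Agent.H725.SimThree

open Cfsg Cfsg.Agent.H725.Cod Cfsg.Agent.H725.SLFacts Cfsg.Agent.OrdDiv Cfsg.Agent.H725.ThreeNum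
open Cfsg.Agent.H686.CharKit Cfsg.Agent.H677.CodPrime Cfsg.Agent.H677.CodMultiset

universe u v

/-- If the Sylow `p`-subgroups have order `p` there is a nonprincipal irreducible character of degree at least
`p - 1`. -/
theorem exists_big {S : Type u} [Group S] [Finite S] [IsSimpleGroup S] (hperf : commutator S = ⊤) {p : ℕ}
    (hp : p.Prime) (hp2 : p ≠ 2) (h1 : p ∣ Nat.card S) (h2 : ¬ p ^ 2 ∣ Nat.card S) :
    ∃ χ : IrrCharacter S, χ ≠ one S ∧ p - 1 ≤ charDegree (χ : S → ℂ) := by
  classical
  have := Fact.mk hp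
  obtain ⟨P⟩ : Nonempty (Sylow p S) := inferInstance
  have hP : Nat.card P = p := by
    rw [P.card_eq_multiplicity]
    have h3 : (Nat.card S).factorization p = 1 := by
      have h4 := (hp.pow_dvd_iff_le_factorization (k := 1) (n := Nat.card S) Nat.card_pos.ne').1 (by rwa [pow_one])
      have h5 : ¬ 2 ≤ (Nat.card S).factorization p := fun h =>
        h2 ((hp.pow_dvd_iff_le_factorization Nat.card_pos.ne').2 h)
      omega
    rw [h3, pow_one]
  have hne : Nat.card S ≠ p := by
    intro h
    obtain ⟨χ, hχ, -⟩ := exists_not_dvd (G := S) hp h1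
    have : IsCyclic S := isCyclic_of_prime_card h
    have h3 : commutator S = ⊥ := by
      rw [commutator_eq_closure, Subgroup.closure_eq_bot_iff]
      rintro _ ⟨a, b, rfl⟩
      rw [Set.mem_singleton_iff, commutatorElement_eq_one_iff_mul_comm]
      exact IsCyclic.commGroup.mul_comm a b
    rw [hperf] at h3
    exact top_ne_bot h3
  set e := (Subgroup.centralizer (P : Set S)).relIndex (Subgroup.normalizer (P : Set S)) with he
  have he1 : e ≠ 1 := SmallSimple.BurnsideNC.relIndex_ne_one h1 hne P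
  have hed : e ∣ p - 1 := SmallSimple.BurnsideNC.relIndex_dvd_of_card_eq_prime P hP
  have he0 : e ≠ 0 := by
    intro h
    rw [h] at hed
    have h3 := Nat.eq_zero_of_zero_dvd hed
    have := hp.two_le
    omega
  obtain ⟨t, ht⟩ := hed
  obtain ⟨NE, X, ε, d, hdisj, hNE, hX, hε, hd, ⟨χ₁, hχ₁, hχ₁1, hε1⟩, hdegN, -⟩ :=
    M23.SylowTools.blockData hperf p hp2 P hP e t rfl ht.symm
  obtain ⟨χ, hχ⟩ : (NE.erase χ₁).Nonempty := by
    rw [← Finset.card_pos, Finset.card_erase_of_mem hχ₁, hNE]
    omega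
  have hχN := Finset.mem_of_mem_erase hχ
  have hne1 : χ ≠ one S := by
    rintro rfl
    exact Finset.ne_of_mem_erase hχ (Subtype.ext hχ₁1.symm)
  refine ⟨χ, hne1, ?_⟩
  have h3 := degree_ne_one hperf hne1
  have h4 : 0 < charDegree (χ : S → ℂ) := charDegree_pos χ
  have h5 := hdegN χ hχN
  have hp3 := hp.two_le
  rcases hε χ hχN with h6 | h6
  · rw [h6] at h5
    obtain ⟨k, hk⟩ := h5
    have hk1 : 1 ≤ k := by
      by_contra h
      have h7 : (p : ℤ) * k ≤ 0 := mul_nonpos_of_nonneg_of_nonpos (by omega) (by omega)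
      omega
    have h7 : (p : ℤ) * 1 ≤ p * k := mul_le_mul_of_nonneg_left hk1 (by omega)
    omega
  · rw [h6] at h5
    obtain ⟨k, hk⟩ := h5
    have hk1 : 1 ≤ k := by
      by_contra h
      have h7 : (p : ℤ) * k ≤ 0 := mul_nonpos_of_nonneg_of_nonpos (by omega) (by omega)
      omega
    have h7 : (p : ℤ) * 1 ≤ p * k := mul_le_mul_of_nonneg_left hk1 (by omega)
    omega

theorem card_conj_le {S : Type u} {A : Type v} [Group S] [Group A] [Finite A] (e : S ≃* A) :
    Nat.card (ConjClasses S) ≤ Nat.card (ConjClasses A) := by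
  have : Finite (ConjClasses A) := Quotient.finite _
  refine Nat.card_le_card_of_injective (ConjClasses.map e.toMonoidHom) ?_
  intro a b h
  have h1 : ∀ c : ConjClasses S, ConjClasses.map e.symm.toMonoidHom (ConjClasses.map e.toMonoidHom c) = c := by
    intro c
    induction c using Quotient.inductionOn with
    | h x =>
      change ConjClasses.mk (e.symm (e x)) = ConjClasses.mk x
      rw [e.symm_apply_apply]
  rw [← h1 a, ← h1 b, h]

theorem psl_nonab {F : Type} [Field F] [Fintype F] :
    ¬ IsMulCommutative (Matrix.ProjectiveSpecialLinearGroup (Fin 3) F) :=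
  (qs_three (F := F)).quotient_nonabelian

/-- The quotient of the orders is one, except possibly for `A₈`-like exceptions. -/
theorem t_one (T : OrderTable.{u})
    (hK : ∀ (S : Type u) [Group S] [Finite S] [IsSimpleGroup S], IsKnownSimple' S)
    {F : Type} [Field F] [Fintype F] {S : Type u} [Group S] [Finite S] [IsSimpleGroup S]
    (hS : Sub S (Matrix.SpecialLinearGroup (Fin 3) F)) :
    Nat.card S = (Subgroup.center (Matrix.SpecialLinearGroup (Fin 3) F)).index ∨
      (Fintype.card F = 4 ∧ Nonempty (S ≃* alternatingGroup (Fin 8))) := by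
  have hQ := qs_three (F := F)
  obtain ⟨p, f, hp, hf, hF⟩ := exists_pp F
  have hna := hS.nonabelian hQ
  have hperf := hS.perfect hQ.perf
  have hidx := index_three (F := F)
  obtain ⟨t, ht, hpS, hb, hst, -⟩ := data_three hp hf hF hS
  rw [← ht, hF] at hidx
  change _ = LL (p ^ f) at hidx
  have hone : t = 1 → Nat.card S = (Subgroup.center (Matrix.SpecialLinearGroup (Fin 3) F)).index := by
    intro h
    rw [← ht, h, mul_one]
  obtain ⟨r, hr, hrd⟩ := Nat.exists_prime_and_dvd (Finite.one_lt_card (α := S)).ne'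
  obtain ⟨χ₀, hχ₀, -⟩ := exists_not_dvd (G := S) hr hrd
  rcases Cls.classes T (hK S) hna with ⟨n, hn, ⟨e⟩, h3⟩ | ⟨ℓ, X, g, h3, χ, hχ⟩ | ⟨x, hx, -, h3⟩
  · -- alternating
    have hk := card_conj_le e
    have htk := t_lt hb
    obtain ⟨h4, h5⟩ := S4198.result n hn
    have h6 := H539.PartCount.card_conjClasses_perm_le_fib (Fin n)
    rw [Fintype.card_fin] at h6
    obtain ⟨h7, h8⟩ := alt_num hp hf hn h3 hpS htk (by omega) (by omega) hidx
    have hd3 : Nat.gcd 3 (p ^ f - 1) = 3 := by rw [h7]; norm_num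
    have hLv : LL (p ^ f) = 60480 := by rw [h7]; rfl
    rw [hd3, hLv] at hidx
    rcases h8 with rfl | rfl
    · exfalso
      have h9 : Nat.card S = 2520 := by
        have : Nat.factorial 7 = 5040 := rfl
        omega
      rw [h9] at hidx hb
      have ht8 : t = 8 := by omega
      rw [ht8] at hb
      have h10 := t_bound (t := 8) (m := 2512) (S := S) fun χ hχ => by have := hb χ hχ; omega
      rw [h9] at h10
      have h11 := H525.AltK.alt_seven
      have h12 : (Nat.card (ConjClasses S) - 1) * 2512 ≤ 8 * 2512 := Nat.mul_le_mul_right _ (by omega)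
      omega
    · right
      exact ⟨by rw [hF, h7], ⟨e⟩⟩
  · -- Lie type
    left
    apply hone
    have hNN := H902.Art.NN_pos h3
    have hPS := h3.P_self
    have hq2 := h3.q_ge
    have hP2 : 2 ≤ H902.Art.P ℓ (Nat.card S) := by
      rw [hPS]
      exact hq2.trans (Nat.le_self_pow (by omega) _)
    have hχ1 : χ ≠ one S := by
      rintro rfl
      rw [charDegree_one] at hχ
      omega
    by_cases hpl : ℓ = p
    · subst hpl
      have h4 : ¬ ℓ ∣ cod χ := by
        have h5 := cod_mul hχ1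
        rw [hχ] at h5
        intro h6
        obtain ⟨k, hk⟩ := h6
        have h7 : ℓ ^ ((Nat.card S).factorization ℓ + 1) ∣ Nat.card S := by
          refine ⟨k, ?_⟩
          conv_lhs => rw [← h5, hk]
          unfold H902.Art.P
          ring
        exact Nat.pow_succ_factorization_not_dvd Nat.card_pos.ne' hp h7
      have h5 := hst χ hχ1 h4
      rw [hχ] at h5
      exact same hf h3 h5 hidx
    · have h4 := hb χ hχ1
      rw [hχ] at h4
      exact cross hp hf hpl h3 h4 hidx
  · -- sporadic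
    exfalso
    have h4 : 4 * t < x.2 := by
      have h5 := hb χ₀ hχ₀
      have h6 := degree_ne_one hperf hχ₀
      have h7 : 0 < charDegree (χ₀ : S → ℂ) := charDegree_pos χ₀
      have h8 : 2 ^ 2 ≤ charDegree (χ₀ : S → ℂ) ^ 2 := Nat.pow_le_pow_left (by omega) 2
      have h9 : t * 4 ≤ t * charDegree (χ₀ : S → ℂ) ^ 2 := Nat.mul_le_mul_left _ h8
      omega
    rw [h3] at hidx
    obtain ⟨h5, h6⟩ := spor_num hx hp hf h4 hidx
    rw [h5] at hidx h3
    have hd3 : Nat.gcd 3 (p ^ f - 1) = 1 := by rw [h6]; norm_num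
    have hLv : LL (p ^ f) = 212427600 := by rw [h6]; rfl
    rw [hd3, hLv] at hidx
    have ht : t = 1210 := by omega
    obtain ⟨χ, hχ, h7⟩ := exists_big hperf (p := 19) (by norm_num) (by norm_num) (by rw [h3]; norm_num)
      (by rw [h3]; norm_num)
    have h8 := hb χ hχ
    have h9 : 18 ^ 2 ≤ charDegree (χ : S → ℂ) ^ 2 := Nat.pow_le_pow_left h7 2
    rw [ht, h3] at h8
    omega

/-- **Simple groups**: except for `A₈` and `SL₃(4)`. -/
theorem simple_three (T : OrderTable.{u}) (T' : OrderTable.{0})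
    (hK : ∀ (S : Type u) [Group S] [Finite S] [IsSimpleGroup S], IsKnownSimple' S)
    {F : Type} [Field F] [Fintype F] {S : Type u} [Group S] [Finite S] [IsSimpleGroup S]
    (hS : Sub S (Matrix.SpecialLinearGroup (Fin 3) F)) :
    Good S (Matrix.SpecialLinearGroup (Fin 3) F) ∨
      (Fintype.card F = 4 ∧ Nonempty (S ≃* alternatingGroup (Fin 8))) := by
  have hQ := qs_three (F := F)
  obtain ⟨p, f, hp, hf, hF⟩ := exists_pp F
  have hna := hS.nonabelian hQ
  have hidx := index_three (F := F)
  rcases t_one T hK hS with h1 | h1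
  swap
  · exact Or.inr h1
  have hsim : IsSimpleGroup (Matrix.ProjectiveSpecialLinearGroup (Fin 3) F) := hQ.simple
  have hreal : H902.Art.Real (.L 3) p f (Nat.card (Matrix.ProjectiveSpecialLinearGroup (Fin 3) F)) :=
    H902.Names.psl_real hp hf hF (by norm_num) (by norm_num)
  have hKL : IsKnownSimple' (Matrix.ProjectiveSpecialLinearGroup (Fin 3) F) := by
    have h32 : (3 : ℕ) = 2 → 4 ≤ Fintype.card F := fun h => absurd h (by decide)
    exact Or.inr (Or.inr (Or.inl ⟨F, _, _, 3, by norm_num, h32, ⟨MulEquiv.refl _⟩⟩))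
  rcases Cls.iso_of_card T T' (hK S) hna hKL psl_nonab hreal h1 with ⟨⟨e⟩⟩ | ⟨h3, h4⟩
  · exact Or.inl (Or.inr ⟨e⟩)
  · have h5 : (Subgroup.center (Matrix.SpecialLinearGroup (Fin 3) F)).index = 20160 := h3
    rw [h5] at hidx
    change _ = LL (Fintype.card F) at hidx
    have hq4 : Fintype.card F = 4 := by
      have hg : Nat.gcd 3 (Fintype.card F - 1) ≤ 3 := Nat.gcd_le_left _ (by norm_num)
      have hg0 : 0 < Nat.gcd 3 (Fintype.card F - 1) := Nat.gcd_pos_of_pos_left _ (by norm_num)
      by_contra hne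
      rcases Nat.lt_or_ge (Fintype.card F) 4 with h6 | h6
      · have h7 := LL_mono (show Fintype.card F ≤ 3 by omega)
        have h8 : LL 3 = 5616 := rfl
        omega
      · have h7 := LL_mono (show 5 ≤ Fintype.card F by omega)
        have h8 : LL 5 = 372000 := rfl
        omega
    rcases h4 with h4 | h4
    · exact Or.inr ⟨hq4, h4⟩
    · left
      right
      exact H902.Iso.real_unique (.psl 3 4) h4 ⟨F, _, _, hq4, ⟨MulEquiv.refl _⟩⟩

end Cfsg.Agent.H725.SimThree
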