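import Cfsg.Agent.H725.AltEight
import Cfsg.Agent.H725.CenAll
import Cfsg.Agent.H725.EqTwo
import Cfsg.Agent.H725.Parab
import Cfsg.Agent.H725.SimOKTwo
import Cfsg.Agent.H725.NoAbSL

/-!
# Codegree sets inside that of `SL₂(q)` or `SL₃(q)` (helper725)
-/

set_option autoImplicit false

namespace Cfsg.Agent.H725.SpecMain

open Cfsg Cfsg.Agent.H725.Cod Cfsg.Agent.H725.SLFacts Cfsg.Agent.H725.NoAbSL Cfsg.Agent.OrdDiv
open Cfsg.Agent.H686.CharKit Cfsg.Agent.H677.CodPrime Cfsg.Agent.H677.CodMultiset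

universe u v w

theorem simOK_three (T : OrderTable.{u}) (T' : OrderTable.{0})
    (hK : ∀ (S : Type u) [Group S] [Finite S] [IsSimpleGroup S], IsKnownSimple' S)
    {F : Type} [Field F] [Fintype F] : SimOK.{u, 0} (Matrix.SpecialLinearGroup (Fin 3) F) := by
  intro S _ _ _ hS
  rcases SimThree.simple_three T T' hK hS with h | ⟨h1, ⟨h2⟩⟩
  · exact h
  · exact (AltEight.no_alt h1 hS h2).elim

/-- the conclusion for one quasisimple group -/
theorem final {H : Type v} [Group H] [Finite H] (hH : QS H) (hno : NoAb.{u, v} H) (hs : SimOK.{u, v} H)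
    (hc : CenOK.{u, v} H)
    (heq : (∀ ψ : IrrCharacter H, ∃ χ : IrrCharacter (H ⧸ Subgroup.center H), cod ψ = cod χ) →
      Subgroup.center H = ⊥)
    (G : Type u) [Group G] [Finite G] [Nontrivial G] (hG : Sub G H) :
    (Nonempty (G ≃* H) ∨ Nonempty (G ≃* H ⧸ Subgroup.center H)) ∧
      ((∀ m : ℕ, (∃ χ : IrrCharacter G, cod χ = m) ↔ (∃ ψ : IrrCharacter H, cod ψ = m)) ↔ Nonempty (G ≃* H)) := by
  have h1 := reduction hH hno hs hc G hG
  refine ⟨h1, ⟨fun h2 => ?_, fun ⟨e⟩ m => ⟨?_, ?_⟩⟩⟩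
  · rcases h1 with h1 | ⟨⟨e⟩⟩
    · exact h1
    · have h3 : Subgroup.center H = ⊥ := by
        apply heq
        intro ψ
        obtain ⟨χ, hχ⟩ := (h2 (cod ψ)).2 ⟨ψ, rfl⟩
        exact ⟨pull e.symm χ, by rw [cod_pull, hχ]⟩
      exact ⟨e.trans ((QuotientGroup.quotientMulEquivOfEq h3).trans (QuotientGroup.quotientBot (G := H)))⟩
  · rintro ⟨χ, rfl⟩
    exact ⟨pull e.symm χ, cod_pull _ _⟩
  · rintro ⟨ψ, rfl⟩
    exact ⟨pull e ψ, cod_pull _ _⟩

/-- transport of the conclusion along an isomorphism -/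
theorem transport {H : Type v} [Group H] [Finite H] {K : Type w} [Group K] [Finite K] (e : H ≃* K)
    {G : Type u} [Group G] [Finite G]
    (h : (Nonempty (G ≃* K) ∨ Nonempty (G ≃* K ⧸ Subgroup.center K)) ∧
      ((∀ m : ℕ, (∃ χ : IrrCharacter G, cod χ = m) ↔ (∃ ψ : IrrCharacter K, cod ψ = m)) ↔ Nonempty (G ≃* K))) :
    (Nonempty (G ≃* H) ∨ Nonempty (G ≃* H ⧸ Subgroup.center H)) ∧
      ((∀ m : ℕ, (∃ χ : IrrCharacter G, cod χ = m) ↔ (∃ ψ : IrrCharacter H, cod ψ = m)) ↔ Nonempty (G ≃* H)) := by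
  have hcod : ∀ m : ℕ, (∃ ψ : IrrCharacter H, cod ψ = m) ↔ (∃ ψ : IrrCharacter K, cod ψ = m) := by
    intro m
    constructor
    · rintro ⟨ψ, rfl⟩
      exact ⟨pull e.symm ψ, cod_pull _ _⟩
    · rintro ⟨ψ, rfl⟩
      exact ⟨pull e ψ, cod_pull _ _⟩
  have hiso : Nonempty (G ≃* H) ↔ Nonempty (G ≃* K) :=
    ⟨fun ⟨f⟩ => ⟨f.trans e⟩, fun ⟨f⟩ => ⟨f.trans e.symm⟩⟩
  have hcen : (Subgroup.center H).map e.toMonoidHom = Subgroup.center K := by
    ext k
    constructor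
    · rintro ⟨x, hx, rfl⟩
      rw [Subgroup.mem_center_iff]
      intro k
      obtain ⟨y, rfl⟩ := e.surjective k
      change e y * e x = e x * e y
      rw [← map_mul, ← map_mul, Subgroup.mem_center_iff.1 hx]
    · intro hk
      refine ⟨e.symm k, ?_, e.apply_symm_apply k⟩
      change e.symm k ∈ Subgroup.center H
      rw [Subgroup.mem_center_iff]
      intro y
      apply e.injective
      rw [map_mul, map_mul, e.apply_symm_apply]
      exact Subgroup.mem_center_iff.1 hk _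
  have hq : Nonempty ((H ⧸ Subgroup.center H) ≃* (K ⧸ Subgroup.center K)) :=
    ⟨QuotientGroup.congr _ _ e hcen⟩
  obtain ⟨f⟩ := hq
  refine ⟨?_, ?_⟩
  · rcases h.1 with h1 | ⟨⟨g⟩⟩
    · exact Or.inl (hiso.2 h1)
    · exact Or.inr ⟨g.trans f.symm⟩
  · rw [hiso, ← h.2]
    exact ⟨fun h1 m => (h1 m).trans (hcod m), fun h1 m => (h1 m).trans (hcod m).symm⟩

theorem main (T : OrderTable.{u}) (T' : OrderTable.{0})
    (hK : ∀ (S : Type u) [Group S] [Finite S] [IsSimpleGroup S], IsKnownSimple' S)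
    {G : Type u} [Group G] [Finite G] [Nontrivial G] {H : Type v} [Group H] [Finite H]
    (hH : ∃ (F : Type) (_ : Field F) (_ : Fintype F),
      (5 ≤ Fintype.card F ∧ Nonempty (H ≃* Matrix.SpecialLinearGroup (Fin 2) F)) ∨
        Nonempty (H ≃* Matrix.SpecialLinearGroup (Fin 3) F))
    (hsub : Sub G H) :
    (Nonempty (G ≃* H) ∨ Nonempty (G ≃* H ⧸ Subgroup.center H)) ∧
      ((∀ m : ℕ, (∃ χ : IrrCharacter G, cod χ = m) ↔ (∃ ψ : IrrCharacter H, cod ψ = m)) ↔ Nonempty (G ≃* H)) := by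
  obtain ⟨F, _, _, ⟨h5, ⟨e⟩⟩ | h⟩ := hH
  · exact transport e (final (qs_two (by omega)) (noAb_two (by omega)) (SimTwo.simOK_two T T' hK h5)
      (CenAll.cenOK_two h5) (EqTwo.ne_two h5) G (hsub.congr_right e))
  · obtain ⟨e⟩ := h
    exact transport e (final qs_three noAb_three (simOK_three T T' hK) CenAll.cenOK_three Parab.ne_three G
      (hsub.congr_right e))

end Cfsg.Agent.H725.SpecMain
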