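import Cfsg.Agent.H725.ThreeNum

/-!
# Numerical part of the cross characteristic case (helper725)
-/

set_option autoImplicit false

namespace Cfsg.Agent.H725.ThreeNum

/-- the possible sizes of a prime power `Q` dividing `L`, away from the characteristic -/
theorem Q_cases {p f ℓ m L : ℕ} (hp : p.Prime) (hf : 1 ≤ f) (hℓ : ℓ.Prime) (hne : ℓ ≠ p)
    (hQ : ℓ ^ m ∣ L) (hL : Nat.gcd 3 (p ^ f - 1) * L = LL (p ^ f)) :
    (ℓ = 2 ∧ ℓ ^ m ∣ 4 * (p ^ f + 1)) ∨ (ℓ = 2 ∧ 4 ∣ p ^ f - 1 ∧ ℓ ^ m ∣ 2 * (p ^ f - 1) ^ 2) ∨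
      (ℓ ≠ 2 ∧ 3 ≤ p ^ f - 1 ∧ ℓ ^ m ∣ (p ^ f - 1) ^ 2) ∨ (ℓ ≠ 2 ∧ ℓ ^ m ∣ p ^ f + 1) ∨
      (ℓ ≠ 2 ∧ Nat.gcd 3 (p ^ f - 1) * ℓ ^ m ∣ (p ^ f) ^ 2 + p ^ f + 1) := by
  have hq : 2 ≤ p ^ f := hp.two_le.trans (Nat.le_self_pow (by omega) p)
  have hcop : Nat.Coprime (ℓ ^ m) ((p ^ f) ^ 3) := by
    apply Nat.Coprime.pow
    exact Nat.Coprime.pow_right _ ((Nat.coprime_primes hℓ hp).2 hne)
  have h0 : ℓ ^ m ∣ ((p ^ f) ^ 2 - 1) * ((p ^ f) ^ 3 - 1) := by
    have h1 : ℓ ^ m ∣ (p ^ f) ^ 3 * (((p ^ f) ^ 2 - 1) * ((p ^ f) ^ 3 - 1)) := by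
      rw [← mul_assoc]
      change _ ∣ LL (p ^ f)
      rw [← hL]
      exact hQ.mul_left _
    exact hcop.dvd_of_dvd_mul_left h1
  have hcase := RPart.cases hq hℓ h0
  rcases hcase with h | h | ⟨h3, h4, h5⟩ | ⟨h2, h3, h4, h5⟩ | ⟨h2, h3⟩ | ⟨h2, h3, h4⟩
  · exact Or.inl h
  · exact Or.inr (Or.inl h)
  · -- `ℓ = 3`
    have hne2 : ℓ ≠ 2 := by omega
    have hd : Nat.gcd 3 (p ^ f - 1) = 3 := Nat.gcd_eq_left h4
    have h6 : ℓ ^ (m + 1) ∣ ((p ^ f) ^ 2 - 1) * ((p ^ f) ^ 3 - 1) := by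
      have hcop' : Nat.Coprime (ℓ ^ (m + 1)) ((p ^ f) ^ 3) := by
        apply Nat.Coprime.pow
        exact Nat.Coprime.pow_right _ ((Nat.coprime_primes hℓ hp).2 hne)
      have h1 : ℓ ^ (m + 1) ∣ (p ^ f) ^ 3 * (((p ^ f) ^ 2 - 1) * ((p ^ f) ^ 3 - 1)) := by
        rw [← mul_assoc]
        change _ ∣ LL (p ^ f)
        rw [← hL, hd, pow_succ', h3]
        rw [h3] at hQ
        exact Nat.mul_dvd_mul_left 3 hQ
      exact hcop'.dvd_of_dvd_mul_left h1
    rcases RPart.cases hq hℓ h6 with h | h | ⟨-, -, h7⟩ | ⟨-, h7, -⟩ | ⟨-, h7⟩ | ⟨-, h7, -⟩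
    · omega
    · omega
    · refine Or.inr (Or.inr (Or.inl ⟨hne2, ?_, ?_⟩))
      · exact Nat.le_of_dvd (by omega) h4
      · rw [pow_succ', h3] at h7
        rw [h3]
        exact Nat.dvd_of_mul_dvd_mul_left (by norm_num) h7
    · exact absurd h3 h7
    · exfalso
      have h8 : 3 ∣ p ^ f + 1 := by
        refine dvd_trans ?_ h7
        rw [h3]
        exact dvd_pow_self 3 (by omega)
      omega
    · exact absurd (h3 ▸ h4) h7
  · refine Or.inr (Or.inr (Or.inl ⟨h2, ?_, h5⟩))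
    have h6 := hℓ.two_le
    have h7 := Nat.le_of_dvd (by omega) h4
    omega
  · exact Or.inr (Or.inr (Or.inr (Or.inl ⟨h2, h3⟩)))
  · refine Or.inr (Or.inr (Or.inr (Or.inr ⟨h2, ?_⟩)))
    have hg : Nat.gcd 3 (p ^ f - 1) = 1 ∨ Nat.gcd 3 (p ^ f - 1) = 3 :=
      (Nat.dvd_prime Nat.prime_three).1 (Nat.gcd_dvd_left _ _)
    rcases hg with hg | hg
    · rw [hg, one_mul]; exact h4
    · have h5 : 3 ∣ p ^ f - 1 := by rw [← hg]; exact Nat.gcd_dvd_right _ _
      have h6 : ℓ ≠ 3 := by rintro rfl; exact h3 h5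
      rw [hg]
      refine Nat.Coprime.mul_dvd_of_dvd_of_dvd ?_ ?_ h4
      · exact Nat.Coprime.pow_right _ ((Nat.coprime_primes Nat.prime_three hℓ).2 (Ne.symm h6))
      · obtain ⟨k, hk⟩ := h5
        have h7 : p ^ f = 3 * k + 1 := by omega
        rw [h7]
        exact ⟨3 * k ^ 2 + 3 * k + 1, by ring⟩

theorem odd_of {p f : ℕ} (hp : p.Prime) (hne : 2 ≠ p) : ¬ 2 ∣ p ^ f := fun h =>
  hne ((Nat.prime_dvd_prime_iff_eq Nat.prime_two hp).1 (Nat.prime_two.dvd_of_dvd_pow h))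

/-- cross characteristic, not `PSL₂` -/
theorem cross_nonL2 {p f ℓ m L t N Q c : ℕ} (hp : p.Prime) (hf : 1 ≤ f) (hℓ : ℓ.Prime) (hne : ℓ ≠ p)
    (hQ : Q = ℓ ^ m) (hN : N = Q * c) (hc3 : c ^ 3 ≤ Q ^ 5) (htQ : t * Q < c) (ht : N * t = L)
    (hL : Nat.gcd 3 (p ^ f - 1) * L = LL (p ^ f)) : t = 1 := by
  have hq : 2 ≤ p ^ f := hp.two_le.trans (Nat.le_self_pow (by omega) p)
  have hL0 : 0 < L := by
    rcases Nat.eq_zero_or_pos L with h | h
    · rw [h, mul_zero] at hL
      exact absurd hL (LL_pos hq).ne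
    · exact h
  have hQ0 : 0 < Q := by rw [hQ]; exact Nat.pow_pos hℓ.pos
  have hg : Nat.gcd 3 (p ^ f - 1) = 1 ∨ Nat.gcd 3 (p ^ f - 1) = 3 :=
    (Nat.dvd_prime Nat.prime_three).1 (Nat.gcd_dvd_left _ _)
  have hLc : L < c ^ 2 := by
    rw [← ht, hN]
    calc Q * c * t = c * (t * Q) := by ring
      _ < c * c := Nat.mul_lt_mul_of_pos_left htQ (by omega)
      _ = c ^ 2 := by ring
  have hL3 : L ^ 3 < Q ^ 10 := by
    calc L ^ 3 < (c ^ 2) ^ 3 := Nat.pow_lt_pow_left hLc (by norm_num)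
      _ = (c ^ 3) ^ 2 := by ring
      _ ≤ (Q ^ 5) ^ 2 := Nat.pow_le_pow_left hc3 2
      _ = Q ^ 10 := by ring
  have hdL : LL (p ^ f) ^ 3 = (Nat.gcd 3 (p ^ f - 1)) ^ 3 * L ^ 3 := by rw [← hL]; ring
  have h27 : LL (p ^ f) ^ 3 < 27 * Q ^ 10 := by
    rw [hdL]
    rcases hg with hg | hg <;> rw [hg] <;> omega
  have hQL : ℓ ^ m ∣ L := by rw [← ht, hN, ← hQ]; exact (dvd_mul_right Q c).mul_right t
  have hcases := Q_cases hp hf hℓ hne hQL hL
  rw [← hQ] at hcases
  obtain ⟨y, hy⟩ : ∃ y, p ^ f = y + 1 := ⟨p ^ f - 1, by omega⟩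
  rw [hy] at hcases h27 hq hL hg hdL
  rw [Nat.add_sub_cancel] at hcases hL hg hdL
  rcases hcases with ⟨h2, h3⟩ | ⟨h2, h3, h4⟩ | ⟨h2, h3, h4⟩ | ⟨h2, h3⟩ | ⟨h2, h3⟩
  · -- `Q ∣ 4 (q + 1)`
    exfalso
    have hodd : ¬ 2 ∣ y + 1 := by rw [← hy]; exact odd_of hp (by rw [← h2]; exact hne)
    have h5 : Q ≤ 4 * (y + 2) := Nat.le_of_dvd (by omega) h3
    have h6 : Q ^ 10 ≤ (4 * (y + 2)) ^ 10 := Nat.pow_le_pow_left h5 10
    rcases Nat.lt_or_ge y 4 with hy4 | hy4
    · have hy2 : y = 2 := by omega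
      subst hy2
      have hg1 : Nat.gcd 3 2 = 1 := by norm_num
      rw [hg1, one_mul] at hL
      have hLv : L = 5616 := by rw [hL]; rfl
      have h7 : Q ≤ 16 := h5
      have h8 : Q = 16 := by
        by_contra hne'
        have h9 : Q ∣ 16 := h3
        have h10 : Q ≤ 8 := by
          by_contra h11
          have : Q = 9 ∨ Q = 10 ∨ Q = 11 ∨ Q = 12 ∨ Q = 13 ∨ Q = 14 ∨ Q = 15 := by omega
          rcases this with h | h | h | h | h | h | h <;> rw [h] at h9 <;> revert h9 <;> decide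
        have h11 : Q ^ 10 ≤ 8 ^ 10 := Nat.pow_le_pow_left h10 10
        rw [hLv] at hL3
        norm_num at h11 hL3
        omega
      rw [h8] at hc3 hN
      rw [hLv] at hLc
      have h9 : c ≤ 101 := by
        by_contra h
        have h10 : 102 ^ 3 ≤ c ^ 3 := Nat.pow_le_pow_left (by omega) 3
        norm_num at h10 hc3
        omega
      have h10 : 75 ≤ c := by
        by_contra h
        have h11 : c ^ 2 ≤ 74 ^ 2 := Nat.pow_le_pow_left (by omega) 2
        norm_num at h11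
        omega
      have h11 : c ∣ 351 := by
        refine ⟨t, ?_⟩
        rw [hN, hLv] at ht
        have : 16 * (c * t) = 16 * 351 := by rw [← mul_assoc]; omega
        omega
      interval_cases c <;> revert h11 <;> decide
    · have h7 := Nat.pow_le_pow_left (E5 hy4) 3
      have h8 : (y + 2) ^ 10 * 6 ^ 11 ≤ ((y + 2) ^ 7) ^ 3 := by
        calc (y + 2) ^ 10 * 6 ^ 11 ≤ (y + 2) ^ 10 * (y + 2) ^ 11 :=
              Nat.mul_le_mul_left _ (Nat.pow_le_pow_left (by omega) 11)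
          _ = ((y + 2) ^ 7) ^ 3 := by ring
      have h9 : (4 * (y + 2)) ^ 10 = 1048576 * (y + 2) ^ 10 := by ring
      have h10 : 0 < (y + 2) ^ 10 := Nat.pow_pos (by omega)
      norm_num at h8
      omega
  · -- `Q ∣ 2 (q - 1)²`
    exfalso
    have h5 : Q ≤ 2 * y ^ 2 := Nat.le_of_dvd (by have : 0 < y ^ 2 := Nat.pow_pos (by omega); omega) h4
    rcases Nat.lt_or_ge y 8 with hy8 | hy8
    · have hy4 : y = 4 := by omega
      subst hy4
      have hg1 : Nat.gcd 3 4 = 1 := by norm_num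
      rw [hg1, one_mul] at hL
      have hLv : L = 372000 := by rw [hL]; rfl
      have h6 : Q ^ 10 ≤ 32 ^ 10 := Nat.pow_le_pow_left h5 10
      rw [hLv] at hL3
      norm_num at h6 hL3
      omega
    · have h6 : Q ^ 10 ≤ (2 * y ^ 2) ^ 10 := Nat.pow_le_pow_left h5 10
      have h7 := Nat.pow_le_pow_left (LL_ge' y) 3
      have h8 : y ^ 20 * (8 * 16 ^ 3) ≤ (y ^ 7 * (y + 8)) ^ 3 := by
        calc y ^ 20 * (8 * 16 ^ 3) ≤ y ^ 20 * (y * (y + 8) ^ 3) :=
              Nat.mul_le_mul_left _ (Nat.mul_le_mul hy8 (Nat.pow_le_pow_left (by omega) 3))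
          _ = (y ^ 7 * (y + 8)) ^ 3 := by ring
      have h9 : (2 * y ^ 2) ^ 10 = 1024 * y ^ 20 := by ring
      have h10 : 0 < y ^ 20 := Nat.pow_pos (by omega)
      norm_num at h8
      omega
  · -- `Q ∣ (q - 1)²`
    exfalso
    have h5 : Q ≤ y ^ 2 := Nat.le_of_dvd (Nat.pow_pos (by omega)) h4
    have h6 : Q ^ 10 ≤ (y ^ 2) ^ 10 := Nat.pow_le_pow_left h5 10
    have h7 := Nat.pow_le_pow_left (LL_ge_pow_eight y) 3
    have h8 : y ^ 20 * 3 ^ 4 ≤ (y ^ 8) ^ 3 := by
      calc y ^ 20 * 3 ^ 4 ≤ y ^ 20 * y ^ 4 := Nat.mul_le_mul_left _ (Nat.pow_le_pow_left h3 4)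
        _ = (y ^ 8) ^ 3 := by ring
    have h9 : (y ^ 2) ^ 10 = y ^ 20 := by ring
    have h10 : 0 < y ^ 20 := Nat.pow_pos (by omega)
    norm_num at h8
    omega
  · -- `Q ∣ q + 1`
    exfalso
    have h5 : Q ≤ y + 2 := Nat.le_of_dvd (by omega) h3
    have h6 : Q ^ 10 ≤ (y + 2) ^ 10 := Nat.pow_le_pow_left h5 10
    rcases Nat.lt_or_ge y 4 with hy4 | hy4
    · have : y = 1 ∨ y = 2 ∨ y = 3 := by omega
      rcases this with rfl | rfl | rfl
      · have : LL (1 + 1) = 168 := rfl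
        rw [this] at h27
        norm_num at h27 h6
        omega
      · have : LL (2 + 1) = 5616 := rfl
        rw [this] at h27
        norm_num at h27 h6
        omega
      · have : LL (3 + 1) = 60480 := rfl
        rw [this] at h27
        norm_num at h27 h6
        omega
    · have h7 := Nat.pow_le_pow_left (E5 hy4) 3
      have h8 : (y + 2) ^ 10 * 6 ^ 11 ≤ ((y + 2) ^ 7) ^ 3 := by
        calc (y + 2) ^ 10 * 6 ^ 11 ≤ (y + 2) ^ 10 * (y + 2) ^ 11 :=
              Nat.mul_le_mul_left _ (Nat.pow_le_pow_left (by omega) 11)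
          _ = ((y + 2) ^ 7) ^ 3 := by ring
      have h10 : 0 < (y + 2) ^ 10 := Nat.pow_pos (by omega)
      norm_num at h8
      omega
  · -- `d Q ∣ q² + q + 1`
    have hs : (y + 1) ^ 2 + (y + 1) + 1 = ss y := (ss_eq y).symm
    rw [hs] at h3
    have hs0 : 0 < ss y := by unfold ss; omega
    have h5 := Nat.le_of_dvd hs0 h3
    rcases Nat.lt_or_ge y 2 with hy2 | hy2
    · have hy1 : y = 1 := by omega
      subst hy1
      have hg1 : Nat.gcd 3 1 = 1 := by norm_num
      rw [hg1, one_mul] at hL h3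
      have hLv : L = 168 := by rw [hL]; rfl
      have h7 : Q ∣ 7 := h3
      rcases (Nat.dvd_prime (by norm_num)).1 h7 with h8 | h8
      · exfalso
        rw [h8, hLv] at hL3
        norm_num at hL3
      · rw [h8] at hc3 hN
        rw [hLv] at hLc
        have h9 : c ≤ 25 := by
          by_contra h
          have h10 : 26 ^ 3 ≤ c ^ 3 := Nat.pow_le_pow_left (by omega) 3
          norm_num at h10 hc3
          omega
        have h10 : 13 ≤ c := by
          by_contra h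
          have h11 : c ^ 2 ≤ 12 ^ 2 := Nat.pow_le_pow_left (by omega) 2
          norm_num at h11
          omega
        have h11 : c * t = 24 := by
          rw [hN, hLv] at ht
          have : 7 * (c * t) = 7 * 24 := by rw [← mul_assoc]; omega
          omega
        have h12 : t < 2 := by
          by_contra h
          have : 13 * 2 ≤ c * t := Nat.mul_le_mul h10 (by omega)
          omega
        have h13 : t ≠ 0 := by rintro rfl; omega
        omega
    · exfalso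
      have h6 := LL_cube_ge hy2
      have h7 : LL (y + 1) ^ 3 < ss y ^ 10 := by
        rcases hg with hg | hg
        · rw [hg, one_mul] at h5
          rw [hdL, hg, one_pow, one_mul]
          exact hL3.trans_le (Nat.pow_le_pow_left h5 10)
        · rw [hg] at h5
          have h8 : (3 * Q) ^ 10 ≤ ss y ^ 10 := Nat.pow_le_pow_left h5 10
          have h9 : (3 * Q) ^ 10 = 59049 * Q ^ 10 := by ring
          have h10 : 0 < Q ^ 10 := Nat.pow_pos hQ0
          omega
      omega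

/-- cross characteristic, `PSL₂(Q)`, `Q` odd -/
theorem cross_L2_odd {p f ℓ m L t N Q c : ℕ} (hp : p.Prime) (hf : 1 ≤ f) (hℓ : ℓ.Prime) (hne : ℓ ≠ p)
    (hℓ2 : ℓ ≠ 2) (hQ : Q = ℓ ^ m) (hQ4 : 4 ≤ Q) (hN : N = Q * c) (hc : 2 * c = Q ^ 2 - 1) (htQ : t * Q < c)
    (ht : N * t = L) (hL : Nat.gcd 3 (p ^ f - 1) * L = LL (p ^ f)) : t = 1 := by
  have hq : 2 ≤ p ^ f := hp.two_le.trans (Nat.le_self_pow (by omega) p)
  have hL0 : 0 < L := by
    rcases Nat.eq_zero_or_pos L with h | h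
    · rw [h, mul_zero] at hL
      exact absurd hL (LL_pos hq).ne
    · exact h
  have hg : Nat.gcd 3 (p ^ f - 1) = 1 ∨ Nat.gcd 3 (p ^ f - 1) = 3 :=
    (Nat.dvd_prime Nat.prime_three).1 (Nat.gcd_dvd_left _ _)
  have hLc : L < c ^ 2 := by
    rw [← ht, hN]
    calc Q * c * t = c * (t * Q) := by ring
      _ < c * c := Nat.mul_lt_mul_of_pos_left htQ (by omega)
      _ = c ^ 2 := by ring
  have hL4 : 4 * L < Q ^ 4 := by
    have h1 : (2 * c) ^ 2 ≤ (Q ^ 2) ^ 2 := Nat.pow_le_pow_left (by omega) 2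
    have h2 : (2 * c) ^ 2 = 4 * c ^ 2 := by ring
    have h3 : (Q ^ 2) ^ 2 = Q ^ 4 := by ring
    omega
  have h12 : 4 * LL (p ^ f) < 3 * Q ^ 4 := by
    rw [← hL]
    rcases hg with hg | hg <;> rw [hg] <;> omega
  have hQL : ℓ ^ m ∣ L := by rw [← ht, hN, ← hQ]; exact (dvd_mul_right Q c).mul_right t
  have hcases := Q_cases hp hf hℓ hne hQL hL
  rw [← hQ] at hcases
  obtain ⟨y, hy⟩ : ∃ y, p ^ f = y + 1 := ⟨p ^ f - 1, by omega⟩
  rw [hy] at hcases h12 hq hL hg
  rw [Nat.add_sub_cancel] at hcases hL hg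
  rcases hcases with ⟨h2, h3⟩ | ⟨h2, h3, h4⟩ | ⟨h2, h3, h4⟩ | ⟨h2, h3⟩ | ⟨h2, h3⟩
  · exact absurd h2 hℓ2
  · exact absurd h2 hℓ2
  · exfalso
    have h5 : Q ≤ y ^ 2 := Nat.le_of_dvd (Nat.pow_pos (by omega)) h4
    have h6 : Q ^ 4 ≤ (y ^ 2) ^ 4 := Nat.pow_le_pow_left h5 4
    have h7 := LL_ge_pow_eight y
    have h9 : (y ^ 2) ^ 4 = y ^ 8 := by ring
    have h10 : 0 < y ^ 8 := Nat.pow_pos (by omega)
    omega
  · exfalso
    have h5 : Q ≤ y + 2 := Nat.le_of_dvd (by omega) h3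
    have h6 : Q ^ 4 ≤ (y + 2) ^ 4 := Nat.pow_le_pow_left h5 4
    rcases Nat.lt_or_ge y 4 with hy4 | hy4
    · have : y = 1 ∨ y = 2 ∨ y = 3 := by omega
      rcases this with rfl | rfl | rfl
      · have : LL (1 + 1) = 168 := rfl
        rw [this] at h12
        norm_num at h12 h6
        omega
      · have : LL (2 + 1) = 5616 := rfl
        rw [this] at h12
        norm_num at h12 h6
        omega
      · have : LL (3 + 1) = 60480 := rfl
        rw [this] at h12
        norm_num at h12 h6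
        omega
    · have h7 := E5 hy4
      have h8 : (y + 2) ^ 4 * 6 ^ 3 ≤ (y + 2) ^ 7 := by
        calc (y + 2) ^ 4 * 6 ^ 3 ≤ (y + 2) ^ 4 * (y + 2) ^ 3 :=
              Nat.mul_le_mul_left _ (Nat.pow_le_pow_left (by omega) 3)
          _ = (y + 2) ^ 7 := by ring
      have h10 : 0 < (y + 2) ^ 4 := Nat.pow_pos (by omega)
      norm_num at h8
      omega
  · have hs : (y + 1) ^ 2 + (y + 1) + 1 = ss y := (ss_eq y).symm
    rw [hs] at h3
    have hs0 : 0 < ss y := by unfold ss; omega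
    have h5 := Nat.le_of_dvd hs0 h3
    have hbig : 3 ≤ y → False := by
      intro hy3
      have h6 := fourB_ge hy3
      have h7 : ss y ^ 4 ≤ 4 * LL (y + 1) := by
        rw [LL_eq]
        calc ss y ^ 4 = ss y ^ 3 * ss y := by ring
          _ ≤ 4 * BB y * ss y := Nat.mul_le_mul_right _ h6
          _ = 4 * (BB y * ss y) := by ring
      rcases hg with hg | hg
      · rw [hg, one_mul] at h5 hL
        have h8 : Q ^ 4 ≤ ss y ^ 4 := Nat.pow_le_pow_left h5 4
        rw [hL] at hL4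
        omega
      · rw [hg] at h5
        have h8 : (3 * Q) ^ 4 ≤ ss y ^ 4 := Nat.pow_le_pow_left h5 4
        have h9 : (3 * Q) ^ 4 = 81 * Q ^ 4 := by ring
        omega
    rcases Nat.lt_or_ge y 3 with hy3 | hy3
    · have : y = 1 ∨ y = 2 := by omega
      rcases this with rfl | rfl
      · have hg1 : Nat.gcd 3 1 = 1 := by norm_num
        rw [hg1, one_mul] at hL h3
        have hLv : L = 168 := by rw [hL]; rfl
        have h7 : Q ∣ 7 := h3
        rcases (Nat.dvd_prime (by norm_num)).1 h7 with h8 | h8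
        · omega
        · rw [h8] at hc hN
          norm_num at hc
          have hc' : c = 24 := by omega
          rw [hc', ] at hN
          rw [hN, hLv] at ht
          omega
      · exfalso
        have hg1 : Nat.gcd 3 2 = 1 := by norm_num
        rw [hg1, one_mul] at hL h3
        have hLv : L = 5616 := by rw [hL]; rfl
        have h7 : Q ∣ 13 := h3
        rcases (Nat.dvd_prime (by norm_num)).1 h7 with h8 | h8
        · omega
        · rw [h8] at hc hN
          norm_num at hc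
          have hc' : c = 84 := by omega
          rw [hc', ] at hN
          rw [hN, hLv] at ht
          omega
    · exact (hbig hy3).elim

/-- cross characteristic, `PSL₂(Q)`, `Q` even -/
theorem cross_L2_even {p f m L t N Q c : ℕ} (hp : p.Prime) (hf : 1 ≤ f) (hne : 2 ≠ p)
    (hQ : Q = 2 ^ m) (hQ4 : 4 ≤ Q) (hN : N = Q * c) (hc : c = Q ^ 2 - 1) (htQ : t * Q < c)
    (ht : N * t = L) (hL : Nat.gcd 3 (p ^ f - 1) * L = LL (p ^ f)) : False := by
  have hq : 2 ≤ p ^ f := hp.two_le.trans (Nat.le_self_pow (by omega) p)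
  have hL0 : 0 < L := by
    rcases Nat.eq_zero_or_pos L with h | h
    · rw [h, mul_zero] at hL
      exact absurd hL (LL_pos hq).ne
    · exact h
  have hg : Nat.gcd 3 (p ^ f - 1) = 1 ∨ Nat.gcd 3 (p ^ f - 1) = 3 :=
    (Nat.dvd_prime Nat.prime_three).1 (Nat.gcd_dvd_left _ _)
  have hLc : L < c ^ 2 := by
    rw [← ht, hN]
    calc Q * c * t = c * (t * Q) := by ring
      _ < c * c := Nat.mul_lt_mul_of_pos_left htQ (by omega)
      _ = c ^ 2 := by ring
  have hL4 : L < Q ^ 4 := by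
    have h1 : c ^ 2 ≤ (Q ^ 2) ^ 2 := Nat.pow_le_pow_left (by omega) 2
    have h3 : (Q ^ 2) ^ 2 = Q ^ 4 := by ring
    omega
  have h12 : LL (p ^ f) < 3 * Q ^ 4 := by
    rw [← hL]
    rcases hg with hg | hg <;> rw [hg] <;> omega
  have hQL : 2 ^ m ∣ L := by rw [← ht, hN, ← hQ]; exact (dvd_mul_right Q c).mul_right t
  have hcases := Q_cases hp hf Nat.prime_two hne hQL hL
  rw [← hQ] at hcases
  have hodd : ¬ 2 ∣ p ^ f := odd_of hp hne
  obtain ⟨y, hy⟩ : ∃ y, p ^ f = y + 1 := ⟨p ^ f - 1, by omega⟩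
  rw [hy] at hcases h12 hq hL hg hodd
  rw [Nat.add_sub_cancel] at hcases hL hg
  rcases hcases with ⟨-, h3⟩ | ⟨-, h3, h4⟩ | ⟨h2, h3, h4⟩ | ⟨h2, h3⟩ | ⟨h2, h3⟩
  · have h5 : Q ≤ 4 * (y + 2) := Nat.le_of_dvd (by omega) h3
    have h6 : Q ^ 4 ≤ (4 * (y + 2)) ^ 4 := Nat.pow_le_pow_left h5 4
    rcases Nat.lt_or_ge y 6 with hy6 | hy6
    · have : y = 2 ∨ y = 4 := by omega
      rcases this with rfl | rfl
      · have hg1 : Nat.gcd 3 2 = 1 := by norm_num
        rw [hg1, one_mul] at hL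
        have hLv : L = 5616 := by rw [hL]; rfl
        have h7 : Q ≤ 16 := h5
        have h9 : Q ∣ 16 := h3
        have h10 : N ∣ 5616 := by rw [← hLv, ← ht]; exact dvd_mul_right _ _
        rw [hN, hc] at h10
        have h11 : Q = 4 ∨ Q = 8 ∨ Q = 16 := by
          interval_cases Q <;> first | (left; rfl) | (right; left; rfl) | (right; right; rfl) |
            (exfalso; revert h9; decide)
        rcases h11 with rfl | rfl | rfl <;> revert h10 <;> norm_num
      · have hg1 : Nat.gcd 3 4 = 1 := by norm_num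
        rw [hg1, one_mul] at hL
        have hLv : L = 372000 := by rw [hL]; rfl
        rw [hLv] at hL4
        norm_num at h6
        omega
    · have h7 := E7 hy6
      have h8 : (y + 2) ^ 4 * 8 ^ 3 ≤ (y + 2) ^ 7 := by
        calc (y + 2) ^ 4 * 8 ^ 3 ≤ (y + 2) ^ 4 * (y + 2) ^ 3 :=
              Nat.mul_le_mul_left _ (Nat.pow_le_pow_left (by omega) 3)
          _ = (y + 2) ^ 7 := by ring
      have h9 : (4 * (y + 2)) ^ 4 = 256 * (y + 2) ^ 4 := by ring
      have h10 : 0 < (y + 2) ^ 4 := Nat.pow_pos (by omega)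
      norm_num at h8
      omega
  · obtain ⟨k, hk⟩ := h4
    have hy0 : 4 ≤ y := by
      have := Nat.le_of_dvd (by omega) h3
      exact this
    have hk0 : 0 < k := by
      rcases Nat.eq_zero_or_pos k with h | h
      · rw [h, mul_zero] at hk
        have : 0 < y ^ 2 := Nat.pow_pos (by omega)
        omega
      · exact h
    have h8 := LL_ge_pow_eight y
    have hk2 : k ≤ 2 := by
      by_contra h
      have h9 : 3 ^ 4 ≤ k ^ 4 := Nat.pow_le_pow_left (by omega) 4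
      have h10 : Q ^ 4 * k ^ 4 = 16 * y ^ 8 := by
        calc Q ^ 4 * k ^ 4 = (Q * k) ^ 4 := by ring
          _ = (2 * y ^ 2) ^ 4 := by rw [hk]
          _ = 16 * y ^ 8 := by ring
      have h11 : Q ^ 4 * 81 ≤ Q ^ 4 * k ^ 4 := Nat.mul_le_mul_left _ h9
      have h13 : 0 < y ^ 8 := Nat.pow_pos (by omega)
      omega
    -- `y` is a power of two
    have hy2 : y ∣ 2 ^ m * 2 := by
      rw [← hQ]
      have h14 : y ∣ Q * k := by rw [← hk]; exact (dvd_pow_self y two_ne_zero).mul_left 2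
      have h15 : k ∣ 2 := by
        have : k = 1 ∨ k = 2 := by omega
        rcases this with rfl | rfl <;> norm_num
      exact h14.trans (Nat.mul_dvd_mul_left Q h15)
    rw [← pow_succ] at hy2
    obtain ⟨a, -, ha⟩ := (Nat.dvd_prime_pow Nat.prime_two).1 hy2
    have hg1 : Nat.gcd 3 y = 1 := by
      rcases hg with hg | hg
      · exact hg
      · exfalso
        have : 3 ∣ y := by rw [← hg]; exact Nat.gcd_dvd_right _ _
        rw [ha] at this
        have := Nat.prime_three.dvd_of_dvd_pow this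
        omega
    rw [hg1, one_mul] at hL
    have hk1 : k = 1 := by
      by_contra hne1
      have hk22 : k = 2 := by omega
      subst hk22
      have h14 : Q = y ^ 2 := by omega
      rw [hL, h14] at hL4
      have h15 : (y ^ 2) ^ 4 = y ^ 8 := by ring
      omega
    subst hk1
    have hQy : Q = 2 * y ^ 2 := by omega
    -- `2 y² - 1` divides `L`
    obtain ⟨w, hw⟩ : ∃ w, 2 * y ^ 2 = w + 1 := ⟨2 * y ^ 2 - 1, by
      have : 0 < y ^ 2 := Nat.pow_pos (by omega)
      omega⟩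
    have hwc : w ∣ c := by
      rw [hc, hQy, hw]
      refine ⟨w + 2, ?_⟩
      have : (w + 1) ^ 2 = w * (w + 2) + 1 := by ring
      rw [this, Nat.add_sub_cancel]
    have hwL : w ∣ LL (y + 1) := by
      rw [← hL, ← ht, hN]
      exact (hwc.mul_left Q).mul_right t
    have hw1 : Nat.Coprime w y := by
      have h14 : Nat.gcd w y ∣ 1 := by
        have h15 : Nat.gcd w y ∣ w + 1 := by
          rw [← hw]
          exact ((Nat.gcd_dvd_right w y).trans (dvd_pow_self y two_ne_zero)).mul_left 2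
        exact (Nat.dvd_add_right (Nat.gcd_dvd_left w y)).1 h15
      exact Nat.dvd_one.1 h14
    have hw2 : Nat.Coprime w (y + 1) := by
      have h14 : Nat.gcd w (y + 1) ∣ 1 := by
        obtain ⟨x, rfl⟩ : ∃ x, y = x + 1 := ⟨y - 1, by omega⟩
        have h15 : w = 2 * x * (x + 1 + 1) + 1 := by
          have : 2 * (x + 1) ^ 2 = 2 * x * (x + 1 + 1) + 1 + 1 := by ring
          omega
        have h16 : Nat.gcd w (x + 1 + 1) ∣ 2 * x * (x + 1 + 1) := (Nat.gcd_dvd_right _ _).mul_left _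
        have h17 : Nat.gcd w (x + 1 + 1) ∣ 2 * x * (x + 1 + 1) + 1 := by
          have := Nat.gcd_dvd_left w (x + 1 + 1)
          rwa [← h15]
        exact (Nat.dvd_add_right h16).1 h17
      exact Nat.dvd_one.1 h14
    have hw3 : w ∣ (y + 2) * ss y := by
      rw [LL_eq] at hwL
      have h14 : BB y * ss y = (y + 1) ^ 3 * (y ^ 2 * ((y + 2) * ss y)) := by unfold BB; ring
      rw [h14] at hwL
      exact (Nat.Coprime.pow_right 2 hw1).dvd_of_dvd_mul_left
        ((Nat.Coprime.pow_right 3 hw2).dvd_of_dvd_mul_left hwL)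
    have hw4 : w ∣ 19 * y + 17 := by
      have h14 : 2 * ((y + 2) * ss y) = w * (y + 5) + (19 * y + 17) := by
        have h15 : 2 * ((y + 2) * ss y) = (2 * y ^ 2) * (y + 5) + (18 * y + 12) := by unfold ss; ring
        rw [h15, hw]
        ring
      have h16 : w ∣ w * (y + 5) + (19 * y + 17) := by rw [← h14]; exact hw3.mul_left 2
      exact (Nat.dvd_add_right (dvd_mul_right w (y + 5))).1 h16
    have hw5 := Nat.le_of_dvd (by omega) hw4
    have hy10 : y ≤ 10 := by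
      by_contra h
      have : 11 * y ≤ y * y := Nat.mul_le_mul_right _ (by omega)
      have h14 : y ^ 2 = y * y := by ring
      omega
    have hy48 : y = 4 ∨ y = 8 := by omega
    rcases hy48 with rfl | rfl
    · have hLv : L = 372000 := by rw [hL]; rfl
      have hQv : Q = 32 := by rw [hQy]; norm_num
      rw [hQv] at hN hc
      norm_num at hc
      rw [hc] at hN
      rw [hN, hLv] at ht
      omega
    · have hwv : w = 127 := by omega
      rw [hwv] at hw4
      revert hw4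
      norm_num
  · exact absurd rfl h2
  · exact absurd rfl h2
  · exact absurd rfl h2

end Cfsg.Agent.H725.ThreeNum
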