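import Cfsg.Agent.H725.RPart

/-!
# Numerical facts on `q³(q² - 1)(q³ - 1)` (helper725)
-/

set_option autoImplicit false

namespace Cfsg.Agent.H725.ThreeNum

/-- `q³(q² - 1)(q³ - 1)` -/
def LL (q : ℕ) : ℕ := q ^ 3 * (q ^ 2 - 1) * (q ^ 3 - 1)

/-- `q³(q - 1)²(q + 1)` in terms of `y = q - 1` -/
def BB (y : ℕ) : ℕ := (y + 1) ^ 3 * y ^ 2 * (y + 2)

def ss (y : ℕ) : ℕ := y ^ 2 + 3 * y + 3

theorem LL_eq (y : ℕ) : LL (y + 1) = BB y * ss y := by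
  have h := RPart.fact_form (q := y + 1) (by omega)
  unfold LL BB ss
  rw [mul_assoc, h, Nat.add_sub_cancel]
  ring

theorem ss_eq (y : ℕ) : ss y = (y + 1) ^ 2 + (y + 1) + 1 := by unfold ss; ring

theorem LL_pos {q : ℕ} (hq : 2 ≤ q) : 0 < LL q := by
  obtain ⟨y, rfl⟩ : ∃ y, q = y + 1 := ⟨q - 1, by omega⟩
  have : 0 < y := by omega
  rw [LL_eq]
  unfold BB ss
  positivity

theorem LL_ge_pow_eight (y : ℕ) : y ^ 8 ≤ LL (y + 1) := by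
  rw [LL_eq]
  have : BB y * ss y = y ^ 8 + (8 * y ^ 7 + 27 * y ^ 6 + 49 * y ^ 5 + 50 * y ^ 4 + 27 * y ^ 3 + 6 * y ^ 2) := by
    unfold BB ss; ring
  omega

theorem LL_ge' (y : ℕ) : y ^ 7 * (y + 8) ≤ LL (y + 1) := by
  rw [LL_eq]
  have : BB y * ss y = y ^ 7 * (y + 8) + (27 * y ^ 6 + 49 * y ^ 5 + 50 * y ^ 4 + 27 * y ^ 3 + 6 * y ^ 2) := by
    unfold BB ss; ring
  omega

theorem LL_lt_pow {q : ℕ} (hq : 2 ≤ q) : LL q < q ^ 8 := by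
  have h1 : 0 < q ^ 2 := Nat.pow_pos (by omega)
  have h2 : 0 < q ^ 3 := Nat.pow_pos (by omega)
  calc LL q = q ^ 3 * (q ^ 2 - 1) * (q ^ 3 - 1) := rfl
    _ ≤ q ^ 3 * q ^ 2 * (q ^ 3 - 1) := Nat.mul_le_mul_right _ (Nat.mul_le_mul_left _ (by omega))
    _ < q ^ 3 * q ^ 2 * q ^ 3 := Nat.mul_lt_mul_of_pos_left (by omega) (Nat.mul_pos h2 h1)
    _ = q ^ 8 := by ring

theorem E5 {y : ℕ} (hy : 4 ≤ y) : (y + 2) ^ 7 ≤ LL (y + 1) := by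
  obtain ⟨z, rfl⟩ : ∃ z, y = z + 4 := ⟨y - 4, by omega⟩
  rw [LL_eq]
  have : BB (z + 4) * ss (z + 4) = (z + 4 + 2) ^ 7 + (1 * z ^ 8 + 39 * z ^ 7 + 657 * z ^ 6 + 6213 * z ^ 5 +
      35790 * z ^ 4 + 126891 * z ^ 3 + 263594 * z ^ 2 + 276608 * z + 92064) := by
    unfold BB ss; ring
  omega

theorem E7 {y : ℕ} (hy : 6 ≤ y) : 2 * (y + 2) ^ 7 ≤ LL (y + 1) := by
  obtain ⟨z, rfl⟩ : ∃ z, y = z + 6 := ⟨y - 6, by omega⟩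
  rw [LL_eq]
  have : BB (z + 6) * ss (z + 6) = 2 * (z + 6 + 2) ^ 7 + (1 * z ^ 8 + 54 * z ^ 7 + 1259 * z ^ 6 + 16477 * z ^ 5 +
      131460 * z ^ 4 + 647123 * z ^ 3 + 1878492 * z ^ 2 + 2805628 * z + 1436384) := by
    unfold BB ss; ring
  omega

theorem B_ge {y : ℕ} (hy : 3 ≤ y) : (y + 1) * ss y ^ 2 ≤ BB y := by
  obtain ⟨z, rfl⟩ : ∃ z, y = z + 3 := ⟨y - 3, by omega⟩
  have : BB (z + 3) = (z + 3 + 1) * ss (z + 3) ^ 2 + (1 * z ^ 6 + 22 * z ^ 5 + 197 * z ^ 4 + 910 * z ^ 3 +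
      2246 * z ^ 2 + 2703 * z + 1116) := by
    unfold BB ss; ring
  omega

theorem fourB_ge {y : ℕ} (hy : 3 ≤ y) : ss y ^ 3 ≤ 4 * BB y := by
  obtain ⟨z, rfl⟩ : ∃ z, y = z + 3 := ⟨y - 3, by omega⟩
  have : 4 * BB (z + 3) = ss (z + 3) ^ 3 + (3 * z ^ 6 + 65 * z ^ 5 + 570 * z ^ 4 + 2557 * z ^ 3 + 6038 * z ^ 2 +
      6717 * z + 2259) := by
    unfold BB ss; ring
  omega

/-- `L'^3 ≥ s^10` for `q ≥ 3` -/
theorem LL_cube_ge {y : ℕ} (hy : 2 ≤ y) : ss y ^ 10 ≤ LL (y + 1) ^ 3 := by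
  rw [LL_eq, mul_pow]
  have key : ss y ^ 7 ≤ BB y ^ 3 := by
    rcases Nat.lt_or_ge y 3 with h | h
    · have : y = 2 := by omega
      subst this
      decide
    · have h1 := Nat.pow_le_pow_left (B_ge h) 3
      refine le_trans ?_ h1
      have h2 : ss y ≤ (y + 1) ^ 3 := by
        have : (y + 1) ^ 3 = ss y + (y ^ 3 + 2 * y ^ 2 - 2) := by
          have h3 : 3 ^ 3 ≤ y ^ 3 := Nat.pow_le_pow_left h 3
          have h4 : (y + 1) ^ 3 = y ^ 3 + 3 * y ^ 2 + 3 * y + 1 := by ring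
          rw [h4]
          unfold ss
          omega
        omega
      calc ss y ^ 7 = ss y * (ss y ^ 2) ^ 3 := by ring
        _ ≤ (y + 1) ^ 3 * (ss y ^ 2) ^ 3 := Nat.mul_le_mul_right _ h2
        _ = ((y + 1) * ss y ^ 2) ^ 3 := by ring
  calc ss y ^ 10 = ss y ^ 7 * ss y ^ 3 := by ring
    _ ≤ BB y ^ 3 * ss y ^ 3 := Nat.mul_le_mul_right _ key

end Cfsg.Agent.H725.ThreeNum
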